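import Cfsg.Agent.Lib.Ree.Five.Eqns

/-!
# The second shape
-/

set_option autoImplicit false
set_option linter.unusedSectionVars false

namespace CfsgLib.ReeType.Five

open scoped ComplexConjugate
open Subgroup Cfsg CfsgLib.Char CfsgLib.Char.Signed

universe u

attribute [local instance] _root_.Classical.propDecidable

variable {G : Type u} [Group G] [Fintype G] {q m n : ℕ}

namespace Ctx

variable {T : Setup G q m n} {C : Ctx T}

namespace ShapeTwo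

variable (S : C.ShapeTwo)

theorem sgs : Sg S.S1 ∧ Sg S.S2 ∧ Sg S.E1 ∧ Sg S.E2 ∧ Sg S.F1 ∧ Sg S.F2 :=
  ⟨S.orth.1 _ (by simp), S.orth.1 _ (by simp), S.orth.1 _ (by simp), S.orth.1 _ (by simp),
    S.orth.1 _ (by simp), S.orth.1 _ (by simp)⟩

theorem orth_six : Orth [S.S1, S.S2, S.E1, S.E2, S.F1, S.F2] :=
  ⟨fun v hv => S.orth.1 v (List.mem_cons_of_mem _ hv), (List.pairwise_cons.1 S.orth.2).2⟩

/-- The coefficients of `M`, `X_0`, `X_1` on the six constituents. -/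
theorem profiles :
    (iq C.LM S.S1 = -1 ∧ iq (C.LX 0) S.S1 = 1 ∧ iq (C.LX 1) S.S1 = 1) ∧
    (iq C.LM S.S2 = 0 ∧ iq (C.LX 0) S.S2 = 1 ∧ iq (C.LX 1) S.S2 = 1) ∧
    (iq C.LM S.E1 = -1 ∧ iq (C.LX 0) S.E1 = 1 ∧ iq (C.LX 1) S.E1 = 0) ∧
    (iq C.LM S.E2 = 0 ∧ iq (C.LX 0) S.E2 = 1 ∧ iq (C.LX 1) S.E2 = 0) ∧
    (iq C.LM S.F1 = -1 ∧ iq (C.LX 0) S.F1 = 0 ∧ iq (C.LX 1) S.F1 = 1) ∧
    (iq C.LM S.F2 = 0 ∧ iq (C.LX 0) S.F2 = 0 ∧ iq (C.LX 1) S.F2 = 1) := by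
  obtain ⟨g1, g2, g3, g4, g5, g6⟩ := S.sgs
  have hp := S.orth.2
  simp only [List.pairwise_cons, List.mem_cons, List.not_mem_nil, or_false, forall_eq_or_imp,
    forall_eq, IsEmpty.forall_iff, implies_true, List.Pairwise.nil, and_true] at hp
  obtain ⟨⟨o1, o2, o3, o4, o5, o6⟩, ⟨a2, a3, a4, a5, a6⟩, ⟨b3, b4, b5, b6⟩, ⟨c4, c5, c6⟩, ⟨d5, d6⟩, e6⟩ :=
    hp
  refine ⟨⟨iq_eq _ ?_, iq_eq _ ?_, iq_eq _ ?_⟩, ⟨iq_eq _ ?_, iq_eq _ ?_, iq_eq _ ?_⟩,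
    ⟨iq_eq _ ?_, iq_eq _ ?_, iq_eq _ ?_⟩, ⟨iq_eq _ ?_, iq_eq _ ?_, iq_eq _ ?_⟩,
    ⟨iq_eq _ ?_, iq_eq _ ?_, iq_eq _ ?_⟩, ⟨iq_eq _ ?_, iq_eq _ ?_, iq_eq _ ?_⟩⟩
  all_goals
    first | rw [S.eM] | rw [S.eX0] | rw [S.eX1]
  all_goals
    simp only [classInner_add_left, classInner_sub_left, g1.2, g2.2, g3.2, g4.2, g5.2, g6.2,
      iq_spec sg_oneC.gen g1.gen, iq_spec sg_oneC.gen g2.gen, iq_spec sg_oneC.gen g3.gen,
      iq_spec sg_oneC.gen g4.gen, iq_spec sg_oneC.gen g5.gen, iq_spec sg_oneC.gen g6.gen,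
      iq_spec g1.gen g2.gen, iq_spec g1.gen g3.gen, iq_spec g1.gen g4.gen, iq_spec g1.gen g5.gen,
      iq_spec g1.gen g6.gen, iq_spec g2.gen g1.gen, iq_spec g2.gen g3.gen, iq_spec g2.gen g4.gen,
      iq_spec g2.gen g5.gen, iq_spec g2.gen g6.gen, iq_spec g3.gen g1.gen, iq_spec g3.gen g2.gen,
      iq_spec g3.gen g4.gen, iq_spec g3.gen g5.gen, iq_spec g3.gen g6.gen, iq_spec g4.gen g1.gen,
      iq_spec g4.gen g2.gen, iq_spec g4.gen g3.gen, iq_spec g4.gen g5.gen, iq_spec g4.gen g6.gen,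
      iq_spec g5.gen g1.gen, iq_spec g5.gen g2.gen, iq_spec g5.gen g3.gen, iq_spec g5.gen g4.gen,
      iq_spec g5.gen g6.gen, iq_spec g6.gen g1.gen, iq_spec g6.gen g2.gen, iq_spec g6.gen g3.gen,
      iq_spec g6.gen g4.gen, iq_spec g6.gen g5.gen,
      iq_comm g2.gen g1.gen, iq_comm g3.gen g1.gen, iq_comm g4.gen g1.gen, iq_comm g5.gen g1.gen,
      iq_comm g6.gen g1.gen, iq_comm g3.gen g2.gen, iq_comm g4.gen g2.gen, iq_comm g5.gen g2.gen,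
      iq_comm g6.gen g2.gen, iq_comm g4.gen g3.gen, iq_comm g5.gen g3.gen, iq_comm g6.gen g3.gen,
      iq_comm g5.gen g4.gen, iq_comm g6.gen g4.gen, iq_comm g6.gen g5.gen,
      o1, o2, o3, o4, o5, o6, a2, a3, a4, a5, a6, b3, b4, b5, b6, c4, c5, c6, d5, d6, e6,
      Int.cast_zero, add_zero, zero_add, sub_zero, zero_sub]
  all_goals norm_num

/-- The values of the six constituents at `t`. -/
theorem values : S.S1 T.t = (q : ℂ) ∧ S.S2 T.t = (2 * n : ℂ) ∧ S.E1 T.t = (2 * m : ℂ) ∧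
    S.E2 T.t = (n : ℂ) ∧ S.F1 T.t = (2 * m : ℂ) ∧ S.F2 T.t = (n : ℂ) := by
  obtain ⟨g1, g2, g3, g4, g5, g6⟩ := S.sgs
  obtain ⟨⟨a1, b1, c1⟩, ⟨a2, b2, c2⟩, ⟨a3, b3, c3⟩, ⟨a4, b4, c4⟩, ⟨a5, b5, c5⟩, a6, b6, c6⟩ :=
    S.profiles
  have hn := C.cast_n'
  have hq := C.cast_q'
  refine ⟨?_, ?_, ?_, ?_, ?_, ?_⟩
  · rw [(C.row_at g1 a1 b1 c1 (by omega) (by omega) (by omega)).2.2,
      show (-1 : ℤ) + (n : ℤ) * (1 + 1) = q by omega, Int.cast_natCast]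
  · rw [(C.row_at g2 a2 b2 c2 (by omega) (by omega) (by omega)).2.2]; push_cast; ring
  · rw [(C.row_at g3 a3 b3 c3 (by omega) (by omega) (by omega)).2.2,
      show (-1 : ℤ) + (n : ℤ) * (1 + 0) = 2 * m by omega]
    push_cast; rfl
  · rw [(C.row_at g4 a4 b4 c4 (by omega) (by omega) (by omega)).2.2]; push_cast; ring
  · rw [(C.row_at g5 a5 b5 c5 (by omega) (by omega) (by omega)).2.2,
      show (-1 : ℤ) + (n : ℤ) * (0 + 1) = 2 * m by omega]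
    push_cast; rfl
  · rw [(C.row_at g6 a6 b6 c6 (by omega) (by omega) (by omega)).2.2]; push_cast; ring

theorem rows : C.Row S.E1 ∧ C.Row S.E2 ∧ C.kap S.E1 = 0 := by
  obtain ⟨g1, g2, g3, g4, g5, g6⟩ := S.sgs
  obtain ⟨-, -, ⟨a3, b3, c3⟩, ⟨a4, b4, c4⟩, -, -⟩ := S.profiles
  obtain ⟨r3, k3, -⟩ := C.row_at g3 a3 b3 c3 (by omega) (by omega) (by omega)
  exact ⟨r3, (C.row_at g4 a4 b4 c4 (by omega) (by omega) (by omega)).1, k3.trans (by norm_num)⟩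

/-- The remainder of `F_φ` is `E_2 + F_2`. -/
theorem exc_split {J : ℕ} (hJ0 : 0 < J)
    (hD : ∀ (φ : C.F.A →* ℂˣ) (E : C.Exc φ), φ ≠ 1 → E.D = -(2 * n : ℤ) * J)
    {φ : C.F.A →* ℂˣ} (hφ : φ ≠ 1) :
    iq (C.Fd φ) S.E1 = 0 ∧ iq (C.Fd φ) S.E2 = 1 ∧ S.E2 1 = -(n : ℂ) * J ∧ S.F2 1 = -(n : ℂ) * J := by
  obtain ⟨E⟩ := C.exists_exc hφ
  obtain ⟨R, hRg, hR2, hR1, hRt, hRq, hRM, hRX, hRo, hRrow⟩ := exists_R E hφ
  obtain ⟨g1, g2, g3, g4, g5, g6⟩ := S.sgs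
  obtain ⟨v1, v2, v3, v4, v5, v6⟩ := S.values
  obtain ⟨rE1, rE2, -⟩ := S.rows
  have hn0 : (n : ℂ) ≠ 0 := by exact_mod_cast C.facts.n_pos.ne'
  have hD0 : (E.D : ℂ) ≠ 0 := by exact_mod_cast E.D_ne
  have hJc : (E.D : ℂ) = -(2 * n : ℂ) * J := by rw [hD φ E hφ]; push_cast; ring
  have hRo' : iq R (oneC : G → ℂ) = 0 := hRo
  have h12 := isGeneralizedCharacter_add g1.gen g2.gen
  have eM : -iq R S.S1 - iq R S.E1 - iq R S.F1 = 0 := by
    have h0 := hRM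
    rw [S.eM, iq_sub_right hRg (isGeneralizedCharacter_sub (isGeneralizedCharacter_sub sg_oneC.gen g1.gen)
        g3.gen) g5.gen, iq_sub_right hRg (isGeneralizedCharacter_sub sg_oneC.gen g1.gen) g3.gen,
      iq_sub_right hRg sg_oneC.gen g1.gen, hRo'] at h0
    omega
  have e0 : iq R S.S1 + iq R S.S2 + iq R S.E1 + iq R S.E2 = 1 := by
    have h0 := hRX 0
    rwa [S.eX0, iq_add_right hRg (isGeneralizedCharacter_add h12 g3.gen) g4.gen,
      iq_add_right hRg h12 g3.gen, iq_add_right hRg g1.gen g2.gen] at h0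
  have e1 : iq R S.S1 + iq R S.S2 + iq R S.F1 + iq R S.F2 = 1 := by
    have h0 := hRX 1
    rwa [S.eX1, iq_add_right hRg (isGeneralizedCharacter_add h12 g5.gen) g6.gen,
      iq_add_right hRg h12 g5.gen, iq_add_right hRg g1.gen g2.gen] at h0
  have hb := S.orth_six.bessel hRg
  simp only [List.map_cons, List.map_nil, List.sum_cons, List.sum_nil, add_zero, hR2] at hb
  generalize hx1 : iq R S.S1 = x1 at *
  generalize hx2 : iq R S.S2 = x2 at *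
  generalize hy1 : iq R S.E1 = y1 at *
  generalize hy2 : iq R S.E2 = y2 at *
  generalize hz1 : iq R S.F1 = z1 at *
  generalize hz2 : iq R S.F2 = z2 at *
  have hx1b : -1 ≤ x1 ∧ x1 ≤ 1 := ⟨by nlinarith, by nlinarith⟩
  have hx2b : -1 ≤ x2 ∧ x2 ≤ 1 := ⟨by nlinarith, by nlinarith⟩
  have hy1b : -1 ≤ y1 ∧ y1 ≤ 1 := ⟨by nlinarith, by nlinarith⟩
  obtain rfl : z1 = -x1 - y1 := by omega
  obtain rfl : y2 = 1 - x1 - x2 - y1 := by omega
  obtain rfl : z2 = 1 - x2 + y1 := by omega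
  have hcases : (x1 = 0 ∧ x2 = 1 ∧ y1 = 0) ∨ (x1 = 0 ∧ x2 = 0 ∧ y1 = 0) := by
    obtain ⟨a, a'⟩ := hx1b
    obtain ⟨b, b'⟩ := hx2b
    obtain ⟨c, c'⟩ := hy1b
    interval_cases x1 <;> interval_cases x2 <;> interval_cases y1 <;> revert hb <;> norm_num
  rcases hcases with ⟨rfl, rfl, rfl⟩ | ⟨rfl, rfl, rfl⟩
  · exfalso
    have hOg : Gen (R - S.S2) := isGeneralizedCharacter_sub hRg g2.gen
    have hO : Sg (R - S.S2) := Sg.of_iq hOg (by
      rw [iq_sub_left hRg g2.gen hOg, iq_sub_right hRg hRg g2.gen, iq_sub_right g2.gen hRg g2.gen,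
        hR2, hx2, iq_comm g2.gen hRg, hx2, g2.iq_self]
      norm_num)
    have hq : qfun T.t S.S2 + qfun T.t (R - S.S2) = qfun T.t R := by
      rw [← qfun_add, add_sub_cancel]
    rw [qfun_sg _ g2, qfun_sg _ hO, hRq, Pi.sub_apply, hRt, v2, sub_self, zero_pow two_ne_zero,
      zero_div, add_zero] at hq
    have hs : S.S2 1 = (E.D : ℂ) := by
      have h := g2.apply_one_ne
      field_simp at hq
      exact hq.symm
    exact hO.apply_one_ne (by rw [Pi.sub_apply, hR1, hs, sub_self])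
  · have hsplit : R = S.E2 + S.F2 := by
      refine eq_of_two_coef hRg hR2 g4 g6 ?_ (hy2.trans (by norm_num)) (hz2.trans (by norm_num))
      have hp := S.orth.2
      simp only [List.pairwise_cons, List.mem_cons, List.not_mem_nil, or_false, forall_eq_or_imp,
        forall_eq, IsEmpty.forall_iff, implies_true, List.Pairwise.nil, and_true] at hp
      exact hp.2.2.2.2.1.2
    have hq : qfun T.t R = qfun T.t S.E2 + qfun T.t S.F2 := by rw [← qfun_add, ← hsplit]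
    rw [qfun_sg _ g4, qfun_sg _ g6, hRq, v4, v6] at hq
    have hsum : S.E2 1 + S.F2 1 = (E.D : ℂ) := by rw [← hR1, hsplit, Pi.add_apply]
    have ha := g4.apply_one_ne
    have hb' := g6.apply_one_ne
    field_simp at hq
    have heq : S.E2 1 = S.F2 1 := by
      refine sub_eq_zero.1 (pow_eq_zero_iff (two_ne_zero) |>.1 (?_ : (S.E2 1 - S.F2 1) ^ 2 = 0))
      linear_combination -hq + (S.E2 1 + S.F2 1) * hsum
    have hhalf : S.E2 1 = -(n : ℂ) * J := by linear_combination (1 / 2 : ℂ) * (hsum + hJc + heq)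
    exact ⟨(hRrow _ rE1).trans (hy1.trans (by norm_num)), (hRrow _ rE2).trans (hy2.trans (by norm_num)),
      hhalf, heq ▸ hhalf⟩

end ShapeTwo

/-- The second shape does not occur. -/
theorem second_case (C : Ctx T) (S : C.ShapeTwo) : False := by
  obtain ⟨J, hJ0, hJ, hD⟩ := C.exists_global_J
  obtain ⟨φ₀, hφ₀⟩ := C.exists_phi
  obtain ⟨g1, g2, g3, g4, g5, g6⟩ := S.sgs
  obtain ⟨v1, v2, v3, v4, v5, v6⟩ := S.values
  obtain ⟨rE1, -, kE1⟩ := S.rows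
  obtain ⟨-, -, d4, d6⟩ := S.exc_split hJ0 hD hφ₀
  obtain ⟨c, hc0, hc⟩ := g1.apply_one_int
  obtain ⟨s, hs0, hs⟩ := g2.apply_one_int
  obtain ⟨e, he0, he⟩ := g3.apply_one_int
  obtain ⟨f, hf0, hf⟩ := g5.apply_one_int
  have hM := congrFun S.eM 1
  have hX0 := congrFun S.eX0 1
  have hX1 := congrFun S.eX1 1
  simp only [LM_one, LX_one, Pi.add_apply, Pi.sub_apply, oneC, hc, hs, he, hf, d4, d6] at hM hX0 hX1
  have hfe : f = e := by
    have : (f : ℂ) = e := by linear_combination hX0 - hX1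
    exact_mod_cast this
  subst f
  have hce : c = 1 - 2 * e := by
    have : (c : ℂ) = 1 - 2 * e := by linear_combination hM
    exact_mod_cast this
  have hse : c + s + e + -(n : ℤ) * J = 0 := by
    have : ((c + s + e + -(n : ℤ) * J : ℤ) : ℂ) = 0 := by push_cast; linear_combination -hX0
    exact_mod_cast this
  -- the two equations
  have hq : (q : ℚ) - 1 = 4 * m := by
    have := C.facts.hm; rw [this]; push_cast; ring
  have hn : (q : ℚ) + 1 = 2 * n := by exact_mod_cast C.facts.hn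
  have e0 : (1 : ℚ) - (q : ℚ) ^ 2 / c - ((q : ℚ) - 1) ^ 2 / (2 * e) =
      ((q : ℚ) ^ 2 - 1) * ((q : ℚ) + 1) / ((q : ℚ) * J) := by
    have h := C.qfun_LM hJ hJ0
    rw [S.eM, qfun_sub, qfun_sub, qfun_sub, qfun_oneC, qfun_sg _ g1, qfun_sg _ g3, qfun_sg _ g5,
      v1, v3, v5, hc, he, hf] at h
    have h' : ((1 - (q : ℚ) ^ 2 / c - (2 * m) ^ 2 / e - (2 * m) ^ 2 / e : ℚ) : ℂ) =
        ((((q : ℚ) ^ 2 - 1) * ((q : ℚ) + 1) / ((q : ℚ) * J) : ℚ) : ℂ) := by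
      rw [← h]; push_cast; ring
    rw [← Rat.cast_injective h', hq]
    ring
  have e1 : (q : ℚ) ^ 2 / c + ((q : ℚ) + 1) ^ 2 / s + ((q : ℚ) - 1) ^ 2 / (4 * e) +
      (n : ℚ) ^ 2 / ((-(n : ℤ) * J : ℤ) : ℚ) =
      ((q : ℚ) + 1) * (3 * (q : ℚ) + 1) / ((q : ℚ) * J) := by
    have h := C.qfun_LX hJ hJ0 0
    rw [S.eX0, qfun_add, qfun_add, qfun_add, qfun_sg _ g1, qfun_sg _ g2, qfun_sg _ g3, qfun_sg _ g4,
      v1, v2, v3, v4, hc, hs, he, d4] at h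
    have h' : (((q : ℚ) ^ 2 / c + (2 * n) ^ 2 / s + (2 * m) ^ 2 / e +
        (n : ℚ) ^ 2 / (-(n : ℚ) * J) : ℚ) : ℂ) =
        ((((q : ℚ) + 1) * (3 * (q : ℚ) + 1) / ((q : ℚ) * J) : ℚ) : ℂ) := by
      rw [← h]; push_cast; ring
    rw [← Rat.cast_injective h', hq, hn]
    push_cast
    ring
  -- the two congruences
  have hem : 4 * (m : ℤ) ∣ e - 2 * m := by
    obtain ⟨z, hz⟩ := C.congr_DX g3.gen (fun θ hθ => rE1.iq_LP hθ)
      (fun φ hφ => (S.exc_split hJ0 hD hφ).1) he (v := 2 * (m : ℤ)) (by rw [v3]; push_cast; rfl)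
    rw [kE1] at hz
    exact ⟨2 * z - 2 - 2 * m, by linear_combination hz⟩
  obtain ⟨j, hj⟩ := C.facts.m_odd
  have hJ8 : (8 : ℤ) ∣ (J : ℤ) - 7 := by
    obtain ⟨z, hz⟩ := C.congr_eight g4.gen (d := -(n : ℤ) * J) (v := (n : ℤ))
      (by rw [d4]; push_cast; rfl) (by rw [v4]; push_cast; rfl)
    have hm' : (m : ℤ) = 2 * j + 1 := by exact_mod_cast hj
    rw [C.cast_n'] at hz
    rw [hm'] at hz
    refine ⟨-(4 * j + 3) * z - (2 * j + 1) * (j + 1) * ((J : ℤ) - 7), ?_⟩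
    linear_combination -(4 * (j : ℤ) + 3) * hz
  obtain ⟨f, -, hpf⟩ := C.facts.data.q_pow
  exact false_of_T (q := (q : ℤ)) (m := (m : ℤ)) (H := (n : ℤ)) (J := (J : ℤ)) (e := e)
    (e' := -(n : ℤ) * J) (c := c) (s := s) C.facts.data.prime_p (by exact_mod_cast hpf) C.cast_q'
    (by exact_mod_cast C.seven_le) (by exact_mod_cast hJ0) he0 C.cast_n' hce hse rfl hem
    ⟨j, by exact_mod_cast hj⟩ hJ8 (by push_cast; exact e0) (by push_cast at e1 ⊢; exact e1)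

end Ctx

end CfsgLib.ReeType.Five
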