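import Cfsg.Agent.Lib.Ree.Five.CaseOne
import Cfsg.Agent.Lib.Ree.Five.CaseTwo

/-!
# No group has an involution centralizer `2 × PSL(2, q)`, `q ≡ 5 (mod 8)`, `q > 5`
-/

set_option autoImplicit false

namespace CfsgLib.ReeType.Five

universe u

/-- The torus configuration is contradictory. -/
theorem Setup.false_of_torus {G : Type u} [Group G] [Fintype G] {q m n : ℕ} (T : Setup G q m n)
    (X : Torus T) : False := by
  obtain ⟨C⟩ := X.exists_ctx
  rcases C.shapes with ⟨⟨S⟩⟩ | ⟨⟨S⟩⟩
  · exact C.first_case S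
  · exact C.second_case S

end CfsgLib.ReeType.Five
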