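import Mathlib

/-!
# An involution centralizer `2 × PSL(2, q)` with `q ≡ 5 (mod 8)`: the configuration

`Setup` fixes the involution and its centralizer, `Torus` records the local structure at the odd part
of the torus of order `(q-1)/2`: `C(b) = ⟨t, u⟩ × ⟨a⟩` for `b ∈ ⟨a⟩ - 1` and an element `τ` of order
three permuting the four-group and acting on `⟨a⟩` without fixed points.
-/

set_option autoImplicit false

namespace CfsgLib.ReeType.Five

open Subgroup

universe u

/-- `K` is `PSL(2, q)` for a prime power `q = 4 m + 1 = 2 n - 1 > 5` with `m` odd. -/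
structure Kit (K : Type*) [Group K] (q m n : ℕ) : Prop where
  iso : ∃ (F : Type) (_ : Field F) (_ : Fintype F), Fintype.card F = q ∧
    Nonempty (K ≃* Matrix.ProjectiveSpecialLinearGroup (Fin 2) F)
  hm : q = 4 * m + 1
  hn : q + 1 = 2 * n
  m_odd : Odd m
  five_lt : 5 < q

/-- An involution with centralizer of odd index `⟨t⟩ × K` in a group with one class of involutions. -/
structure Setup (G : Type u) [Group G] (q m n : ℕ) where
  t : G
  K : Subgroup G
  kit : Kit K q m n
  order_t : orderOf t = 2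
  comm_t : ∀ c ∈ K, Commute c t
  mem_or : ∀ c : G, Commute c t → c ∈ K ∨ t * c ∈ K
  not_mem : t ∉ K
  odd_index : Odd (centralizer ({t} : Set G)).index
  conj : ∀ x : G, orderOf x = 2 → IsConj t x
  two_sq : ∀ g : G, ¬ 4 ∣ orderOf g

/-- The local structure at the torus of order `(q-1)/4`. -/
structure Torus {G : Type u} [Group G] {q m n : ℕ} (T : Setup G q m n) where
  u : G
  a : G
  x : G
  τ : G
  u_mem : u ∈ T.K
  order_u : orderOf u = 2
  a_mem : a ∈ T.K
  order_a : orderOf a = m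
  a_u : Commute a u
  x_mem : T.t * x ∈ T.K
  order_x : orderOf x = 2
  x_u : Commute x u
  x_ne : x ≠ u
  x_a : x * a * x⁻¹ = a⁻¹
  cent : ∀ b ∈ zpowers a, b ≠ 1 → ∀ g : G, Commute g b →
    ∃ e : G, (e = 1 ∨ e = T.t ∨ e = u ∨ e = T.t * u) ∧ ∃ c ∈ zpowers a, g = e * c
  order_τ : orderOf τ = 3
  τ_t : τ * T.t * τ⁻¹ = u
  τ_u : τ * u * τ⁻¹ = T.t * u
  τ_x : Commute τ x
  τ_a : τ * a * τ⁻¹ ∈ zpowers a
  τ_fpf : ∀ b ∈ zpowers a, Commute τ b → b = 1
  one_lt_m : 1 < m

end CfsgLib.ReeType.Five
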