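import Mathlib

/-!
# Groups of Janko-Ree shape with `q ≡ 5 mod 8`: the degree equations have no solution

`q = 4 * m + 1`, `H = (q + 1) / 2`, `J` is the number of involutions divided by `q ^ 2`.
-/

set_option autoImplicit false

namespace CfsgLib.ReeType.Five

/-- The first shape: the excluded pair contains the second character of degree `q w`. -/
theorem false_of_W {q m H J w c c' a a' : ℤ} (hm : q = 4 * m + 1) (hm7 : 7 ≤ m) (hH : H = 2 * m + 1)
    (hJ : 0 < J) (hw0 : w ≠ 0) (hc0 : c ≠ 0) (hc'0 : c' ≠ 0) (ha0 : a ≠ 0) (ha'0 : a' ≠ 0)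
    (hw : w + c' = -(q + 1) * J) (hcw : c' = q * w) (hM : 1 + w = c + c')
    (hX : a + a' + c + c' = 0)
    (e0 : (1 : ℚ) + 1 / w - (q : ℚ) ^ 2 / c - (q : ℚ) ^ 2 / c' =
      ((q : ℚ) ^ 2 - 1) * ((q : ℚ) + 1) / ((q : ℚ) * J))
    (e1 : (H : ℚ) ^ 2 * (1 / a + 1 / a') + (q : ℚ) ^ 2 * (1 / c + 1 / c') =
      ((q : ℚ) + 1) * (3 * (q : ℚ) + 1) / ((q : ℚ) * J)) : False := by
  have hq : 29 ≤ q := by omega
  have hqQ : (q : ℚ) ≠ 0 := by exact_mod_cast (show q ≠ 0 by omega)
  have hJQ : (J : ℚ) ≠ 0 := by exact_mod_cast hJ.ne'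
  have hwQ : (w : ℚ) ≠ 0 := by exact_mod_cast hw0
  have hcQ : (c : ℚ) ≠ 0 := by exact_mod_cast hc0
  have hc'Q : (c' : ℚ) ≠ 0 := by exact_mod_cast hc'0
  have haQ : (a : ℚ) ≠ 0 := by exact_mod_cast ha0
  have ha'Q : (a' : ℚ) ≠ 0 := by exact_mod_cast ha'0
  have hwJ : w = -J := by
    have : (q + 1) * (w + J) = 0 := by linear_combination hw - hcw
    rcases mul_eq_zero.1 this with h | h <;> omega
  have hc' : c' = -q * J := by rw [hcw, hwJ]; ring
  have hc : c = 1 + (q - 1) * J := by linear_combination -hM + hwJ - hc'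
  field_simp at e0 e1
  have E0 : (w * c * c' + c * c' - q ^ 2 * w * c' - q ^ 2 * w * c) * (q * J) =
      (q ^ 2 - 1) * (q + 1) * (w * c * c') := by
    have : ((w * c * c' + c * c' - q ^ 2 * w * c' - q ^ 2 * w * c) * (q * J) : ℚ) =
      (q ^ 2 - 1) * (q + 1) * (w * c * c') := by linear_combination e0
    exact_mod_cast this
  have E1 : (H ^ 2 * (a' + a) * (c * c') + q ^ 2 * (c' + c) * (a * a')) * (q * J) =
      (q + 1) * (3 * q + 1) * (a * a' * (c * c')) := by
    have : ((H ^ 2 * (a' + a) * (c * c') + q ^ 2 * (c' + c) * (a * a')) * (q * J) : ℚ) =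
      (q + 1) * (3 * q + 1) * (a * a' * (c * c')) := by linear_combination e1
    exact_mod_cast this
  have hroot : (J - 1 - q * (q + 1)) * (q * (J - 1) + (q + 1)) = 0 := by
    subst hwJ hc' hc
    have h1 : q * J ^ 2 * ((q - 1) * ((J - 1 - q * (q + 1)) * (q * (J - 1) + (q + 1)))) = 0 := by
      linear_combination E0
    rcases mul_eq_zero.1 h1 with h | h
    · rcases mul_eq_zero.1 h with h' | h'
      · omega
      · exact absurd (pow_eq_zero_iff (two_ne_zero) |>.1 h') hJ.ne'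
    · rcases mul_eq_zero.1 h with h' | h'
      · omega
      · exact h'
  have hJq : J = q ^ 2 + q + 1 := by
    rcases mul_eq_zero.1 hroot with h | h
    · linarith
    · nlinarith
  have hsum : a + a' = q * (q + 1) := by linear_combination hX + hM - hwJ + hJq
  have hc3 : c = q ^ 3 := by rw [hc, hJq]; ring
  have hprod : 3 * (a * a') = H ^ 2 * (q * J) := by
    have h1 : q ^ 5 * (q + 1) * J * (3 * (a * a') - H ^ 2 * (q * J)) = 0 := by
      rw [show a' + a = q * (q + 1) by linarith, hc3, hc'] at E1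
      rw [hJq] at E1 ⊢
      linear_combination E1
    have h2 : q ^ 5 * (q + 1) * J ≠ 0 :=
      mul_ne_zero (mul_ne_zero (pow_ne_zero 5 (by omega)) (by omega)) hJ.ne'
    have := (mul_eq_zero.1 h1).resolve_left h2
    linarith
  have hsq : 4 * (a * a') ≤ (a + a') ^ 2 := by nlinarith [sq_nonneg (a - a')]
  have h2H : 2 * H = q + 1 := by omega
  have h3 : (q + 1) ^ 2 * (q * J) ≤ (q + 1) ^ 2 * (3 * q ^ 2) := by
    calc (q + 1) ^ 2 * (q * J) = 4 * (3 * (a * a')) := by rw [hprod, ← h2H]; ring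
      _ ≤ 3 * (a + a') ^ 2 := by linarith
      _ = _ := by rw [hsum]; ring
  have h4 := le_of_mul_le_mul_left h3 (by positivity)
  rw [hJq] at h4
  nlinarith

/-- The second shape: the excluded pair consists of a character of degree `H J`. -/
theorem false_of_EF {q m H J w c c' a a' : ℤ} (hm : q = 4 * m + 1) (hm7 : 7 ≤ m) (hH : H = 2 * m + 1)
    (hJ : 0 < J) (hw0 : w ≠ 0) (ha'0 : a' ≠ 0) (ha : a = -H * J) (hM : 1 + w = c + c')
    (hX : a + a' + c + c' = 0)
    (e0 : (1 : ℚ) + 1 / w - (q : ℚ) ^ 2 / c - (q : ℚ) ^ 2 / c' =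
      ((q : ℚ) ^ 2 - 1) * ((q : ℚ) + 1) / ((q : ℚ) * J))
    (e1 : (H : ℚ) ^ 2 * (1 / a + 1 / a') + (q : ℚ) ^ 2 * (1 / c + 1 / c') =
      ((q : ℚ) + 1) * (3 * (q : ℚ) + 1) / ((q : ℚ) * J))
    (hJ8 : 8 ∣ J - 7) (hJm : 4 * m ∣ J - 3) (hwm : 8 * m ∣ w - 1)
    (ha'm : 4 * m ∣ a' - (2 * m + 1))
    (hsign : (w < 0 ∧ 0 < a') ∨ (0 < w ∧ a' < 0)) : False := by
  obtain ⟨T, hT⟩ : ∃ T, T = H * (2 * q + 7) := ⟨_, rfl⟩
  have hT' : T = 16 * m ^ 2 + 26 * m + 9 := by rw [hT, hH, hm]; ring
  have hqQ : (q : ℚ) ≠ 0 := by exact_mod_cast (show q ≠ 0 by omega)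
  have hJQ : (J : ℚ) ≠ 0 := by exact_mod_cast hJ.ne'
  have hwQ : (w : ℚ) ≠ 0 := by exact_mod_cast hw0
  have ha'Q : (a' : ℚ) ≠ 0 := by exact_mod_cast ha'0
  have hHQ : (H : ℚ) ≠ 0 := by exact_mod_cast (show H ≠ 0 by omega)
  have haT : a' + w + 1 = H * J := by linear_combination hX + hM - ha
  have hA : H ^ 2 * J * w = a' * ((T - J) * w - J) := by
    have hq2 : (q : ℚ) + 1 = 2 * (H : ℚ) := by
      exact_mod_cast (show q + 1 = 2 * H by omega)
    have h1 : (1 : ℚ) + 1 / w + (H : ℚ) ^ 2 / a' = (T : ℚ) / J := by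
      have haQ : (a : ℚ) = -(H : ℚ) * J := by exact_mod_cast ha
      have h2 : (H : ℚ) ^ 2 * (1 / (a : ℚ)) = -((H : ℚ) / J) := by
        rw [haQ]; field_simp
      have h3 : ((q : ℚ) ^ 2 - 1) * ((q : ℚ) + 1) / ((q : ℚ) * J) +
          ((q : ℚ) + 1) * (3 * (q : ℚ) + 1) / ((q : ℚ) * J) + (H : ℚ) / J = (T : ℚ) / J := by
        rw [show (T : ℚ) = H * (2 * q + 7) by exact_mod_cast hT]
        field_simp
        linear_combination ((q : ℚ) ^ 2 + 3 * q) * hq2
      linear_combination e0 + e1 - h2 + h3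
    field_simp at h1
    have h4 : ((H ^ 2 * J * w : ℤ) : ℚ) = ((a' * ((T - J) * w - J) : ℤ) : ℚ) := by
      push_cast
      linear_combination h1
    exact_mod_cast h4
  -- `T - J` modulo `8 m`
  have hD : ∃ i : ℤ, T - J = 6 - 2 * m + 8 * m * i := by
    obtain ⟨k, hk⟩ := hJm
    obtain ⟨l, hl⟩ := hJ8
    have hkodd : Odd k := by
      rcases Int.even_or_odd k with ⟨r, hr⟩ | h
      · subst hr
        have : 4 * m * (r + r) = 8 * (m * r) := by ring
        omega
      · exact h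
    obtain ⟨r, hr⟩ := hkodd
    exact ⟨2 * m + 3 - r, by linear_combination hT' - hk - 4 * m * hr⟩
  obtain ⟨i, hi⟩ := hD
  rcases hsign with ⟨hwn, hap⟩ | ⟨hwp, han⟩
  · -- `w < 0`
    obtain ⟨W, rfl⟩ : ∃ W, w = -W := ⟨-w, by ring⟩
    obtain ⟨k, hk⟩ := hwm
    have hk0 : k ≤ -1 := by
      by_contra h
      have : 0 ≤ 8 * m * k := mul_nonneg (by omega) (by omega)
      omega
    have hW : 8 * m - 1 ≤ W := by nlinarith
    have hX0 : 0 < (T - J) * W + J := by
      have h1 : a' * ((T - J) * W + J) = H ^ 2 * J * W := by linear_combination hA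
      have h2 : 0 < H ^ 2 * J * W :=
        mul_pos (mul_pos (pow_pos (by omega) 2) hJ) (by omega)
      exact pos_of_mul_pos_right (h1 ▸ h2) hap.le
    have hX1 : (T - J) * W + J < H * W := by
      refine lt_of_mul_lt_mul_left (a := H * J) ?_ (mul_nonneg (by omega) hJ.le)
      calc H * J * ((T - J) * W + J) < a' * ((T - J) * W + J) :=
            mul_lt_mul_of_pos_right (by omega) hX0
        _ = H * J * (H * W) := by linear_combination hA
    have hDlt : T - J < H := by
      by_contra h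
      nlinarith
    have hDgt : 6 - 10 * m < T - J := by
      by_contra h
      push Not at h
      nlinarith
    have hi0 : i = 0 := by
      rcases lt_trichotomy i 0 with h | h | h
      · nlinarith
      · exact h
      · nlinarith
    subst hi0
    have hJ' : J = 16 * m ^ 2 + 28 * m + 3 := by linear_combination -hi + hT'
    have hf : J * (H * J - 1) + W * (J * (1 - (2 * m - 6) * H - H ^ 2) + (2 * m - 6)) -
        (2 * m - 6) * W ^ 2 = 0 := by
      have ha'eq : a' = H * J - 1 + W := by linarith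
      rw [ha'eq, show T - J = 6 - 2 * m by linarith] at hA
      linear_combination hA
    have hco : (H * J - 1) * J + (8 * m - 1) * (J * (1 - (2 * m - 6) * H - H ^ 2) + (2 * m - 6)) < 0 := by
      rw [hJ', hH]
      nlinarith [mul_le_mul_of_nonneg_left hm7 (show (0 : ℤ) ≤ m by omega),
        pow_le_pow_left₀ (by norm_num : (0 : ℤ) ≤ 7) hm7 3,
        pow_le_pow_left₀ (by norm_num : (0 : ℤ) ≤ 7) hm7 4]
    have hneg : J * (1 - (2 * m - 6) * H - H ^ 2) + (2 * m - 6) < 0 := by
      rw [hJ', hH]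
      nlinarith
    nlinarith [mul_le_mul_of_nonpos_right hW hneg.le, mul_nonneg (show (0 : ℤ) ≤ 2 * m - 6 by omega) (sq_nonneg W)]
  · -- `0 < w`
    obtain ⟨g, u, b', hg, hub, hw', ha''⟩ := Int.exists_gcd_one' (m := w) (n := a')
      (Int.gcd_pos_of_ne_zero_left _ hw0)
    obtain ⟨b, rfl⟩ : ∃ b, b' = -b := ⟨-b', by ring⟩
    obtain ⟨G, hG⟩ : ∃ G : ℤ, G = (g : ℤ) := ⟨_, rfl⟩
    rw [← hG] at hw' ha''
    have hG0 : 0 < G := by rw [hG]; exact_mod_cast hg
    subst hw'; subst ha''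
    have hu : 0 < u := pos_of_mul_pos_left hwp hG0.le
    have hb : 0 < b := by nlinarith
    have hA1 : H ^ 2 * J * u = b * (J + (J - T) * (u * G)) := by
      refine mul_right_cancel₀ hG0.ne' ?_
      linear_combination hA
    obtain ⟨l, rfl⟩ : u ∣ J := by
      have h1 : u ∣ b * J := ⟨H ^ 2 * J - b * (J - T) * G, by linear_combination -hA1⟩
      exact ((Int.isCoprime_iff_gcd_eq_one.2 hub).of_isCoprime_of_dvd_right ⟨-1, by ring⟩)
        |>.dvd_of_dvd_mul_left h1
    have hl : 0 < l := pos_of_mul_pos_right hJ hu.le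
    have hbG : G * b - 1 = u * (G - l * H) := by linear_combination -haT
    have he : l * H < G := by
      by_contra h
      push Not at h
      have h1 : G * b - 1 ≤ 0 := hbG ▸ mul_nonpos_of_nonneg_of_nonpos hu.le (by omega)
      have h2 : 1 ≤ G * b := mul_pos hG0 hb
      have h3 : G ∣ 1 := ⟨b, by omega⟩
      have h4 : G = 1 := Int.eq_one_of_dvd_one hG0.le h3
      have h5 : u * (G - l * H) = 0 := by omega
      rcases mul_eq_zero.1 h5 with h6 | h6
      · omega
      · nlinarith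
    have hkey : G * b * T = G * l * b ^ 2 + (l * b - H) * (H * (u * l)) := by
      refine mul_left_cancel₀ (show u ≠ 0 by omega) ?_
      linear_combination hA1 - u * l * b * hbG
    have hcop : IsCoprime G (H * (u * l)) := ⟨b - u, 1, by linear_combination -haT⟩
    obtain ⟨j, hj⟩ : G ∣ l * b - H :=
      hcop.dvd_of_dvd_mul_right ⟨b * T - l * b ^ 2, by linear_combination -hkey⟩
    have hj0 : 0 < j := by
      rcases lt_trichotomy j 0 with h | h | h
      · have h1 : G * j ≤ -G := by nlinarith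
        have h2 : 0 < l * b := mul_pos hl hb
        have h3 : H ≤ l * H := le_mul_of_one_le_left (by omega) hl
        omega
      · exfalso
        subst h
        rw [mul_zero] at hj
        rw [hj, zero_mul, add_zero] at hkey
        have h1 : T = l * b := mul_left_cancel₀ (mul_pos hG0 hb).ne' (by linear_combination hkey)
        have h2 : H * (2 * q + 6) = 0 := by linear_combination hj + h1 - hT
        rcases mul_eq_zero.1 h2 with h3 | h3 <;> omega
      · exact h
    have hid : j * l * H * (u * l) = l * b * (T - l * b) := by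
      refine mul_left_cancel₀ hG0.ne' ?_
      linear_combination -l * hkey + (-(l * H * (u * l))) * hj
    have hDle : T ≤ u * l := by
      by_contra h
      push Not at h
      have h1 : H * (u * l) ≤ u * G := by linarith [mul_pos hG0 hb]
      have h2 : u * l < H * (u * l) := lt_mul_of_one_lt_left hJ (by omega)
      have h3 : 0 < H ^ 2 * (u * l) * u := mul_pos (mul_pos (pow_pos (by omega) 2) hJ) hu
      have h4 : 0 < u * l + (u * l - T) * (u * G) := pos_of_mul_pos_right (hA1 ▸ h3) hb.le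
      have h5 : (u * l - T) * (u * G) ≤ -(u * G) := by
        have : (u * l - T) * (u * G) ≤ (-1) * (u * G) :=
          mul_le_mul_of_nonneg_right (by omega) (mul_pos hu hG0).le
        linarith
      linarith
    have hDlt : T < u * l := by
      refine lt_of_le_of_ne hDle fun e => ?_
      rcases lt_trichotomy i 0 with h | h | h <;> nlinarith
    have hjl : j * l ≤ 2 * m + 2 := by
      have h1 : 4 * (j * l * H * (u * l)) ≤ T ^ 2 := by
        rw [hid]; nlinarith [sq_nonneg (T - 2 * (l * b))]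
      have h2 : 4 * (j * l * H) * T < T * T := by
        calc 4 * (j * l * H) * T < 4 * (j * l * H) * (u * l) :=
              mul_lt_mul_of_pos_left hDlt (by have := mul_pos hj0 hl; nlinarith)
          _ ≤ T * T := by linarith
      have h3 : 4 * (j * l * H) < T := lt_of_mul_lt_mul_right h2 (by nlinarith)
      have h4 : H * (4 * (j * l)) < H * (8 * m + 9) := by
        rw [hT, hm] at h3; linarith
      have h5 := lt_of_mul_lt_mul_left h4 (by omega)
      omega
    -- the congruence modulo `4 m`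
    obtain ⟨k1, hk1⟩ := hwm
    obtain ⟨k2, hk2⟩ := hJm
    obtain ⟨k3, hk3⟩ := ha'm
    obtain ⟨r, hr⟩ : 4 * m ∣ j * l + 12 := by
      refine ⟨-6 - 9 * k3 + (3 * b + j) * (G * k2 - 2 * l * k1), ?_⟩
      have hL : l - 3 * G = 4 * m * (G * k2 - 2 * l * k1) := by
        linear_combination G * hk2 - l * hk1
      have hB : l * b - 3 * (b * G) = 4 * m * (b * (G * k2 - 2 * l * k1)) := by
        linear_combination b * hL
      linear_combination j * hL - 3 * hj + 3 * hB - 9 * hk3 - 3 * hH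
    have hjl0 : 0 < j * l := mul_pos hj0 hl
    have hr1 : r = 1 := by
      rcases le_or_gt r 0 with h | h
      · have := mul_nonpos_of_nonneg_of_nonpos (show (0 : ℤ) ≤ 4 * m by omega) h
        omega
      · by_contra hne
        have := mul_le_mul_of_nonneg_left (show (2 : ℤ) ≤ r by omega) (show (0 : ℤ) ≤ 4 * m by omega)
        omega
    subst hr1
    have hm' : m = 7 := by omega
    subst hm'
    have hjl' : j * l = 16 := by omega
    obtain ⟨X, hXdef⟩ : ∃ X, X = l * b := ⟨_, rfl⟩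
    rw [hjl', ← hXdef, show H = 15 by omega] at hid
    rw [show T = 975 by omega] at hid hi hDlt
    have hJle : u * l ≤ 990 := by nlinarith [sq_nonneg (2 * X - 975)]
    have hJ983 : u * l = 983 := by omega
    rw [hJ983] at hid
    have h1 : (2 * X - 975) ^ 2 = 6945 := by linear_combination 4 * hid
    have h2 : 2 * X - 975 ≤ 83 := by nlinarith
    have h3 : -83 ≤ 2 * X - 975 := by nlinarith
    generalize hY : 2 * X - 975 = Y at h1 h2 h3
    interval_cases Y <;> norm_num at h1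

/-- The third lattice shape. -/
theorem false_of_T {q m H J e e' c s : ℤ} {p f : ℕ} (hp : p.Prime) (hq : q = (p : ℤ) ^ f) (hm : q = 4 * m + 1) (hm7 : 7 ≤ m) (hJ : 0 < J) (he : e ≠ 0)
    (hH : H = 2 * m + 1)
    (hc : c = 1 - 2 * e) (hs : c + s + e + e' = 0) (he' : e' = -H * J) (hem : 4 * m ∣ e - 2 * m) (hmo : Odd m) (hJ8 : 8 ∣ J - 7)
    (e0 : (1 : ℚ) - (q : ℚ) ^ 2 / c - ((q : ℚ) - 1) ^ 2 / (2 * e) =
      ((q : ℚ) ^ 2 - 1) * ((q : ℚ) + 1) / ((q : ℚ) * J))
    (e1 : (q : ℚ) ^ 2 / c + ((q : ℚ) + 1) ^ 2 / s + ((q : ℚ) - 1) ^ 2 / (4 * e) + (H : ℚ) ^ 2 / e' =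
      ((q : ℚ) + 1) * (3 * (q : ℚ) + 1) / ((q : ℚ) * J)) : False := by
  have hqQ : (q : ℚ) ≠ 0 := by exact_mod_cast (show q ≠ 0 by omega)
  have hJQ : (J : ℚ) ≠ 0 := by exact_mod_cast hJ.ne'
  have heQ : (e : ℚ) ≠ 0 := by exact_mod_cast he
  have hcQ : (c : ℚ) ≠ 0 := by exact_mod_cast (show c ≠ 0 by omega)
  have h2e : (2 * e : ℚ) = 1 - c := by exact_mod_cast (show 2 * e = 1 - c by omega)
  field_simp at e0
  have E : q * J * (c - q) ^ 2 = (q ^ 2 - 1) * (q + 1) * (c * (c - 1)) := by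
    have : ((q * J * (c - q) ^ 2 : ℤ) : ℚ) = (((q ^ 2 - 1) * (q + 1) * (c * (c - 1)) : ℤ) : ℚ) := by
      push_cast
      linear_combination -e0 + ((q : ℚ) * J * ((c : ℚ) - (q : ℚ) ^ 2) - c * (((q : ℚ) ^ 2 - 1) * ((q : ℚ) + 1))) * h2e
    exact_mod_cast this
  obtain ⟨k, hk⟩ := hem
  obtain ⟨S, hS⟩ : ∃ S, S = -2 * (1 + k) := ⟨_, rfl⟩
  have hcS : c = q + (q - 1) * S := by rw [hc, hS, hm]; linear_combination -2 * hk
  have E' : q * J * S ^ 2 = (q + 1) ^ 2 * c * (S + 1) := by
    refine mul_left_cancel₀ (pow_ne_zero 2 (show q - 1 ≠ 0 by omega)) ?_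
    have h1 : c - q = (q - 1) * S := by linarith
    have h2 : c - 1 = (q - 1) * (S + 1) := by rw [hcS]; ring
    rw [h1, h2] at E
    linear_combination E
  have hS0 : S ≠ 0 := by
    rintro rfl
    have : (q + 1) ^ 2 * q = 0 := by rw [hcS] at E'; linear_combination -E'
    rcases mul_eq_zero.1 this with h | h
    · have := pow_eq_zero_iff (two_ne_zero) |>.1 h; omega
    · omega
  have hq1 : IsCoprime q ((q + 1) ^ 2) := IsCoprime.pow_right ⟨-1, 1, by ring⟩
  have hdq : q ∣ S * (S + 1) := by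
    have h1 : q ∣ c * (S + 1) :=
      hq1.dvd_of_dvd_mul_left ⟨J * S ^ 2, by linear_combination -E'⟩
    obtain ⟨r, hr⟩ := h1
    exact ⟨(1 + S) * (S + 1) - r, by rw [hcS] at hr; linear_combination -hr⟩
  have hcopS : IsCoprime S (S + 1) := ⟨-1, 1, by ring⟩
  have hSeven : S = -2 * (1 + k) := hS
  have hcases : q ∣ S ∨ q ∣ S + 1 := by
    rw [hq]
    rw [hq] at hdq
    by_cases hpS : (p : ℤ) ∣ S
    · left
      refine (IsCoprime.pow_left ?_).dvd_of_dvd_mul_right hdq
      refine ((Nat.prime_iff_prime_int.1 hp).coprime_iff_not_dvd).2 fun h => ?_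
      exact (Nat.prime_iff_prime_int.1 hp).not_dvd_one (by simpa using dvd_sub h hpS)
    · right
      exact (((Nat.prime_iff_prime_int.1 hp).coprime_iff_not_dvd).2 hpS).pow_left.dvd_of_dvd_mul_left hdq
  rcases hcases with ⟨U, hU⟩ | hqS1
  · -- `q ∣ S`
    have hU0 : U ≠ 0 := fun e => hS0 (by rw [hU, e, mul_zero])
    have hU2 : (2 : ℤ) ∣ U := by
      have h1 : (2 : ℤ) ∣ q * U := ⟨-(1 + k), by linear_combination hS - hU⟩
      exact (show IsCoprime (2 : ℤ) q from ⟨-2 * m, 1, by linear_combination hm⟩).dvd_of_dvd_mul_left h1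
    have E2 : q ^ 2 * (J * U ^ 2) = (q + 1) ^ 2 * (1 + (q - 1) * U) * (q * U + 1) := by
      refine mul_left_cancel₀ (show q ≠ 0 by omega) ?_
      rw [hcS, hU] at E'
      linear_combination E'
    have h1 : U ^ 2 ∣ (q + 1) ^ 2 := by
      have hc1 : IsCoprime U ((1 + (q - 1) * U) * (q * U + 1)) :=
        IsCoprime.mul_right ⟨-(q - 1), 1, by ring⟩ ⟨-q, 1, by ring⟩
      exact hc1.pow_left.dvd_of_dvd_mul_right ⟨q ^ 2 * J, by linear_combination -E2⟩
    have h2 : U ∣ q + 1 := (Int.pow_dvd_pow_iff two_ne_zero).1 h1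
    obtain ⟨r, hr⟩ : q ^ 2 ∣ 1 + (q - 1) * U := by
      have hc1 : IsCoprime (q ^ 2) ((q + 1) ^ 2 * (q * U + 1)) :=
        (IsCoprime.mul_right (IsCoprime.pow_right ⟨-1, 1, by ring⟩) ⟨-U, 1, by ring⟩).pow_left
      exact hc1.dvd_of_dvd_mul_right ⟨J * U ^ 2, by linear_combination -E2⟩
    have hUle : U ≤ q + 1 ∧ -U ≤ q + 1 :=
      ⟨Int.le_of_dvd (by omega) h2, Int.le_of_dvd (by omega) h2.neg_left⟩
    obtain ⟨v, hv⟩ : ∃ v, U = 2 * v := hU2
    -- `U ≡ 1 mod q`
    obtain ⟨σ, hσ⟩ : q ∣ U - 1 := ⟨U - q * r, by linear_combination -hr⟩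
    have hs' : σ = 1 ∨ σ = -1 := by
      rcases le_or_gt σ (-2) with h | h
      · nlinarith
      · rcases le_or_gt 2 σ with h' | h'
        · nlinarith
        · have : σ ≠ 0 := by rintro rfl; omega
          omega
    rcases hs' with rfl | rfl
    · have : q ^ 2 * r = q ^ 2 := by rw [← hr, show U = q + 1 by linarith]; ring
      have hr1 : r = 1 := mul_left_cancel₀ (pow_ne_zero 2 (show q ≠ 0 by omega)) (by rw [this, mul_one])
      subst hr1
      rw [show U = q + 1 by linarith] at E2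
      have h3 : q ^ 2 * (q + 1) ^ 2 * (J - (q * (q + 1) + 1)) = 0 := by linear_combination E2
      have h4 : J - (q * (q + 1) + 1) = 0 := (mul_eq_zero.1 h3).resolve_left
        (mul_ne_zero (pow_ne_zero 2 (by omega)) (pow_ne_zero 2 (by omega)))
      have hJq : J = q ^ 2 + q + 1 := by linear_combination h4
      have hc3 : c = q ^ 3 := by rw [hcS, hU, show U = q + 1 by linarith]; ring
      have h2e' : 2 * e = -((q - 1) * J) := by linear_combination hc - hc3 + (q - 1) * hJq
      have hsq : s = q * (q + 1) := by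
        have h2H : 2 * H = q + 1 := by omega
        have h5 : 2 * s = 2 * (q * (q + 1)) := by
          linear_combination 2 * hs - 2 * hc3 - h2e' - 2 * he' + J * h2H + 2 * q * hJq
        omega
      have hJ3 : (J : ℚ) = 3 * q := by
        have hH' : (H : ℚ) = ((q : ℚ) + 1) / 2 := by
          rw [eq_div_iff (two_ne_zero)]; exact_mod_cast (show H * 2 = q + 1 by omega)
        have he2 : (e : ℚ) = -(((q : ℚ) - 1) * J) / 2 := by
          rw [eq_div_iff (two_ne_zero)]; exact_mod_cast (show e * 2 = -((q - 1) * J) by linarith)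
        have hq1' : (q : ℚ) - 1 ≠ 0 := sub_ne_zero.2 (by exact_mod_cast (show q ≠ 1 by omega))
        have hq2' : (q : ℚ) + 1 ≠ 0 := by exact_mod_cast (show q + 1 ≠ 0 by omega)
        rw [show (s : ℚ) = q * (q + 1) by exact_mod_cast hsq, show (c : ℚ) = (q : ℚ) ^ 3 by exact_mod_cast hc3,
          show (e' : ℚ) = -(H : ℚ) * J by exact_mod_cast he', hH', he2] at e1
        field_simp at e1
        have hJ2 : (J : ℚ) = (q : ℚ) ^ 2 + q + 1 := by exact_mod_cast hJq
        exfalso
        refine mul_ne_zero (mul_ne_zero (mul_ne_zero (by norm_num : (8 : ℚ) ≠ 0) hq1') hq1') hq2' ?_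
        linear_combination e1 - 8 * ((q : ℚ) + 2) * hJ2
      have : J = 3 * q := by exact_mod_cast hJ3
      nlinarith
    · have h3 : -U ∣ q + 1 := h2.neg_left
      rw [show -U = q - 1 by linarith] at h3
      have := Int.le_of_dvd (by norm_num) (show q - 1 ∣ 2 by simpa using dvd_sub h3 (dvd_refl (q - 1)))
      omega
  · -- `q ∣ S + 1`
    have hSc : IsCoprime S c := by
      have h1 : IsCoprime q S := by
        obtain ⟨r, hr⟩ := hqS1
        exact ⟨r, -1, by linear_combination -hr⟩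
      rw [hcS, add_comm]
      exact (h1.symm.mul_add_left_right (q - 1)).of_isCoprime_of_dvd_right ⟨1, by ring⟩
    have h1 : S ^ 2 ∣ (q + 1) ^ 2 :=
      (hSc.mul_right hcopS).pow_left.dvd_of_dvd_mul_right ⟨q * J, by linear_combination -E'⟩
    have h2 : S ∣ q + 1 := (Int.pow_dvd_pow_iff two_ne_zero).1 h1
    have hSle : S ≤ q + 1 ∧ -S ≤ q + 1 :=
      ⟨Int.le_of_dvd (by omega) h2, Int.le_of_dvd (by omega) h2.neg_left⟩
    obtain ⟨r, hr⟩ := hqS1
    have hr' : r = 1 ∨ r = -1 ∨ r = 0 := by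
      rcases le_or_gt r (-2) with h | h
      · nlinarith
      · rcases le_or_gt 2 r with h' | h'
        · nlinarith
        · omega
    rcases hr' with rfl | rfl | rfl
    · rw [show S = q - 1 by linarith] at h2
      have := Int.le_of_dvd (by norm_num) (show q - 1 ∣ 2 by simpa using dvd_sub h2 (dvd_refl (q - 1)))
      omega
    · rw [show S = -(q + 1) by linarith] at hcS E'
      have h3 : q * (q + 1) ^ 2 * (J - (q ^ 2 - q - 1)) = 0 := by rw [hcS] at E'; linear_combination E'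
      have h4 : J - (q ^ 2 - q - 1) = 0 := (mul_eq_zero.1 h3).resolve_left
        (mul_ne_zero (by omega) (pow_ne_zero 2 (by omega)))
      obtain ⟨l, hl⟩ := hJ8
      obtain ⟨o, rfl⟩ := hmo
      have h5 : 8 * l + 7 = 8 * (2 * (2 * o + 1) ^ 2 + o) + 3 := by
        linear_combination h4 - hl + (q + (4 * (2 * o + 1) + 1) - 1) * hm
      omega
    · omega

end CfsgLib.ReeType.Five
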