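import Cfsg.Agent.Lib.Ree.Five.Eqns

/-!
# The first shape of the exceptional characters is impossible
-/

set_option autoImplicit false
set_option linter.unusedSectionVars false

namespace CfsgLib.ReeType.Five

open scoped ComplexConjugate
open Subgroup Cfsg CfsgLib.Char CfsgLib.Char.Signed

universe u

attribute [local instance] _root_.Classical.propDecidable

variable {G : Type u} [Group G] [Fintype G] {q m n : ℕ}

theorem coprime_case {J w N M : ℤ} (hN : 3 ≤ N) (hJ : 0 < J) (hw : w = N * J - 1)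
    (h : J ^ 2 = M * w) : False := by
  have hc : IsCoprime w J := ⟨-1, N, by rw [hw]; ring⟩
  have hd : w ∣ J ^ 2 := ⟨M, by rw [h]; ring⟩
  have hu : IsUnit w := hc.pow_right.isUnit_of_dvd' (dvd_refl w) hd
  rcases Int.isUnit_iff.1 hu with e | e <;> nlinarith

theorem le_sq (x : ℤ) : x ≤ x ^ 2 ∧ -x ≤ x ^ 2 :=
  ⟨Int.le_self_sq x, by simpa using Int.le_self_sq (-x)⟩

theorem unit_cases {w p p' e e' a b : ℤ} (h1 : a = w - p - p') (h2 : b = p + p' + e + e')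
    (hb : w ^ 2 + (p ^ 2 + (p' ^ 2 + (e ^ 2 + e' ^ 2))) ≤ 1) :
    (a = 1 ∧ b = 0 → w = 1) ∧ (a = 0 ∧ b = 1 → e = 1 ∨ e' = 1) := by
  obtain ⟨a1, b1⟩ := le_sq w
  obtain ⟨a2, b2⟩ := le_sq p
  obtain ⟨a3, b3⟩ := le_sq p'
  obtain ⟨a4, b4⟩ := le_sq e
  obtain ⟨a5, b5⟩ := le_sq e'
  constructor <;> rintro ⟨rfl, rfl⟩ <;> omega

theorem coef_cases {w p p' e e' f f' : ℤ} (h0 : w = p + p') (h1 : p + p' + e + e' = 1)
    (h2 : p + p' + f + f' = 1)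
    (hb : w ^ 2 + (p ^ 2 + (p' ^ 2 + (e ^ 2 + (e' ^ 2 + (f ^ 2 + f' ^ 2))))) ≤ 2) :
    (w = 0 ∧ ((e = 1 ∧ e' = 0) ∨ (e = 0 ∧ e' = 1)) ∧ ((f = 1 ∧ f' = 0) ∨ (f = 0 ∧ f' = 1))) ∨
      (w = 1 ∧ ((p = 1 ∧ p' = 0) ∨ (p = 0 ∧ p' = 1))) := by
  obtain ⟨a1, b1⟩ := le_sq w
  obtain ⟨a2, b2⟩ := le_sq p
  obtain ⟨a3, b3⟩ := le_sq p'
  obtain ⟨a4, b4⟩ := le_sq e
  obtain ⟨a5, b5⟩ := le_sq e'
  obtain ⟨a6, b6⟩ := le_sq f
  obtain ⟨a7, b7⟩ := le_sq f'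
  omega

namespace Ctx

variable {T : Setup G q m n} (C : Ctx T)

include C in
theorem pair_degree {R E₀ F₀ : G → ℂ} {a₀ J : ℤ} (hJ : 0 < J) (hR : Gen R) (hR2 : iq R R = 2)
    (hR1 : R 1 = ((-(2 * n : ℤ) * J : ℤ) : ℂ))
    (hRq : qfun T.t R = (2 * n : ℂ) ^ 2 / ((-(2 * n : ℤ) * J : ℤ) : ℂ))
    (s1 : Sg E₀) (s2 : Sg F₀) (s12 : iq E₀ F₀ = 0) (r1 : iq R E₀ = 1) (r2 : iq R F₀ = 1)
    (v1 : E₀ T.t = n) (v2 : F₀ T.t = n) (g1 : E₀ 1 = a₀) : a₀ = -(n : ℤ) * J := by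
  obtain ⟨b₀, hb₀, g2⟩ := s2.apply_one_int
  have hRe := eq_of_two_coef hR hR2 s1 s2 s12 r1 r2
  rw [hRe, Pi.add_apply, g1, g2] at hR1
  rw [hRe, qfun_add, qfun_sg _ s1, qfun_sg _ s2, v1, v2, g1, g2, ← hR1] at hRq
  have hab' : a₀ + b₀ = -(2 * n : ℤ) * J := by exact_mod_cast hR1
  have ha₀ : a₀ ≠ 0 := fun e => s1.apply_one_ne (by rw [g1, e, Int.cast_zero])
  have hn : 0 < n := C.facts.n_pos
  have hsum : a₀ + b₀ ≠ 0 := by rw [hab']; apply mul_ne_zero <;> omega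
  have e1 : (a₀ : ℂ) ≠ 0 := by exact_mod_cast ha₀
  have e2 : (b₀ : ℂ) ≠ 0 := by exact_mod_cast hb₀
  have e3 : (a₀ : ℂ) + b₀ ≠ 0 := by exact_mod_cast hsum
  have e4 : (n : ℂ) ≠ 0 := by exact_mod_cast hn.ne'
  field_simp at hRq
  have h : ((a₀ - b₀ : ℤ) : ℂ) ^ 2 = 0 := by push_cast; linear_combination hRq
  have h' : a₀ - b₀ = 0 := by exact_mod_cast (pow_eq_zero_iff two_ne_zero).1 h
  linarith

include C in
theorem w_degree {R W P₀ : G → ℂ} {w d J : ℤ} (hJ : 0 < J) (hR : Gen R) (hR2 : iq R R = 2)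
    (hR1 : R 1 = ((-(2 * n : ℤ) * J : ℤ) : ℂ))
    (hRq : qfun T.t R = (2 * n : ℂ) ^ 2 / ((-(2 * n : ℤ) * J : ℤ) : ℂ))
    (s1 : Sg W) (s2 : Sg P₀) (s12 : iq W P₀ = 0) (r1 : iq R W = 1) (r2 : iq R P₀ = 1)
    (v1 : W T.t = 1) (v2 : P₀ T.t = q) (g1 : W 1 = w) (g2 : P₀ 1 = d) :
    w + d = -((q : ℤ) + 1) * J ∧ d = (q : ℤ) * w := by
  have hn : 0 < n := C.facts.n_pos
  have hq2 : (q : ℤ) + 1 = 2 * n := by have := C.cast_n'; have := C.cast_q'; omega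
  have hRe := eq_of_two_coef hR hR2 s1 s2 s12 r1 r2
  rw [hRe, Pi.add_apply, g1, g2] at hR1
  have hnC : (2 : ℂ) * n = (q : ℂ) + 1 := by exact_mod_cast hq2.symm
  rw [hRe, qfun_add, qfun_sg _ s1, qfun_sg _ s2, v1, v2, g1, g2, ← hR1, one_pow, hnC] at hRq
  have hab' : w + d = -(2 * n : ℤ) * J := by exact_mod_cast hR1
  have hd0 : d ≠ 0 := fun e => s2.apply_one_ne (by rw [g2, e, Int.cast_zero])
  have hw0 : w ≠ 0 := fun e => s1.apply_one_ne (by rw [g1, e, Int.cast_zero])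
  have hsum : w + d ≠ 0 := by rw [hab']; apply mul_ne_zero <;> omega
  have e1 : (w : ℂ) ≠ 0 := by exact_mod_cast hw0
  have e2 : (d : ℂ) ≠ 0 := by exact_mod_cast hd0
  have e3 : (w : ℂ) + d ≠ 0 := by exact_mod_cast hsum
  field_simp at hRq
  have h : ((d - q * w : ℤ) : ℂ) ^ 2 = 0 := by push_cast; linear_combination hRq
  have h' : d - q * w = 0 := by exact_mod_cast (pow_eq_zero_iff two_ne_zero).1 h
  exact ⟨by rw [hab', hq2], by linarith⟩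

/-- The data left from the first shape. -/
structure One where
  W : G → ℂ
  P : G → ℂ
  P' : G → ℂ
  E : G → ℂ
  E' : G → ℂ
  w : ℤ
  c : ℤ
  c' : ℤ
  a : ℤ
  a' : ℤ
  J : ℤ
  orth : Orth [W, P, P', E, E']
  oW : iq oneC W = 0
  oE : iq oneC E = 0
  oE' : iq oneC E' = 0
  coef : ∀ v : G → ℂ, Gen v →
    iq C.LM v = iq oneC v + iq W v - iq P v - iq P' v ∧
    iq (C.LX 0) v = iq P v + iq P' v + iq E v + iq E' v
  eM : C.LM = oneC + W - P - P'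
  eX0 : C.LX 0 = P + P' + E + E'
  mW : iq C.LM W = 1 ∧ iq (C.LX 0) W = 0
  mE : iq C.LM E = 0 ∧ iq (C.LX 0) E = 1
  mE' : iq C.LM E' = 0 ∧ iq (C.LX 0) E' = 1
  rW : C.Row W ∧ C.kap W = 1 ∧ W T.t = 1
  rE : C.Row E ∧ C.kap E = 1 ∧ E T.t = n
  rE' : C.Row E' ∧ C.kap E' = 1 ∧ E' T.t = n
  hw : W 1 = w
  ha : E 1 = a
  ha' : E' 1 = a'
  hw0 : w ≠ 0
  ha0 : a ≠ 0
  ha'0 : a' ≠ 0
  hM : 1 + w = c + c'
  hX : a + a' + c + c' = 0
  hJ : 0 < J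
  e0 : (1 : ℚ) + 1 / w - (q : ℚ) ^ 2 / c - (q : ℚ) ^ 2 / c' =
    ((q : ℚ) ^ 2 - 1) * ((q : ℚ) + 1) / ((q : ℚ) * J)
  e1 : (n : ℚ) ^ 2 * (1 / a + 1 / a') + (q : ℚ) ^ 2 * (1 / c + 1 / c') =
    ((q : ℚ) + 1) * (3 * (q : ℚ) + 1) / ((q : ℚ) * J)
  opt : ∀ φ : C.F.A →* ℂˣ, φ ≠ 1 → iq (C.Fd φ) W = 0 ∧
    ((iq (C.Fd φ) E = 1 ∧ iq (C.Fd φ) E' = 0 ∧ a = -(n : ℤ) * J) ∨
      (iq (C.Fd φ) E = 0 ∧ iq (C.Fd φ) E' = 1 ∧ a' = -(n : ℤ) * J))

variable {C}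

/-- Interchange `E` and `E'`. -/
def One.swap (O : C.One) : C.One where
  W := O.W
  P := O.P
  P' := O.P'
  E := O.E'
  E' := O.E
  w := O.w
  c := O.c
  c' := O.c'
  a := O.a'
  a' := O.a
  J := O.J
  orth := by
    obtain ⟨hsg, hp⟩ := O.orth
    have sE : Sg O.E := hsg _ (by simp)
    have sE' : Sg O.E' := hsg _ (by simp)
    simp only [List.pairwise_cons, List.mem_cons, List.not_mem_nil, or_false, forall_eq_or_imp,
      forall_eq, IsEmpty.forall_iff, implies_true, List.Pairwise.nil, and_true] at hp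
    refine ⟨fun z hz => hsg z (by simp at hz ⊢; tauto), ?_⟩
    simp [List.pairwise_cons, hp, (iq_comm sE'.gen sE.gen).trans hp.2.2.2]
  oW := O.oW
  oE := O.oE'
  oE' := O.oE
  coef v hv := ⟨(O.coef v hv).1, by rw [(O.coef v hv).2]; ring⟩
  eM := O.eM
  eX0 := by rw [O.eX0]; abel
  mW := O.mW
  mE := O.mE'
  mE' := O.mE
  rW := O.rW
  rE := O.rE'
  rE' := O.rE
  hw := O.hw
  ha := O.ha'
  ha' := O.ha
  hw0 := O.hw0
  ha0 := O.ha'0
  ha'0 := O.ha0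
  hM := O.hM
  hX := by linarith [O.hX]
  hJ := O.hJ
  e0 := O.e0
  e1 := by linear_combination O.e1
  opt φ hφ := ⟨(O.opt φ hφ).1, ((O.opt φ hφ).2.imp (fun e => ⟨e.2.1, e.1, e.2.2⟩)
    fun e => ⟨e.2.1, e.1, e.2.2⟩).symm⟩

theorem One.equal_false (O : C.One) (haJ : O.a = -(n : ℤ) * O.J) (haa : O.a' = O.a) : False := by
  have hn := C.cast_n'
  have hq := C.cast_q'
  have hq2 : (q : ℤ) + 1 = 2 * n := by omega
  have hm7 : (7 : ℤ) ≤ m := by exact_mod_cast C.seven_le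
  have hX := O.hX
  have hwv : O.w = 2 * (n : ℤ) * O.J - 1 := by
    rw [haa, haJ] at hX
    linear_combination O.hM + hX
  refine coprime_case (J := O.J) (w := O.w) (N := 2 * (n : ℤ)) (M := (q : ℤ) + 4) (by omega) O.hJ hwv ?_
  have hwQ : (O.w : ℚ) = 2 * (n : ℚ) * O.J - 1 := by exact_mod_cast hwv
  have hqQ : (q : ℚ) ≠ 0 := by exact_mod_cast C.facts.q_pos.ne'
  have hJQ : (O.J : ℚ) ≠ 0 := by exact_mod_cast O.hJ.ne'
  have hsum : (1 : ℚ) + 1 / O.w + (n : ℚ) ^ 2 * (1 / O.a + 1 / O.a') =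
      ((q : ℚ) + 1) * ((q : ℚ) + 3) / O.J - ((q : ℚ) + 1) * 0 := by
    have : ((q : ℚ) + 1) * ((q : ℚ) + 3) / O.J - ((q : ℚ) + 1) * 0 =
        ((q : ℚ) ^ 2 - 1) * ((q : ℚ) + 1) / ((q : ℚ) * O.J) +
        ((q : ℚ) + 1) * (3 * (q : ℚ) + 1) / ((q : ℚ) * O.J) := by field_simp; ring
    rw [this, ← O.e0, ← O.e1]
    ring
  rw [mul_zero, sub_zero] at hsum
  have hqn : (q : ℚ) + 1 = 2 * (n : ℚ) := by exact_mod_cast hq2
  rw [haa, show (O.a : ℚ) = -(n : ℚ) * O.J by exact_mod_cast haJ] at hsum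
  have hnQ : (n : ℚ) ≠ 0 := by exact_mod_cast C.facts.n_pos.ne'
  have hw0' : (O.w : ℚ) ≠ 0 := by exact_mod_cast O.hw0
  field_simp at hsum
  have : ((O.J ^ 2 : ℤ) : ℚ) = ((((q : ℤ) + 4) * O.w : ℤ) : ℚ) := by
    push_cast
    refine mul_left_cancel₀ (mul_ne_zero two_ne_zero hnQ) ?_
    linear_combination hsum - (O.J : ℚ) * hwQ + (O.w : ℚ) * ((q : ℚ) + 3) * hqn
  exact_mod_cast this

theorem One.eq_orbit (O : C.One) (haJ : O.a = -(n : ℤ) * O.J) (φ : C.F.A →* ℂˣ) (hφ : φ ≠ 1) :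
    iq (C.Fd φ) O.E = 1 ∧ iq (C.Fd φ) O.E' = 0 := by
  rcases (O.opt φ hφ).2 with e | e
  · exact ⟨e.1, e.2.1⟩
  · exact absurd (e.2.2.trans haJ.symm) fun h => O.equal_false haJ h

/-- The congruences. -/
theorem One.congruences (O : C.One) (haJ : O.a = -(n : ℤ) * O.J) :
    8 * (m : ℤ) ∣ O.w - 1 ∧ 4 * (m : ℤ) ∣ O.a' - (2 * m + 1) ∧ 4 * (m : ℤ) ∣ O.J - 3 ∧
      (8 : ℤ) ∣ O.J - 7 := by
  have hn := C.cast_n'
  have cW := C.congr_DX O.rW.1.1.gen (fun θ hθ => O.rW.1.iq_LP hθ) (r := 0)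
    (fun φ hφ => (O.opt φ hφ).1) (v := 1) O.hw (by rw [O.rW.2.2, Int.cast_one])
  rw [O.rW.2.1] at cW
  have cE := C.congr_DX O.rE.1.1.gen (fun θ hθ => O.rE.1.iq_LP hθ) (r := 1)
    (fun φ hφ => (O.eq_orbit haJ φ hφ).1) (v := (n : ℤ)) O.ha (by rw [O.rE.2.2, Int.cast_natCast])
  rw [O.rE.2.1] at cE
  have cE' := C.congr_DX O.rE'.1.1.gen (fun θ hθ => O.rE'.1.iq_LP hθ) (r := 0)
    (fun φ hφ => (O.eq_orbit haJ φ hφ).2) (v := (n : ℤ)) O.ha' (by rw [O.rE'.2.2, Int.cast_natCast])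
  rw [O.rE'.2.1] at cE'
  have c8 := C.congr_eight O.rE.1.1.gen (v := (n : ℤ)) O.ha (by rw [O.rE.2.2, Int.cast_natCast])
  obtain ⟨i, hi⟩ : Odd (m : ℤ) := by exact_mod_cast C.facts.m_odd
  have hJ8 : (8 : ℤ) ∣ O.J - 7 := by
    obtain ⟨z, hz⟩ := c8
    rw [haJ] at hz
    have hmul : (8 : ℤ) ∣ (n : ℤ) * (O.J - 7) := ⟨-z, by linear_combination -hz⟩
    exact (IsCoprime.pow_left (m := 3) (show IsCoprime (2 : ℤ) (n : ℤ) from
      ⟨-(m : ℤ), 1, by rw [hn]; ring⟩)).dvd_of_dvd_mul_left hmul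
  refine ⟨?_, ?_, ?_, hJ8⟩
  · obtain ⟨z, hz⟩ := cW
    exact ⟨z - 1, by linear_combination hz⟩
  · obtain ⟨z, hz⟩ := cE'
    rw [hn] at hz
    exact ⟨2 * z - 2 * (m : ℤ) - 4, by linear_combination hz⟩
  · obtain ⟨z, hz⟩ := cE
    obtain ⟨y, hy⟩ := hJ8
    rw [haJ, hn] at hz
    exact ⟨2 * (m : ℤ) - 2 * z - 4 * y - 1, by linear_combination -hz - (2 * (m : ℤ)) * hy⟩

theorem One.real_of (O : C.One) {v : G → ℂ} (hv : Sg v) (hov : iq oneC v = 0) :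
    (iq C.LM v = 1 ∧ iq (C.LX 0) v = 0 → conjFun v = O.W) ∧
    (iq C.LM v = 0 ∧ iq (C.LX 0) v = 1 → conjFun v = O.E ∨ conjFun v = O.E') := by
  have hu := sg_conjFun hv
  obtain ⟨m1, x1⟩ := O.coef _ hu.gen
  rw [iq_conjFun C.invInv_LM, iq_conjFun (L := oneC) (fun _ => rfl), hov] at m1
  rw [iq_conjFun (C.invInv_LX 0)] at x1
  have sW : Sg O.W := O.orth.1 _ (by simp)
  have sP : Sg O.P := O.orth.1 _ (by simp)
  have sP' : Sg O.P' := O.orth.1 _ (by simp)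
  have sE : Sg O.E := O.orth.1 _ (by simp)
  have sE' : Sg O.E' := O.orth.1 _ (by simp)
  have hb := unit_bound hu O.orth
  simp only [List.map_cons, List.map_nil, List.sum_cons, List.sum_nil, add_zero,
    iq_comm hu.gen sW.gen, iq_comm hu.gen sP.gen, iq_comm hu.gen sP'.gen, iq_comm hu.gen sE.gen,
    iq_comm hu.gen sE'.gen] at hb
  have one_of : ∀ z : G → ℂ, Sg z → iq z (conjFun v) = 1 → conjFun v = z := fun z hz h => by
    rcases hz.iq_cases hu with e | ⟨-, e⟩ | ⟨e, -⟩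
    · omega
    · exact e.symm
    · omega
  rw [zero_add] at m1
  obtain ⟨k1, k2⟩ := unit_cases m1 x1 hb
  refine ⟨fun h => one_of O.W sW (k1 h), fun h => (k2 h).imp (one_of O.E sE) (one_of O.E' sE')⟩

theorem One.sign (O : C.One) (haJ : O.a = -(n : ℤ) * O.J) :
    (O.w < 0 ∧ 0 < O.a') ∨ (0 < O.w ∧ O.a' < 0) := by
  have haa : O.a' ≠ O.a := O.equal_false haJ
  obtain ⟨hwm, ha'm, -, hJ8⟩ := O.congruences haJ
  have realW : InvInv O.W := fun g => congrFun ((O.real_of O.rW.1.1 O.oW).1 O.mW) g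
  have realE : InvInv O.E := by
    intro g
    rcases (O.real_of O.rE.1.1 O.oE).2 O.mE with e | e
    · exact congrFun e g
    · exfalso
      have h := congrFun e 1
      simp only [conjFun, inv_one, O.ha, O.ha'] at h
      exact haa (by exact_mod_cast h.symm)
  have realE' : InvInv O.E' := by
    intro g
    rcases (O.real_of O.rE'.1.1 O.oE').2 O.mE' with e | e
    · exfalso
      have h := congrFun e 1
      simp only [conjFun, inv_one, O.ha, O.ha'] at h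
      exact haa (by exact_mod_cast h)
    · exact congrFun e g
  have oddw : Odd O.w := by
    obtain ⟨z, hz⟩ := hwm
    exact ⟨4 * m * z, by linear_combination hz⟩
  have odda' : Odd O.a' := by
    obtain ⟨z, hz⟩ := ha'm
    exact ⟨2 * m * z + m, by linear_combination hz⟩
  have odda : Odd O.a := by
    have hJo : Odd O.J := by
      obtain ⟨z, hz⟩ := hJ8
      exact ⟨4 * z + 3, by linear_combination hz⟩
    rw [haJ, neg_mul, odd_neg, C.cast_n']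
    exact Odd.mul ⟨m, by ring⟩ hJo
  have hnu : (1 : ℂ) + nu O.W + (nu O.E + nu O.E') = 0 := by
    have h1 := C.nu_LM
    rw [O.eM, nu_sub, nu_sub, nu_add, nu_oneC] at h1
    have h2 := C.nu_LX 0
    rw [O.eX0, nu_add, nu_add, nu_add] at h2
    linear_combination h1 + h2
  have haneg : ¬ (0 : ℤ) < O.a := by
    rw [haJ]
    have : (0 : ℤ) ≤ (n : ℤ) * O.J := mul_nonneg (by positivity) O.hJ.le
    linarith
  rw [nu_sg O.rW.1.1 O.hw oddw realW, nu_sg O.rE.1.1 O.ha odda realE,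
    nu_sg O.rE'.1.1 O.ha' odda' realE', if_neg haneg] at hnu
  rcases lt_trichotomy O.w 0 with h | h | h
  · refine Or.inl ⟨h, ?_⟩
    by_contra hna
    rw [if_neg (not_lt.2 h.le), if_neg hna] at hnu
    norm_num at hnu
  · exact absurd h O.hw0
  · refine Or.inr ⟨h, ?_⟩
    by_contra hna
    rw [if_pos h, if_pos (lt_of_le_of_ne (not_lt.1 hna) (Ne.symm O.ha'0))] at hnu
    norm_num at hnu

theorem One.false (O : C.One) (haJ : O.a = -(n : ℤ) * O.J) : False := by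
  obtain ⟨hwm, ha'm, hJm, hJ8⟩ := O.congruences haJ
  have hm7 : (7 : ℤ) ≤ m := by exact_mod_cast C.seven_le
  exact false_of_EF (q := (q : ℤ)) (m := (m : ℤ)) (H := (n : ℤ)) (J := O.J) C.cast_q' hm7 C.cast_n' O.hJ
    O.hw0 O.ha'0 haJ O.hM O.hX (by push_cast; exact O.e0) (by push_cast; exact O.e1) hJ8 hJm hwm ha'm
    (O.sign haJ)

theorem first_case (S : C.ShapeOne) : False := by
  obtain ⟨W, P, P', E, E', F, F', horth, eM, eX0, eX1⟩ := S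
  obtain ⟨hsg, hp⟩ := horth
  have sW : Sg W := hsg W (by simp)
  have sP : Sg P := hsg P (by simp)
  have sP' : Sg P' := hsg P' (by simp)
  have sE : Sg E := hsg E (by simp)
  have sE' : Sg E' := hsg E' (by simp)
  have sF : Sg F := hsg F (by simp)
  have sF' : Sg F' := hsg F' (by simp)
  simp only [List.pairwise_cons, List.mem_cons, List.not_mem_nil, or_false, forall_eq_or_imp,
    forall_eq, IsEmpty.forall_iff, implies_true, List.Pairwise.nil, and_true] at hp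
  obtain ⟨⟨oW, oP, oP', oE, oE', oF, oF'⟩, ⟨WP, WP', WE, WE', WF, WF'⟩, ⟨PP', PE, PE', PF, PF'⟩,
    ⟨P'E, P'E', P'F, P'F'⟩, ⟨EE', EF, EF'⟩, ⟨E'F, E'F'⟩, FF'⟩ := hp
  have hprof : ∀ v : G → ℂ, Gen v →
      iq C.LM v = iq oneC v + iq W v - iq P v - iq P' v ∧
      iq (C.LX 0) v = iq P v + iq P' v + iq E v + iq E' v ∧
      iq (C.LX 1) v = iq P v + iq P' v + iq F v + iq F' v := fun v hv => by
    refine ⟨iq_eq _ ?_, iq_eq _ ?_, iq_eq _ ?_⟩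
    · rw [eM]
      simp only [classInner_sub_left, classInner_add_left, iq_spec sg_oneC.gen hv, iq_spec sW.gen hv,
        iq_spec sP.gen hv, iq_spec sP'.gen hv]
      push_cast; rfl
    · rw [eX0]
      simp only [classInner_add_left, iq_spec sE.gen hv, iq_spec sE'.gen hv, iq_spec sP.gen hv,
        iq_spec sP'.gen hv]
      push_cast; rfl
    · rw [eX1]
      simp only [classInner_add_left, iq_spec sF.gen hv, iq_spec sF'.gen hv, iq_spec sP.gen hv,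
        iq_spec sP'.gen hv]
      push_cast; rfl
  obtain ⟨a1, a2, a3⟩ := hprof W sW.gen
  simp only [oW, sW.iq_self, iq_comm sP.gen sW.gen, WP, iq_comm sP'.gen sW.gen, WP',
    iq_comm sE.gen sW.gen, WE, iq_comm sE'.gen sW.gen, WE', iq_comm sF.gen sW.gen, WF,
    iq_comm sF'.gen sW.gen, WF'] at a1 a2 a3
  obtain ⟨b1, b2, b3⟩ := hprof P sP.gen
  simp only [oP, WP, sP.iq_self, iq_comm sP'.gen sP.gen, PP', iq_comm sE.gen sP.gen, PE,
    iq_comm sE'.gen sP.gen, PE', iq_comm sF.gen sP.gen, PF, iq_comm sF'.gen sP.gen, PF'] at b1 b2 b3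
  obtain ⟨c1, c2, c3⟩ := hprof P' sP'.gen
  simp only [oP', WP', PP', sP'.iq_self, iq_comm sE.gen sP'.gen, P'E, iq_comm sE'.gen sP'.gen, P'E',
    iq_comm sF.gen sP'.gen, P'F, iq_comm sF'.gen sP'.gen, P'F'] at c1 c2 c3
  obtain ⟨d1, d2, d3⟩ := hprof E sE.gen
  simp only [oE, WE, PE, P'E, sE.iq_self, iq_comm sE'.gen sE.gen, EE', iq_comm sF.gen sE.gen, EF,
    iq_comm sF'.gen sE.gen, EF'] at d1 d2 d3
  obtain ⟨d1', d2', d3'⟩ := hprof E' sE'.gen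
  simp only [oE', WE', PE', P'E', EE', sE'.iq_self, iq_comm sF.gen sE'.gen, E'F,
    iq_comm sF'.gen sE'.gen, E'F'] at d1' d2' d3'
  obtain ⟨f1, f2, f3⟩ := hprof F sF.gen
  simp only [oF, WF, PF, P'F, EF, E'F, sF.iq_self, iq_comm sF'.gen sF.gen, FF'] at f1 f2 f3
  obtain ⟨f1', f2', f3'⟩ := hprof F' sF'.gen
  simp only [oF', WF', PF', P'F', EF', E'F', FF', sF'.iq_self] at f1' f2' f3'
  norm_num at a1 a2 a3 b1 b2 b3 c1 c2 c3 d1 d2 d3 d1' d2' d3' f1 f2 f3 f1' f2' f3'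
  obtain ⟨rW, kW, vW⟩ := C.row_at sW a1 a2 a3 (by norm_num) (by norm_num) (by norm_num)
  obtain ⟨rP, kP, vP⟩ := C.row_at sP b1 b2 b3 (by norm_num) (by norm_num) (by norm_num)
  obtain ⟨rP', kP', vP'⟩ := C.row_at sP' c1 c2 c3 (by norm_num) (by norm_num) (by norm_num)
  obtain ⟨rE, kE, vE⟩ := C.row_at sE d1 d2 d3 (by norm_num) (by norm_num) (by norm_num)
  obtain ⟨rE', kE', vE'⟩ := C.row_at sE' d1' d2' d3' (by norm_num) (by norm_num) (by norm_num)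
  obtain ⟨rF, kF, vF⟩ := C.row_at sF f1 f2 f3 (by norm_num) (by norm_num) (by norm_num)
  obtain ⟨rF', kF', vF'⟩ := C.row_at sF' f1' f2' f3' (by norm_num) (by norm_num) (by norm_num)
  have hn := C.cast_n'
  have hq := C.cast_q'
  have hq2 : (q : ℤ) + 1 = 2 * n := by omega
  have vP0 : P T.t = (q : ℂ) := by
    rw [vP, show ((-1 : ℤ) + (n : ℤ) * (1 + 1)) = (q : ℤ) by omega, Int.cast_natCast]
  have vP0' : P' T.t = (q : ℂ) := by
    rw [vP', show ((-1 : ℤ) + (n : ℤ) * (1 + 1)) = (q : ℤ) by omega, Int.cast_natCast]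
  have vW0 : W T.t = 1 := by rw [vW]; simp
  have vE0 : E T.t = (n : ℂ) := by rw [vE]; simp
  have vE0' : E' T.t = (n : ℂ) := by rw [vE']; simp
  have vF0 : F T.t = (n : ℂ) := by rw [vF]; simp
  have vF0' : F' T.t = (n : ℂ) := by rw [vF']; simp
  obtain ⟨w, hw0, hw⟩ := sW.apply_one_int
  obtain ⟨c, hc0, hc⟩ := sP.apply_one_int
  obtain ⟨c', hc'0, hc'⟩ := sP'.apply_one_int
  obtain ⟨a, ha0, ha⟩ := sE.apply_one_int
  obtain ⟨a', ha'0, ha'⟩ := sE'.apply_one_int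
  have hM : 1 + w = c + c' := by
    have h := congrFun eM 1
    rw [LM_one] at h
    simp only [Pi.sub_apply, Pi.add_apply, oneC, hw, hc, hc'] at h
    have : ((1 + w : ℤ) : ℂ) = ((c + c' : ℤ) : ℂ) := by push_cast; linear_combination -h
    exact_mod_cast this
  have hX : a + a' + c + c' = 0 := by
    have h := congrFun eX0 1
    rw [LX_one] at h
    simp only [Pi.add_apply, ha, ha', hc, hc'] at h
    have : ((a + a' + c + c' : ℤ) : ℂ) = ((0 : ℤ) : ℂ) := by push_cast; linear_combination -h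
    exact_mod_cast this
  obtain ⟨J, hJ0, hJ, hD⟩ := C.exists_global_J
  have e0 : (1 : ℚ) + 1 / w - (q : ℚ) ^ 2 / c - (q : ℚ) ^ 2 / c' =
      ((q : ℚ) ^ 2 - 1) * ((q : ℚ) + 1) / ((q : ℚ) * J) := by
    have h := C.qfun_LM hJ hJ0
    rw [eM, qfun_sub, qfun_sub, qfun_add, qfun_oneC, qfun_sg _ sW, qfun_sg _ sP, qfun_sg _ sP', vW0,
      vP0, vP0', hw, hc, hc', one_pow] at h
    apply Rat.cast_injective (α := ℂ)
    push_cast at h ⊢
    exact h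
  have e1 : (n : ℚ) ^ 2 * (1 / a + 1 / a') + (q : ℚ) ^ 2 * (1 / c + 1 / c') =
      ((q : ℚ) + 1) * (3 * (q : ℚ) + 1) / ((q : ℚ) * J) := by
    have h := C.qfun_LX hJ hJ0 0
    rw [eX0, qfun_add, qfun_add, qfun_add, qfun_sg _ sP, qfun_sg _ sP', qfun_sg _ sE, qfun_sg _ sE',
      vP0, vP0', vE0, vE0', hc, hc', ha, ha'] at h
    apply Rat.cast_injective (α := ℂ)
    push_cast at h ⊢
    rw [← h]
    ring
  have hm7 : (7 : ℤ) ≤ m := by exact_mod_cast C.seven_le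
  have hJz : (0 : ℤ) < J := by exact_mod_cast hJ0
  have hopt : ∀ φ : C.F.A →* ℂˣ, φ ≠ 1 →
      iq (C.Fd φ) W = 0 ∧ ((iq (C.Fd φ) E = 1 ∧ iq (C.Fd φ) E' = 0 ∧ a = -(n : ℤ) * J) ∨
        (iq (C.Fd φ) E = 0 ∧ iq (C.Fd φ) E' = 1 ∧ a' = -(n : ℤ) * J)) := by
    intro φ hφ
    obtain ⟨X⟩ := C.exists_exc hφ
    obtain ⟨R, hR, hR2, hR1, hRt, hRq, hRM, hRX, hRo, hRF⟩ := exists_R X hφ
    rw [hD φ X hφ] at hR1 hRq
    obtain ⟨pM, pX0, pX1⟩ := hprof R hR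
    rw [iq_comm C.gen_LM hR, hRM, iq_comm sg_oneC.gen hR, show iq R oneC = 0 from hRo,
      iq_comm sW.gen hR, iq_comm sP.gen hR, iq_comm sP'.gen hR] at pM
    rw [iq_comm (C.gen_LX 0) hR, hRX, iq_comm sP.gen hR, iq_comm sP'.gen hR, iq_comm sE.gen hR,
      iq_comm sE'.gen hR] at pX0
    rw [iq_comm (C.gen_LX 1) hR, hRX, iq_comm sP.gen hR, iq_comm sP'.gen hR, iq_comm sF.gen hR,
      iq_comm sF'.gen hR] at pX1
    have hb := Orth.bessel (G := G) (l := [W, P, P', E, E', F, F']) ⟨fun z hz => hsg z (by simp [hz]),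
      by simp [List.pairwise_cons, WP, WP', WE, WE', WF, WF', PP', PE, PE', PF, PF', P'E, P'E', P'F,
        P'F', EE', EF, EF', E'F, E'F', FF']⟩ hR
    simp only [List.map_cons, List.map_nil, List.sum_cons, List.sum_nil, add_zero, hR2] at hb
    rw [hRF W rW, hRF E rE, hRF E' rE']
    rcases coef_cases (by omega) pX0.symm pX1.symm hb with ⟨h0, he, hf⟩ | ⟨h0, hp⟩
    · refine ⟨h0, ?_⟩
      have key := fun (E₀ F₀ : G → ℂ) (a₀ : ℤ) s1 s2 s12 r1 r2 v1 v2 (g1 : E₀ 1 = a₀) =>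
        C.pair_degree (E₀ := E₀) (F₀ := F₀) hJz hR hR2 hR1 hRq s1 s2 s12 r1 r2 v1 v2 g1
      rcases he with ⟨u1, u2⟩ | ⟨u1, u2⟩ <;> rcases hf with ⟨u3, u4⟩ | ⟨u3, u4⟩
      · exact Or.inl ⟨u1, u2, key E F a sE sF EF u1 u3 vE0 vF0 ha⟩
      · exact Or.inl ⟨u1, u2, key E F' a sE sF' EF' u1 u4 vE0 vF0' ha⟩
      · exact Or.inr ⟨u1, u2, key E' F a' sE' sF E'F u2 u3 vE0' vF0 ha'⟩
      · exact Or.inr ⟨u1, u2, key E' F' a' sE' sF' E'F' u2 u4 vE0' vF0' ha'⟩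
    · exfalso
      rcases hp with ⟨u1, u2⟩ | ⟨u1, u2⟩
      · obtain ⟨k1, k2⟩ := C.w_degree hJz hR hR2 hR1 hRq sW sP WP h0 u1 vW0 vP0 hw hc
        exact false_of_W (q := (q : ℤ)) (m := (m : ℤ)) (H := (n : ℤ)) (J := (J : ℤ)) (w := w) (c := c')
          (c' := c) (a := a) (a' := a') hq hm7 hn hJz hw0 hc'0 hc0 ha0 ha'0 k1 k2 (by omega) (by omega)
          (by push_cast; linear_combination e0) (by push_cast; linear_combination e1)
      · obtain ⟨k1, k2⟩ := C.w_degree hJz hR hR2 hR1 hRq sW sP' WP' h0 u2 vW0 vP0' hw hc'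
        exact false_of_W (q := (q : ℤ)) (m := (m : ℤ)) (H := (n : ℤ)) (J := (J : ℤ)) (w := w) (c := c)
          (c' := c') (a := a) (a' := a') hq hm7 hn hJz hw0 hc0 hc'0 ha0 ha'0 k1 k2 hM hX
          (by push_cast; exact e0) (by push_cast; exact e1)
  have O : ∃ O : C.One, O.a = a ∧ O.a' = a' ∧ O.J = J := ⟨{
    W := W, P := P, P' := P', E := E, E' := E', w := w, c := c, c' := c', a := a, a' := a', J := J
    orth := ⟨fun z hz => hsg z (by simp only [List.mem_cons, List.not_mem_nil, or_false] at hz ⊢; tauto),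
      by simp [List.pairwise_cons, WP, WP', WE, WE', PP', PE, PE', P'E, P'E', EE']⟩
    oW := oW, oE := oE, oE' := oE'
    coef := fun v hv => ⟨(hprof v hv).1, (hprof v hv).2.1⟩
    eM := eM, eX0 := eX0
    mW := ⟨a1, a2⟩, mE := ⟨d1, d2⟩, mE' := ⟨d1', d2'⟩
    rW := ⟨rW, by rw [kW]; norm_num, vW0⟩
    rE := ⟨rE, by rw [kE]; norm_num, vE0⟩
    rE' := ⟨rE', by rw [kE']; norm_num, vE0'⟩
    hw := hw, ha := ha, ha' := ha', hw0 := hw0, ha0 := ha0, ha'0 := ha'0, hM := hM, hX := hX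
    hJ := hJz, e0 := by push_cast; exact e0, e1 := by push_cast; exact e1
    opt := hopt }, rfl, rfl, rfl⟩
  obtain ⟨O, Oa, Oa', OJ⟩ := O
  obtain ⟨φ₀, hφ₀⟩ := C.exists_phi
  rcases (hopt φ₀ hφ₀).2 with ⟨-, -, h⟩ | ⟨-, -, h⟩
  · exact O.false (by rw [Oa, OJ]; exact h)
  · exact O.swap.false (by simp only [One.swap]; rw [Oa', OJ]; exact h)

end Ctx

end CfsgLib.ReeType.Five
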