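import Cfsg.Agent.Lib.Ree.Five.Row
import Cfsg.Agent.Lib.Ree.Coherence

/-!
# The two possible decompositions of `M`, `X_0`, `X_1`
-/

set_option autoImplicit false
set_option linter.unusedSectionVars false

namespace CfsgLib.ReeType.Five

open scoped ComplexConjugate
open Subgroup Cfsg CfsgLib.Char CfsgLib.Char.Signed

universe u

attribute [local instance] _root_.Classical.propDecidable

variable {G : Type u} [Group G] [Fintype G] {q m n : ℕ}

/-- The trivial character. -/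
noncomputable def oneC : G → ℂ := fun _ => 1

theorem sg_oneC : Sg (oneC (G := G)) := ReeType.sg_one

theorem exists_unit {f : G → ℂ} (hf : Gen f) (h1 : 0 < iq f f) (h3 : iq f f ≤ 3) :
    ∃ a : G → ℂ, Sg a ∧ iq (f - a) (f - a) = iq f f - 1 ∧ iq a (f - a) = 0 := by
  have : Fintype (IrrCharacter G) := Fintype.ofFinite _
  obtain ⟨k, hk, he, hn⟩ := generalized_expand hf
  have hsum : ∑ ψ, k ψ ^ 2 = iq f f := (iq_eq _ hn).symm
  obtain ⟨χ, hχ⟩ : ∃ χ, k χ ≠ 0 := by
    by_contra hc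
    simp only [not_exists, not_not] at hc
    simp [hc] at hsum
    omega
  have hsq : k χ ^ 2 ≤ 3 :=
    le_trans (Finset.single_le_sum (fun i _ => sq_nonneg (k i)) (Finset.mem_univ χ))
      (hsum ▸ h3)
  have hu : k χ = 1 ∨ k χ = -1 := by
    have a : k χ ≤ 1 := by nlinarith
    have b : -1 ≤ k χ := by nlinarith
    omega
  set a : G → ℂ := (k χ : ℂ) • (χ : G → ℂ) with ha
  have hag : Gen a := Gen.zsmul (Sg.of_irr χ).gen _
  have hkk : k χ * k χ = 1 := by rcases hu with h | h <;> simp [h]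
  have haa : iq a a = 1 := by
    rw [iq_smul_left (Sg.of_irr χ).gen hag, iq_smul_right (Sg.of_irr χ).gen (Sg.of_irr χ).gen,
      (Sg.of_irr χ).iq_self]
    linear_combination hkk
  have hfa : iq f a = 1 := by
    rw [iq_smul_right hf (Sg.of_irr χ).gen, show iq f (χ : G → ℂ) = k χ from iq_eq _ (hk χ)]
    exact hkk
  refine ⟨a, Sg.of_iq hag haa, ?_, ?_⟩
  · rw [iq_sub_left hf hag (isGeneralizedCharacter_sub hf hag), iq_sub_right hf hf hag,
      iq_sub_right hag hf hag, haa, hfa, iq_comm hag hf, hfa]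
    ring
  · rw [iq_sub_right hag hf hag, haa, iq_comm hag hf, hfa]
    norm_num

/-- An irreducible orthogonal to a sum of two orthogonal ones is orthogonal to both. -/
theorem orth_two {a b c : G → ℂ} (ha : Sg a) (hb : Sg b) (hc : Sg c) (hbc : iq b c = 0)
    (h : iq a (b + c) = 0) : iq a b = 0 ∧ iq a c = 0 := by
  rw [iq_add_right ha.gen hb.gen hc.gen] at h
  rcases ha.iq_cases hb with e | ⟨e1, e⟩ | ⟨e1, e⟩
  · exact ⟨e, by omega⟩
  · rw [e] at h; rw [hb.iq_self, hbc] at h; omega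
  · rw [e, iq_neg_left hb.gen hb.gen, iq_neg_left hb.gen hc.gen, hb.iq_self, hbc] at h; omega

theorem exists_triple {f : G → ℂ} (hf : Gen f) (h3 : iq f f = 3) :
    ∃ a b c : G → ℂ, Orth [a, b, c] ∧ f = a + b + c := by
  obtain ⟨a, ha, hn, h0⟩ := exists_unit hf (by omega) (by omega)
  obtain ⟨b, c, hb, hc, hbc, he⟩ := exists_pair (isGeneralizedCharacter_sub hf ha.gen)
    (show iq (f - a) (f - a) = 2 by omega)
  rw [he] at h0
  obtain ⟨hab, hac⟩ := orth_two ha hb hc hbc h0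
  refine ⟨a, b, c, ⟨fun z hz => ?_, by simp [List.pairwise_cons, hab, hac, hbc]⟩,
    by rw [add_assoc, ← he, add_sub_cancel]⟩
  simp only [List.mem_cons, List.not_mem_nil, or_false] at hz
  rcases hz with rfl | rfl | rfl <;> assumption

/-- An irreducible orthogonal to a sum of three orthogonal ones is orthogonal to each. -/
theorem orth_three {v a b c : G → ℂ} (hv : Sg v) (h : Orth [a, b, c]) (h0 : iq v (a + b + c) = 0) :
    iq v a = 0 ∧ iq v b = 0 ∧ iq v c = 0 := by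
  obtain ⟨hsg, hp⟩ := h
  have ha : Sg a := hsg a (by simp)
  have hb : Sg b := hsg b (by simp)
  have hc : Sg c := hsg c (by simp)
  simp only [List.pairwise_cons, List.mem_cons, List.not_mem_nil, or_false, forall_eq_or_imp,
    forall_eq, IsEmpty.forall_iff, implies_true, List.Pairwise.nil, and_true] at hp
  obtain ⟨⟨hab, hac⟩, hbc⟩ := hp
  rw [iq_add_right hv.gen (isGeneralizedCharacter_add ha.gen hb.gen) hc.gen,
    iq_add_right hv.gen ha.gen hb.gen] at h0
  rcases hv.iq_cases ha with e | ⟨e1, e⟩ | ⟨e1, e⟩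
  · obtain ⟨h1, h2⟩ := orth_two hv hb hc hbc
      (by rw [iq_add_right hv.gen hb.gen hc.gen]; omega)
    exact ⟨e, h1, h2⟩
  · exfalso; rw [e] at h0; rw [ha.iq_self, hab, hac] at h0; omega
  · exfalso
    rw [e, iq_neg_left ha.gen ha.gen, iq_neg_left ha.gen hb.gen, iq_neg_left ha.gen hc.gen,
      ha.iq_self, hab, hac] at h0
    omega

namespace Ctx

variable {T : Setup G q m n} (C : Ctx T)

/-- The first shape. -/
structure ShapeOne where
  W : G → ℂ
  P : G → ℂ
  P' : G → ℂ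
  E : G → ℂ
  E' : G → ℂ
  F : G → ℂ
  F' : G → ℂ
  orth : Orth [oneC, W, P, P', E, E', F, F']
  eM : C.LM = oneC + W - P - P'
  eX0 : C.LX 0 = P + P' + E + E'
  eX1 : C.LX 1 = P + P' + F + F'

/-- The second shape. -/
structure ShapeTwo where
  S1 : G → ℂ
  S2 : G → ℂ
  E1 : G → ℂ
  E2 : G → ℂ
  F1 : G → ℂ
  F2 : G → ℂ
  orth : Orth [oneC, S1, S2, E1, E2, F1, F2]
  eM : C.LM = oneC - S1 - E1 - F1
  eX0 : C.LX 0 = S1 + S2 + E1 + E2
  eX1 : C.LX 1 = S1 + S2 + F1 + F2

variable {C}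

/-- The coefficients of a lift on the constituents of `1 - M`. -/
theorem x_coef {a b c : G → ℂ} (h : Orth [a, b, c]) (he : oneC - C.LM = a + b + c) (i : Fin 2) :
    (iq (C.LX i) a = 1 ∧ iq (C.LX i) b = 1 ∧ iq (C.LX i) c = 0) ∨
    (iq (C.LX i) a = 1 ∧ iq (C.LX i) b = 0 ∧ iq (C.LX i) c = 1) ∨
    (iq (C.LX i) a = 0 ∧ iq (C.LX i) b = 1 ∧ iq (C.LX i) c = 1) := by
  have hX := C.gen_LX i
  have ha : Sg a := h.1 a (by simp)
  have hb : Sg b := h.1 b (by simp)
  have hc : Sg c := h.1 c (by simp)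
  have hs : iq (C.LX i) a + iq (C.LX i) b + iq (C.LX i) c = 2 := by
    rw [← iq_add_right hX ha.gen hb.gen, ← iq_add_right hX (isGeneralizedCharacter_add ha.gen hb.gen)
      hc.gen, ← he, iq_sub_right hX sg_oneC.gen C.gen_LM, C.iq_LX_LM]
    rw [show iq (C.LX i) oneC = 0 from C.LX_one_inner i]
    norm_num
  have hb4 := Orth.bessel h hX
  rw [C.iq_LX_LX, if_pos rfl] at hb4
  simp only [List.map_cons, List.map_nil, List.sum_cons, List.sum_nil, add_zero] at hb4
  have hbound : ∀ v : G → ℂ, Sg v → iq (C.LX i) v ^ 2 ≤ 4 → -1 ≤ iq (C.LX i) v →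
      iq (C.LX i) v ≤ 1 := by
    intro v hv h4 _
    by_contra hlt
    have h2 : iq (C.LX i) v = 2 := by
      have : iq (C.LX i) v ≤ 2 := by nlinarith
      omega
    have hg : Gen ((2 : ℂ) • v) := by simpa using Gen.zsmul hv.gen 2
    have h0 : C.LX i - (2 : ℂ) • v = 0 := by
      refine eq_zero_of_iq_self (isGeneralizedCharacter_sub hX hg) (iq_eq 0 ?_)
      rw [classInner_sub_left, classInner_sub_right, classInner_sub_right, classInner_smul_right,
        classInner_smul_left, classInner_smul_left, classInner_smul_right, iq_spec hX hX,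
        iq_spec hX hv.gen, iq_spec hv.gen hX, hv.2, iq_comm hv.gen hX, h2, C.iq_LX_LX, if_pos rfl,
        map_ofNat]
      norm_num
    have h1 := congrFun h0 1
    rw [Pi.sub_apply, LX_one, Pi.smul_apply, Pi.zero_apply, smul_eq_mul] at h1
    exact hv.apply_one_ne (by linear_combination (-1 / 2 : ℂ) * h1)
  have s1 := sq_nonneg (iq (C.LX i) a)
  have s2 := sq_nonneg (iq (C.LX i) b)
  have s3 := sq_nonneg (iq (C.LX i) c)
  have a0 : -1 ≤ iq (C.LX i) a := by nlinarith [sq_nonneg (iq (C.LX i) b - iq (C.LX i) c)]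
  have b0 : -1 ≤ iq (C.LX i) b := by nlinarith [sq_nonneg (iq (C.LX i) a - iq (C.LX i) c)]
  have c0 : -1 ≤ iq (C.LX i) c := by nlinarith [sq_nonneg (iq (C.LX i) a - iq (C.LX i) b)]
  have a1 := hbound a ha (by linarith) a0
  have b1 := hbound b hb (by linarith) b0
  have c1 := hbound c hc (by linarith) c0
  omega

/-- The rest of a lift. -/
theorem x_rest {a b c : G → ℂ} (h : Orth [a, b, c]) (he : oneC - C.LM = a + b + c) (i : Fin 2)
    (pa : iq (C.LX i) a = 1) (pb : iq (C.LX i) b = 1) (pc : iq (C.LX i) c = 0) :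
    ∃ E E' : G → ℂ, Sg E ∧ Sg E' ∧ iq E E' = 0 ∧ C.LX i = a + b + E + E' ∧
      (iq oneC E = 0 ∧ iq a E = 0 ∧ iq b E = 0 ∧ iq c E = 0) ∧
      (iq oneC E' = 0 ∧ iq a E' = 0 ∧ iq b E' = 0 ∧ iq c E' = 0) := by
  have hX := C.gen_LX i
  have ha : Sg a := h.1 a (by simp)
  have hb : Sg b := h.1 b (by simp)
  have hc : Sg c := h.1 c (by simp)
  obtain ⟨hsg, hp⟩ := h
  simp only [List.pairwise_cons, List.mem_cons, List.not_mem_nil, or_false, forall_eq_or_imp,
    forall_eq, IsEmpty.forall_iff, implies_true, List.Pairwise.nil, and_true] at hp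
  obtain ⟨⟨hab, hac⟩, hbc⟩ := hp
  have hoa : iq oneC a = 0 ∧ iq oneC b = 0 ∧ iq oneC c = 0 :=
    orth_three sg_oneC ⟨hsg, by simp [List.pairwise_cons, hab, hac, hbc]⟩ (by
      rw [← he, iq_sub_right sg_oneC.gen sg_oneC.gen C.gen_LM, sg_oneC.iq_self,
        iq_comm sg_oneC.gen C.gen_LM, show iq C.LM oneC = 1 from C.LM_one_inner]
      norm_num)
  have hab' := isGeneralizedCharacter_add ha.gen hb.gen
  set R := C.LX i - (a + b) with hR
  have hRg : Gen R := isGeneralizedCharacter_sub hX hab'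
  have hv : ∀ v : G → ℂ, Gen v → iq v R = iq v (C.LX i) - (iq v a + iq v b) := fun v hv => by
    rw [hR, iq_sub_right hv hX hab', iq_add_right hv ha.gen hb.gen]
  have za : iq a R = 0 := by rw [hv a ha.gen, iq_comm ha.gen hX, pa, ha.iq_self, hab]; norm_num
  have zb : iq b R = 0 := by
    rw [hv b hb.gen, iq_comm hb.gen hX, pb, iq_comm hb.gen ha.gen, hab, hb.iq_self]; norm_num
  have zc : iq c R = 0 := by
    rw [hv c hc.gen, iq_comm hc.gen hX, pc, iq_comm hc.gen ha.gen, hac, iq_comm hc.gen hb.gen, hbc]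
    norm_num
  have zo : iq oneC R = 0 := by
    rw [hv _ sg_oneC.gen, iq_comm sg_oneC.gen hX, show iq (C.LX i) oneC = 0 from C.LX_one_inner i,
      hoa.1, hoa.2.1]
    norm_num
  have hn : iq R R = 2 := by
    rw [hv R hRg, iq_comm hRg hX, hv _ hX, C.iq_LX_LX, if_pos rfl, pa, pb, iq_comm hRg ha.gen,
      za, iq_comm hRg hb.gen, zb]
    norm_num
  obtain ⟨E, E', hE, hE', hEE, hRe⟩ := exists_pair hRg hn
  rw [hRe] at za zb zc zo
  obtain ⟨o1, o2⟩ := orth_two sg_oneC hE hE' hEE zo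
  obtain ⟨a1, a2⟩ := orth_two ha hE hE' hEE za
  obtain ⟨b1, b2⟩ := orth_two hb hE hE' hEE zb
  obtain ⟨c1, c2⟩ := orth_two hc hE hE' hEE zc
  refine ⟨E, E', hE, hE', hEE, ?_, ⟨o1, a1, b1, c1⟩, o2, a2, b2, c2⟩
  rw [add_assoc _ E, ← hRe, hR]
  abel

theorem build_one {a b c : G → ℂ} (h : Orth [a, b, c]) (he : oneC - C.LM = a + b + c)
    (p0 : iq (C.LX 0) a = 1 ∧ iq (C.LX 0) b = 1 ∧ iq (C.LX 0) c = 0)
    (p1 : iq (C.LX 1) a = 1 ∧ iq (C.LX 1) b = 1 ∧ iq (C.LX 1) c = 0) : Nonempty C.ShapeOne := by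
  obtain ⟨E, E', hE, hE', hEE, e0, ⟨oE, aE, bE, cE⟩, oE', aE', bE', cE'⟩ :=
    x_rest h he 0 p0.1 p0.2.1 p0.2.2
  obtain ⟨F, F', hF, hF', hFF, e1, ⟨oF, aF, bF, cF⟩, oF', aF', bF', cF'⟩ :=
    x_rest h he 1 p1.1 p1.2.1 p1.2.2
  obtain ⟨hsg, hp⟩ := h
  have ha : Sg a := hsg a (by simp)
  have hb : Sg b := hsg b (by simp)
  have hc : Sg c := hsg c (by simp)
  simp only [List.pairwise_cons, List.mem_cons, List.not_mem_nil, or_false, forall_eq_or_imp,
    forall_eq, IsEmpty.forall_iff, implies_true, List.Pairwise.nil, and_true] at hp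
  obtain ⟨⟨hab, hac⟩, hbc⟩ := hp
  have hoa : iq oneC a = 0 ∧ iq oneC b = 0 ∧ iq oneC c = 0 :=
    orth_three sg_oneC ⟨hsg, by simp [List.pairwise_cons, hab, hac, hbc]⟩ (by
      rw [← he, iq_sub_right sg_oneC.gen sg_oneC.gen C.gen_LM, sg_oneC.iq_self,
        iq_comm sg_oneC.gen C.gen_LM, show iq C.LM oneC = 1 from C.LM_one_inner]
      norm_num)
  have hsum : iq E F + iq E F' + (iq E' F + iq E' F') = 0 := by
    have h2 := C.iq_LX_LX 0 1
    rw [if_neg (by decide)] at h2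
    refine Eq.trans (Eq.symm ?_) (show iq (C.LX 0) (C.LX 1) - 2 = 0 by omega)
    rw [sub_eq_iff_eq_add]
    refine iq_eq _ ?_
    rw [e0, e1]
    simp only [classInner_add_left, classInner_add_right, ha.2, hb.2, iq_spec ha.gen hb.gen,
      iq_spec hb.gen ha.gen, iq_spec ha.gen hF.gen, iq_spec ha.gen hF'.gen, iq_spec hb.gen hF.gen,
      iq_spec hb.gen hF'.gen, iq_spec hE.gen ha.gen, iq_spec hE'.gen ha.gen, iq_spec hE.gen hb.gen,
      iq_spec hE'.gen hb.gen, iq_spec hE.gen hF.gen, iq_spec hE.gen hF'.gen, iq_spec hE'.gen hF.gen,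
      iq_spec hE'.gen hF'.gen, iq_comm hb.gen ha.gen, iq_comm hE.gen ha.gen, iq_comm hE'.gen ha.gen,
      iq_comm hE.gen hb.gen, iq_comm hE'.gen hb.gen, hab, aF, aF', bF, bF', aE, aE', bE, bE']
    push_cast
    ring
  set R := F + F' with hR
  have hRg : Gen R := isGeneralizedCharacter_add hF.gen hF'.gen
  have hRR : iq R R = 2 := by
    rw [hR, iq_add_left hF.gen hF'.gen hRg, iq_add_right hF.gen hF.gen hF'.gen,
      iq_add_right hF'.gen hF.gen hF'.gen, hF.iq_self, hF'.iq_self, iq_comm hF'.gen hF.gen, hFF]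
    norm_num
  set k := iq E R with hk
  have hk' : iq E' R = -k := by
    rw [hk, hR, iq_add_right hE.gen hF.gen hF'.gen, iq_add_right hE'.gen hF.gen hF'.gen]; omega
  have hk0 : k = 0 := by
    by_contra hk0
    have hb2 := Orth.bessel (G := G) (l := [E, E']) ⟨fun z hz => by
      simp only [List.mem_cons, List.not_mem_nil, or_false] at hz
      rcases hz with rfl | rfl <;> assumption, by simp [hEE]⟩ hRg
    simp only [List.map_cons, List.map_nil, List.sum_cons, List.sum_nil, add_zero,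
      iq_comm hRg hE.gen, iq_comm hRg hE'.gen, ← hk, hk', hRR] at hb2
    have hk1 : k * k = 1 := by
      have u1 : k ≤ 1 := by nlinarith
      have u2 : -1 ≤ k := by nlinarith
      obtain u | u : k = 1 ∨ k = -1 := by omega
      all_goals rw [u]; norm_num
    have hS : Gen ((k : ℂ) • (E - E')) :=
      Gen.zsmul (isGeneralizedCharacter_sub hE.gen hE'.gen) k
    have hkk : (k : ℂ) * k = 1 := by exact_mod_cast hk1
    have h0 : R - (k : ℂ) • (E - E') = 0 := by
      refine eq_zero_of_iq_self (isGeneralizedCharacter_sub hRg hS) (iq_eq 0 ?_)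
      simp only [classInner_sub_left, classInner_sub_right, classInner_smul_left,
        classInner_smul_right, map_intCast, iq_spec hRg hRg, iq_spec hRg hE.gen,
        iq_spec hRg hE'.gen, iq_spec hE.gen hRg, iq_spec hE'.gen hRg, iq_spec hE.gen hE'.gen,
        iq_spec hE'.gen hE.gen, hE.2, hE'.2, iq_comm hRg hE.gen, iq_comm hRg hE'.gen,
        iq_comm hE'.gen hE.gen, hEE, ← hk, hk', hRR]
      push_cast
      linear_combination (-2 : ℂ) * hkk
    have v0 := congrFun e0 1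
    have v1 := congrFun e1 1
    have v2 := congrFun h0 1
    simp only [LX_one, Pi.add_apply, Pi.sub_apply, Pi.smul_apply, Pi.zero_apply, smul_eq_mul,
      hR] at v0 v1 v2
    obtain u | u : k = 1 ∨ k = -1 := by
      rcases mul_self_eq_one_iff.1 hk1 with u | u
      · exact Or.inl u
      · exact Or.inr u
    · rw [u] at v2; push_cast at v2
      exact hE'.apply_one_ne (by linear_combination (-1 / 2 : ℂ) * v0 + (1 / 2 : ℂ) * v1 + (1 / 2 : ℂ) * v2)
    · rw [u] at v2; push_cast at v2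
      exact hE.apply_one_ne (by linear_combination (-1 / 2 : ℂ) * v0 + (1 / 2 : ℂ) * v1 + (1 / 2 : ℂ) * v2)
  obtain ⟨EF, EF'⟩ := orth_two hE hF hF' hFF (hk.symm.trans hk0)
  obtain ⟨E'F, E'F'⟩ := orth_two hE' hF hF' hFF (show iq E' R = 0 by rw [hk', hk0]; rfl)
  refine ⟨⟨-c, a, b, E, E', F, F', ⟨fun z hz => ?_, ?_⟩, ?_, e0, e1⟩⟩
  · simp only [List.mem_cons, List.not_mem_nil, or_false] at hz
    rcases hz with rfl | rfl | rfl | rfl | rfl | rfl | rfl | rfl
    exacts [sg_oneC, hc.neg, ha, hb, hE, hE', hF, hF']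
  · simp [List.pairwise_cons, iq_neg_right sg_oneC.gen hc.gen, iq_neg_left hc.gen ha.gen,
      iq_neg_left hc.gen hb.gen, iq_neg_left hc.gen hE.gen, iq_neg_left hc.gen hE'.gen,
      iq_neg_left hc.gen hF.gen, iq_neg_left hc.gen hF'.gen, iq_comm hc.gen ha.gen,
      iq_comm hc.gen hb.gen, hoa, hab, hac, hbc, oE, oE', oF, oF', aE, aE', aF, aF', bE, bE', bF, bF',
      cE, cE', cF, cF', hEE, hFF, EF, EF', E'F, E'F']
  · linear_combination (norm := module) (-1 : ℂ) • he

theorem build_two {a b c : G → ℂ} (h : Orth [a, b, c]) (he : oneC - C.LM = a + b + c)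
    (p0 : iq (C.LX 0) a = 1 ∧ iq (C.LX 0) b = 1 ∧ iq (C.LX 0) c = 0)
    (p1 : iq (C.LX 1) a = 1 ∧ iq (C.LX 1) b = 0 ∧ iq (C.LX 1) c = 1) : Nonempty C.ShapeTwo := by
  obtain ⟨hsg, hp⟩ := h
  have ha : Sg a := hsg a (by simp)
  have hb : Sg b := hsg b (by simp)
  have hc : Sg c := hsg c (by simp)
  simp only [List.pairwise_cons, List.mem_cons, List.not_mem_nil, or_false, forall_eq_or_imp,
    forall_eq, IsEmpty.forall_iff, implies_true, List.Pairwise.nil, and_true] at hp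
  obtain ⟨⟨hab, hac⟩, hbc⟩ := hp
  have h : Orth [a, b, c] := ⟨hsg, by simp [List.pairwise_cons, hab, hac, hbc]⟩
  have h' : Orth [a, c, b] := ⟨fun z hz => hsg z (by simp at hz ⊢; tauto),
    by simp [List.pairwise_cons, hab, hac, iq_comm hc.gen hb.gen, hbc]⟩
  obtain ⟨E, E', hE, hE', hEE, e0, ⟨oE, aE, bE, cE⟩, oE', aE', bE', cE'⟩ :=
    x_rest h he 0 p0.1 p0.2.1 p0.2.2
  obtain ⟨F, F', hF, hF', hFF, e1, ⟨oF, aF, cF, bF⟩, oF', aF', cF', bF'⟩ :=
    x_rest h' (he.trans (by abel)) 1 p1.1 p1.2.2 p1.2.1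
  have hoa : iq oneC a = 0 ∧ iq oneC b = 0 ∧ iq oneC c = 0 :=
    orth_three sg_oneC h (by
      rw [← he, iq_sub_right sg_oneC.gen sg_oneC.gen C.gen_LM, sg_oneC.iq_self,
        iq_comm sg_oneC.gen C.gen_LM, show iq C.LM oneC = 1 from C.LM_one_inner]
      norm_num)
  have hsum : iq E F + iq E F' + (iq E' F + iq E' F') = 1 := by
    have h2 := C.iq_LX_LX 0 1
    rw [if_neg (by decide)] at h2
    refine Eq.trans (Eq.symm ?_) (show iq (C.LX 0) (C.LX 1) - 1 = 1 by omega)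
    rw [sub_eq_iff_eq_add]
    refine iq_eq _ ?_
    rw [e0, e1]
    simp only [classInner_add_left, classInner_add_right, ha.2, iq_spec ha.gen hc.gen,
      iq_spec hb.gen hc.gen, iq_spec hb.gen ha.gen, iq_spec ha.gen hF.gen, iq_spec ha.gen hF'.gen,
      iq_spec hb.gen hF.gen, iq_spec hb.gen hF'.gen, iq_spec hE.gen ha.gen, iq_spec hE'.gen ha.gen,
      iq_spec hE.gen hc.gen, iq_spec hE'.gen hc.gen, iq_spec hE.gen hF.gen, iq_spec hE.gen hF'.gen,
      iq_spec hE'.gen hF.gen, iq_spec hE'.gen hF'.gen, iq_comm hb.gen ha.gen, iq_comm hE.gen ha.gen,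
      iq_comm hE'.gen ha.gen, iq_comm hE.gen hc.gen, iq_comm hE'.gen hc.gen, hab, hac, hbc, aF, aF',
      bF, bF', aE, aE', cE, cE']
    push_cast
    ring
  -- the shared constituent
  have key : ∀ E E' : G → ℂ, Sg E → Sg E' → iq E E' = 0 → C.LX 0 = a + b + E + E' →
      iq oneC E = 0 → iq a E = 0 → iq b E = 0 → iq c E = 0 →
      iq oneC E' = 0 → iq a E' = 0 → iq b E' = 0 → iq c E' = 0 →
      iq E F + iq E F' = 1 → iq E' F + iq E' F' = 0 → Nonempty C.ShapeTwo := by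
    intro E E' hE hE' hEE e0 oE aE bE cE oE' aE' bE' cE' hs hs'
    obtain ⟨z1, z2⟩ := orth_two hE' hF hF' hFF (by rw [iq_add_right hE'.gen hF.gen hF'.gen]; exact hs')
    have : ∃ F2 : G → ℂ, Sg F2 ∧ C.LX 1 = a + E + c + F2 ∧ iq oneC F2 = 0 ∧ iq a F2 = 0 ∧
        iq b F2 = 0 ∧ iq c F2 = 0 ∧ iq E F2 = 0 ∧ iq E' F2 = 0 := by
      rcases hE.iq_cases hF with e | ⟨e', e⟩ | ⟨e', e⟩
      · rcases hE.iq_cases hF' with g | ⟨g', g⟩ | ⟨g', g⟩
        · omega
        · exact ⟨F, hF, by rw [e1, g]; abel, oF, aF, bF, cF, e, z1⟩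
        · omega
      · exact ⟨F', hF', by rw [e1, e]; abel, oF', aF', bF', cF', by omega, z2⟩
      · exfalso
        rw [e', e, iq_neg_left hF.gen hF'.gen, hFF] at hs
        omega
    obtain ⟨F2, hF2, e1', oF2, aF2, bF2, cF2, EF2, E'F2⟩ := this
    refine ⟨⟨a, E, b, E', c, F2, ⟨fun z hz => ?_, ?_⟩, ?_, ?_, e1'⟩⟩
    · simp only [List.mem_cons, List.not_mem_nil, or_false] at hz
      rcases hz with rfl | rfl | rfl | rfl | rfl | rfl | rfl
      exacts [sg_oneC, ha, hE, hb, hE', hc, hF2]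
    · simp [List.pairwise_cons, hoa, hab, hac, hbc, oE, oE', oF2, aE, aE', aF2, bF2, cF2,
        iq_comm hE.gen hb.gen, bE, bE', iq_comm hE.gen hc.gen, cE, iq_comm hE'.gen hc.gen, cE',
        hEE, EF2, E'F2]
    · linear_combination (norm := module) (-1 : ℂ) • he
    · rw [e0]; abel
  have hR : Gen (F + F') := isGeneralizedCharacter_add hF.gen hF'.gen
  have hb2 := Orth.bessel (G := G) (l := [E, E']) ⟨fun z hz => by
      simp only [List.mem_cons, List.not_mem_nil, or_false] at hz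
      rcases hz with rfl | rfl <;> assumption, by simp [hEE]⟩ hR
  simp only [List.map_cons, List.map_nil, List.sum_cons, List.sum_nil, add_zero] at hb2
  rw [iq_add_left hF.gen hF'.gen hE.gen, iq_add_left hF.gen hF'.gen hE'.gen,
    iq_comm hF.gen hE.gen, iq_comm hF'.gen hE.gen, iq_comm hF.gen hE'.gen, iq_comm hF'.gen hE'.gen,
    iq_add_left hF.gen hF'.gen hR, iq_add_right hF.gen hF.gen hF'.gen,
    iq_add_right hF'.gen hF.gen hF'.gen, hF.iq_self, hF'.iq_self, iq_comm hF'.gen hF.gen, hFF] at hb2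
  have u1 : iq E F + iq E F' ≤ 1 := by nlinarith
  have u2 : 0 ≤ iq E F + iq E F' := by nlinarith
  obtain hu | hu : iq E F + iq E F' = 1 ∨ iq E F + iq E F' = 0 := by omega
  · exact key E E' hE hE' hEE e0 oE aE bE cE oE' aE' bE' cE' hu (by omega)
  · exact key E' E hE' hE (iq_comm hE'.gen hE.gen ▸ hEE) (by rw [e0]; abel) oE' aE' bE' cE' oE aE bE cE
      (by omega) hu

theorem shapes (C : Ctx T) : Nonempty C.ShapeOne ∨ Nonempty C.ShapeTwo := by
  have hM1 : Gen (oneC - C.LM) := isGeneralizedCharacter_sub sg_oneC.gen C.gen_LM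
  have h3 : iq (oneC - C.LM) (oneC - C.LM) = 3 := by
    rw [iq_sub_left sg_oneC.gen C.gen_LM hM1, iq_sub_right sg_oneC.gen sg_oneC.gen C.gen_LM,
      iq_sub_right C.gen_LM sg_oneC.gen C.gen_LM, sg_oneC.iq_self, C.iq_LM_LM,
      iq_comm sg_oneC.gen C.gen_LM, show iq C.LM oneC = 1 from C.LM_one_inner]
    norm_num
  obtain ⟨a, b, c, h, he⟩ := exists_triple hM1 h3
  obtain ⟨hsg, hp⟩ := h
  have ha : Sg a := hsg a (by simp)
  have hb : Sg b := hsg b (by simp)
  have hc : Sg c := hsg c (by simp)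
  simp only [List.pairwise_cons, List.mem_cons, List.not_mem_nil, or_false, forall_eq_or_imp,
    forall_eq, IsEmpty.forall_iff, implies_true, List.Pairwise.nil, and_true] at hp
  obtain ⟨⟨hab, hac⟩, hbc⟩ := hp
  have hba := (iq_comm hb.gen ha.gen).trans hab
  have hca := (iq_comm hc.gen ha.gen).trans hac
  have hcb := (iq_comm hc.gen hb.gen).trans hbc
  -- the renumberings
  have fin : ∀ a b c : G → ℂ, Orth [a, b, c] → oneC - C.LM = a + b + c →
      (iq (C.LX 0) a = 1 ∧ iq (C.LX 0) b = 1 ∧ iq (C.LX 0) c = 0) →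
      Nonempty C.ShapeOne ∨ Nonempty C.ShapeTwo := by
    intro a b c h he p0
    rcases x_coef h he 1 with p | p | p
    · exact Or.inl (build_one h he p0 p)
    · exact Or.inr (build_two h he p0 p)
    · obtain ⟨hsg, hp⟩ := h
      have ha : Sg a := hsg a (by simp)
      have hb : Sg b := hsg b (by simp)
      simp only [List.pairwise_cons, List.mem_cons, List.not_mem_nil, or_false, forall_eq_or_imp,
        forall_eq, IsEmpty.forall_iff, implies_true, List.Pairwise.nil, and_true] at hp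
      refine Or.inr (build_two (a := b) (b := a) (c := c) ⟨fun z hz => hsg z (by simp at hz ⊢; tauto),
        by simp [List.pairwise_cons, iq_comm hb.gen ha.gen, hp]⟩ (he.trans (by abel))
        ⟨p0.2.1, p0.1, p0.2.2⟩ ⟨p.2.1, p.1, p.2.2⟩)
  have h : Orth [a, b, c] := ⟨hsg, by simp [List.pairwise_cons, hab, hac, hbc]⟩
  rcases x_coef h he 0 with p | p | p
  · exact fin a b c h he p
  · exact fin a c b ⟨fun z hz => hsg z (by simp at hz ⊢; tauto),
      by simp [List.pairwise_cons, hab, hac, hcb]⟩ (he.trans (by abel)) ⟨p.1, p.2.2, p.2.1⟩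
  · exact fin b c a ⟨fun z hz => hsg z (by simp at hz ⊢; tauto),
      by simp [List.pairwise_cons, hba, hca, hbc]⟩ (he.trans (by abel)) ⟨p.2.1, p.2.2, p.1⟩

end Ctx

end CfsgLib.ReeType.Five
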