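import Cfsg.Agent.Lib.Ree.Five.Fd
import Cfsg.Agent.Lib.Ree.Five.Shape
import Cfsg.Agent.Lib.Char.FrobeniusSchur
import Cfsg.Agent.Lib.Char.SmallGraph.Coprime

/-!
# Congruences from restriction, reality and indicators
-/

set_option autoImplicit false
set_option linter.unusedSectionVars false

namespace CfsgLib.ReeType.Five

open scoped ComplexConjugate
open Subgroup Cfsg CfsgLib.Char CfsgLib.Char.Signed
open CfsgLib.ReeType.Setup (OddSupp)

universe u

attribute [local instance] _root_.Classical.propDecidable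

variable {G : Type u} [Group G] [Fintype G] {q m n : ℕ}

/-- The values at inverse elements agree. -/
def InvInv {X : Type*} [Group X] (f : X → ℂ) : Prop := ∀ x, f x⁻¹ = f x

theorem gen_inv {X : Type u} [Group X] [Fintype X] {f : X → ℂ} (hf : IsGeneralizedCharacter X f)
    (x : X) : f x⁻¹ = conj (f x) := by
  obtain ⟨a, b, ha, hb, rfl⟩ := hf
  simp only [Pi.sub_apply, map_sub, isCharacter_inv ha, isCharacter_inv hb]

theorem invInv_indFun_of_pointwise {X : Type u} [Group X] [Fintype X] (H : Subgroup X) {f : H → ℂ}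
    (hf : InvInv f) : InvInv (indFun H f) := by
  intro x
  simp only [indFun]
  congr 1
  refine Finset.sum_congr rfl fun k _ => ?_
  rw [show k⁻¹ * x⁻¹ * k = (k⁻¹ * x * k)⁻¹ by group]
  by_cases hm : k⁻¹ * x * k ∈ H
  · rw [extendByZero_mem _ _ hm, extendByZero_mem _ _ (inv_mem hm)]
    exact hf ⟨_, hm⟩
  · rw [extendByZero_not_mem _ _ hm, extendByZero_not_mem _ _ (fun h => hm (inv_mem_iff.1 h))]

theorem invInv_indFun_of_inverted {X : Type u} [Group X] [Fintype X] (H : Subgroup X) (f : H → ℂ)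
    (hw : ∀ h ∈ H, ∃ g : X, g * h * g⁻¹ = h⁻¹) : InvInv (indFun H f) := by
  intro x
  by_cases hx : ∃ k, k⁻¹ * x * k ∈ H
  · obtain ⟨k, hk⟩ := hx
    obtain ⟨g, hg⟩ := hw _ hk
    have e : (k * g * k⁻¹) * x * (k * g * k⁻¹)⁻¹ = x⁻¹ := by
      calc (k * g * k⁻¹) * x * (k * g * k⁻¹)⁻¹ = k * (g * (k⁻¹ * x * k) * g⁻¹) * k⁻¹ := by group
        _ = x⁻¹ := by rw [hg]; group
    rw [← e]
    exact isClassFunction_indFun _ _ x _
  · push Not at hx
    simp only [indFun]
    congr 1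
    refine Finset.sum_congr rfl fun k _ => ?_
    rw [extendByZero_not_mem _ _ (hx k), extendByZero_not_mem]
    intro h
    exact hx k (by have := inv_mem h; rwa [show (k⁻¹ * x⁻¹ * k)⁻¹ = k⁻¹ * x * k by group] at this)

theorem exists_inverting {X : Type*} [Group X] [Finite X] {Y H D : Subgroup X}
    (T : ReeType.Torus Y H D) {h : X} (hh : h ∈ Y) : ∃ g : X, g * h * g⁻¹ = h⁻¹ := by
  obtain ⟨g, hg, hgH⟩ : ∃ g ∈ D, g ∉ H := by
    by_contra hc
    push Not at hc
    have := Subgroup.card_le_of_le (show D ≤ H from hc)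
    rw [T.card] at this
    have : 0 < Nat.card H := Nat.card_pos
    omega
  exact ⟨g, T.inv g hg hgH h hh⟩

/-- The indicator. -/
noncomputable def nu (f : G → ℂ) : ℂ := (Nat.card G : ℂ)⁻¹ * ∑ s : G, f (s * s)

theorem nu_add (f g : G → ℂ) : nu (f + g) = nu f + nu g := by
  simp only [nu, Pi.add_apply, Finset.sum_add_distrib, mul_add]

theorem nu_sub (f g : G → ℂ) : nu (f - g) = nu f - nu g := by
  simp only [nu, Pi.sub_apply, Finset.sum_sub_distrib, mul_sub]

theorem nu_oneC : nu (oneC (G := G)) = 1 := by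
  simp only [nu, oneC, Finset.sum_const, Finset.card_univ, nsmul_eq_mul, mul_one,
    ← Nat.card_eq_fintype_card]
  exact inv_mul_cancel₀ (by exact_mod_cast Nat.card_pos.ne')

theorem nu_sg {v : G → ℂ} (hv : Sg v) {w : ℤ} (hw : v 1 = w) (hodd : Odd w) (hreal : InvInv v) :
    nu v = if 0 < w then 1 else -1 := by
  obtain ⟨⟨χ, hχ⟩, ε, hε, hf⟩ := hv.exists_irr
  obtain ⟨d, ρ, hρ, hd⟩ := hχ
  subst hd
  have h1 : ρ.character 1 = d := by rw [Representation.char_one, Module.finrank_fin_fun]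
  have hw' : (w : ℂ) = ((ε * d : ℤ) : ℂ) := by
    rw [← hw, hf]
    show (ε : ℂ) * ρ.character 1 = _
    rw [h1]; push_cast; rfl
  have hwd : w = ε * d := by exact_mod_cast hw'
  have hd' : Odd d := by
    rcases hε with rfl | rfl
    · rw [hwd, one_mul] at hodd; exact_mod_cast hodd
    · rw [hwd, neg_one_mul, odd_neg] at hodd; exact_mod_cast hodd
  have hd0 : 0 < (d : ℤ) := by
    have := hd'.pos
    exact_mod_cast this
  have hεc : (ε : ℂ) ≠ 0 := by rcases hε with rfl | rfl <;> norm_num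
  have him : ∀ g : G, (ρ.character g).im = 0 := fun g => by
    refine Complex.conj_eq_iff_im.1 ?_
    rw [← isCharacter_inv ⟨d, ρ, rfl⟩ g]
    refine mul_left_cancel₀ hεc ?_
    have h := hreal g
    rw [hf] at h
    exact h
  have hfs := fs_indicator_one_of_odd ρ hd' him
  have : nu v = (ε : ℂ) * ((Nat.card G : ℂ)⁻¹ * ∑ s : G, ρ.character (s * s)) := by
    rw [nu, hf, Finset.mul_sum, Finset.mul_sum, Finset.mul_sum]
    exact Finset.sum_congr rfl fun s _ => by rw [Pi.smul_apply, smul_eq_mul]; ring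
  rw [this, hfs, mul_one]
  rcases hε with rfl | rfl
  · rw [if_pos (by omega), Int.cast_one]
  · rw [if_neg (by omega)]; norm_num

/-- The complex conjugate. -/
noncomputable def conjFun (v : G → ℂ) : G → ℂ := fun g => v g⁻¹

theorem sg_conjFun {v : G → ℂ} (hv : Sg v) : Sg (conjFun v) := by
  refine ⟨?_, ?_⟩
  · obtain ⟨a, b, ha, hb, rfl⟩ := hv.gen
    exact ⟨_, _, isCharacter_conj ha, isCharacter_conj hb, funext fun g => by
      simp only [conjFun, Pi.sub_apply, isCharacter_inv ha, isCharacter_inv hb]⟩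
  · rw [← hv.2]
    simp only [classInner, conjFun]
    congr 1
    exact Fintype.sum_bijective _ inv_involutive.bijective _ _ fun _ => rfl

theorem iq_conjFun {L v : G → ℂ} (hL : InvInv L) : iq L (conjFun v) = iq L v := by
  simp only [iq, classInner, conjFun]
  congr 2
  congr 1
  exact Fintype.sum_bijective _ inv_involutive.bijective _ _ fun g => by rw [hL g]

/-- Bessel's inequality for an irreducible. -/
theorem unit_bound {v : G → ℂ} (hv : Sg v) {l : List (G → ℂ)} (hl : Orth l) :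
    (l.map fun a => iq v a ^ 2).sum ≤ 1 := hv.iq_self ▸ hl.bessel hv.gen

namespace Setup

variable (T : Setup G q m n)

theorem nu_lift {f : T.K → ℂ} (hf : OddSupp f) : nu (T.lift f) = 0 := by
  refine mul_eq_zero_of_right _ (Finset.sum_eq_zero fun s _ => T.lift_odd hf ?_)
  rw [← pow_two, orderOf_pow]
  have h4 := T.two_sq s
  rcases Nat.even_or_odd (orderOf s) with ⟨k, hk⟩ | ho
  · rw [show (orderOf s).gcd 2 = 2 from Nat.gcd_eq_right ⟨k, by omega⟩]
    refine Nat.odd_iff.2 ?_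
    omega
  · rw [Nat.Coprime.gcd_eq_one (Nat.coprime_two_right.2 ho), Nat.div_one]
    exact ho

theorem invInv_lift {f : T.K → ℂ} (hf : InvInv f) : InvInv (T.lift f) := by
  refine invInv_indFun_of_pointwise _ fun c => ?_
  simp only [gf, map_inv, Units.val_inv_eq_inv_val]
  rw [hf]
  congr 2
  show ((if _ then (1 : ℂˣ) else -1 : ℂˣ) : ℂ)⁻¹ = ((if _ then (1 : ℂˣ) else -1 : ℂˣ) : ℂ)
  split_ifs <;> simp

end Setup

namespace Ctx

variable {T : Setup G q m n} (C : Ctx T)

theorem invInv_P (θ : C.F.A →* ℂˣ) : InvInv (C.F.P C.Ψ θ) := by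
  have hE : InvInv (C.F.Xi C.Ψ) := by
    refine invInv_indFun_of_inverted _ _ fun h hh => ?_
    rcases eq_or_ne h 1 with rfl | h1
    · exact ⟨1, by simp⟩
    · have hc := C.F.card_inverting_E C.facts hh h1
      obtain ⟨⟨w, -, hw⟩⟩ := (Nat.card_pos_iff.1 (hc.symm ▸ C.facts.q_pos)).1
      exact ⟨w, hw⟩
  intro x
  simp only [Frame.P, Pi.sub_apply, Pi.smul_apply, hE x,
    invInv_indFun_of_inverted _ (lc θ) (fun h hh => exists_inverting C.F.torus_A hh) x]

theorem invInv_Ep (ψ : C.F.E →* ℂˣ) : InvInv (C.F.Ep ψ) := by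
  refine invInv_indFun_of_inverted _ _ fun h hh => ?_
  rcases eq_or_ne h 1 with rfl | h1
  · exact ⟨1, by simp⟩
  · have hc := C.F.card_inverting_E C.facts hh h1
    obtain ⟨⟨w, -, hw⟩⟩ := (Nat.card_pos_iff.1 (hc.symm ▸ C.facts.q_pos)).1
    exact ⟨w, hw⟩

theorem invInv_Q (l : C.F.L →* ℂˣ) : InvInv (C.F.Q C.Ψ l) := by
  intro x
  have e : C.F.Xi C.Ψ = C.F.Ep (C.Ψ.ψ 0) + C.F.Ep (C.Ψ.ψ 1) := by rw [Frame.Xi, indFun_add]; rfl
  simp only [Frame.Q, e, Pi.sub_apply, Pi.add_apply, C.invInv_Ep _ x,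
    invInv_indFun_of_inverted _ (lc l) (fun h hh => exists_inverting C.F.torus_L hh) x]

theorem invInv_LM : InvInv C.LM := T.invInv_lift (C.invInv_Q 1)

theorem invInv_LX (i : Fin 2) : InvInv (C.LX i) := by
  refine T.invInv_lift fun x => ?_
  simp only [C.F.fX_eq C.Ψ C.facts, Frame.Dl, Pi.add_apply, Pi.smul_apply, Pi.sub_apply,
    C.invInv_P _ x, C.invInv_Q _ x, C.invInv_Ep _ x]

theorem nu_LM : nu C.LM = 0 := T.nu_lift (C.F.Q_oddSupp C.Ψ C.facts 1)

theorem nu_LX (i : Fin 2) : nu (C.LX i) = 0 := T.nu_lift (C.F.fX_oddSupp C.Ψ C.facts i)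

theorem sum_dual_A [Fintype (C.F.A →* ℂˣ)] (b : C.F.A) :
    ∑ φ : C.F.A →* ℂˣ, (φ b : ℂ) = if b = 1 then (m : ℂ) else 0 := by
  have h := congrFun (sum_all_lc C.F.A C.F.torus_A.comm) b
  rw [Finset.sum_apply, Pi.smul_apply, smul_eq_mul, C.F.card_A] at h
  simp only [lc_apply] at h
  rw [h]
  rcases eq_or_ne b 1 with rfl | hb
  · rw [oneAt_one, mul_one, if_pos rfl]
  · rw [oneAt_ne hb, mul_zero, if_neg hb]

theorem lc_conj (φ : C.F.A →* ℂˣ) (b : C.F.A) : conj (φ b : ℂ) = (φ b⁻¹ : ℂ) := by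
  have h := irr_inv (⟨_, isIrrCharacter_lc φ⟩ : IrrCharacter C.F.A) b
  exact h.symm

/-- The value on `t ⟨a⟩ - {t}`. -/
theorem t_const {χ : G → ℂ} (hχ : Gen χ) (hz : ∀ θ : C.F.A →* ℂˣ, θ ≠ 1 → iq (C.LP θ) χ = 0)
    {b : C.F.A} (hb : b ≠ 1) : χ (T.t * ((b : T.K) : G)) = (C.kap χ : ℂ) := by
  haveI : Finite (C.F.A →* ℂˣ) := CfsgLib.Char.finite_dual
  let _ := Fintype.ofFinite (C.F.A →* ℂˣ)
  let _ := Fintype.ofFinite C.F.A
  have hcl := isClassFunction_of_isGeneralized hχ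
  set c₀ := classInner (T.lift (C.F.Xi C.Ψ)) χ with hc₀
  have hg : ∀ φ : C.F.A →* ℂˣ, (m : ℂ)⁻¹ * ∑ y : C.F.A, (φ y : ℂ) * conj (χ (T.t * ((y : T.K) : G))) =
      2 * c₀ - (iq (C.LP φ) χ : ℂ) := by
    intro φ
    have h1 : classInner (T.lift (indFun C.F.A (lc φ))) χ = 2 * c₀ - (iq (C.LP φ) χ : ℂ) := by
      rw [← iq_spec (C.gen_LP φ) hχ, LP, Frame.P, T.lift_sub, T.lift_smul, classInner_sub_left,
        classInner_smul_left, hc₀]
      ring
    rw [T.inner_lift_eq _ hcl, classInner_indFun _ _ _ (T.tx_classFun hcl)] at h1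
    simp only [classInner, C.F.card_A, lc_apply] at h1
    exact h1
  have hsum : ∑ φ : C.F.A →* ℂˣ, (φ b⁻¹ : ℂ) * ((m : ℂ)⁻¹ *
      ∑ y : C.F.A, (φ y : ℂ) * conj (χ (T.t * ((y : T.K) : G)))) =
      conj (χ (T.t * ((b : T.K) : G))) := by
    simp only [Finset.mul_sum]
    rw [Finset.sum_comm, Finset.sum_congr rfl (g := fun y => (m : ℂ)⁻¹ *
      ((if b⁻¹ * y = 1 then (m : ℂ) else 0) * conj (χ (T.t * ((y : T.K) : G))))) fun y _ => by
        rw [← C.sum_dual_A (b⁻¹ * y), Finset.sum_mul, Finset.mul_sum]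
        exact Finset.sum_congr rfl fun φ _ => by rw [map_mul, Units.val_mul]; ring,
      Finset.sum_eq_single b (fun y _ hy => by
        rw [if_neg (fun e => hy (inv_mul_eq_one.1 e).symm)]; ring)
        (fun h => absurd (Finset.mem_univ _) h), if_pos (inv_mul_cancel b), ← mul_assoc,
      inv_mul_cancel₀ (by exact_mod_cast C.facts.m_pos.ne'), one_mul]
  simp only [hg, mul_sub, Finset.sum_sub_distrib, ← Finset.sum_mul] at hsum
  rw [C.sum_dual_A, if_neg (fun e => hb (inv_eq_one.1 e)), zero_mul, zero_sub,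
    Finset.sum_eq_single (1 : C.F.A →* ℂˣ) (fun θ _ hθ => by rw [hz θ hθ]; simp)
      (fun h => absurd (Finset.mem_univ _) h), C.iq_LP_one hχ] at hsum
  have h2 := congrArg conj hsum
  simp only [MonoidHom.one_apply, Units.val_one, one_mul, Int.cast_neg, neg_neg, map_intCast,
    Complex.conj_conj] at h2
  exact h2.symm

/-- The restriction to the torus. -/
theorem sum_A [Fintype C.F.A] {χ : G → ℂ} (hχ : Gen χ)
    (hz : ∀ θ : C.F.A →* ℂˣ, θ ≠ 1 → iq (C.LP θ) χ = 0) {r : ℤ}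
    (hr : ∀ φ : C.F.A →* ℂˣ, φ ≠ 1 → iq (C.Fd φ) χ = r) :
    ∑ b : C.F.A, χ ((b : T.K) : G) = χ 1 + ((m : ℂ) - 1) * ((C.kap χ : ℂ) - 4 * r) := by
  haveI : Finite (C.F.A →* ℂˣ) := CfsgLib.Char.finite_dual
  let _ := Fintype.ofFinite (C.F.A →* ℂˣ)
  have hcl := isClassFunction_of_isGeneralized hχ
  set W : C.F.A → ℂ := fun b => conj (χ ((b : T.K) : G)) + conj (χ (T.t * ((b : T.K) : G))) -
    conj (χ (T.t * ((C.cA (C.cA b) : T.K) : G))) - conj (χ (T.t * ((C.cA b : T.K) : G))) with hW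
  have hW1 : ∀ b : C.F.A, b ≠ 1 → W b = conj (χ ((b : T.K) : G)) - (C.kap χ : ℂ) := by
    intro b hb
    have hc1 : C.cA b ≠ 1 := fun e => hb (by rw [← C.cA_cube b, e, map_one, map_one])
    have hc2 : C.cA (C.cA b) ≠ 1 := fun e => hb (by rw [← C.cA_cube b, e, map_one])
    simp only [hW, C.t_const hχ hz hb, C.t_const hχ hz hc1, C.t_const hχ hz hc2, map_intCast]
    ring
  have htot : ∑ φ : C.F.A →* ℂˣ, classInner (C.Fd φ) χ = ((m : ℂ) - 1) * r := by
    rw [← Finset.add_sum_erase _ _ (Finset.mem_univ (1 : C.F.A →* ℂˣ)),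
      show C.Fd 1 = (0 : G → ℂ) from sub_self _,
      Finset.sum_congr rfl (g := fun _ => (r : ℂ)) fun φ hφ => by
        rw [iq_spec (C.gen_Fd φ) hχ, hr φ (Finset.mem_erase.1 hφ).1]]
    rw [Finset.sum_const, Finset.card_erase_of_mem (Finset.mem_univ _), Finset.card_univ]
    let _ : CommGroup C.F.A :=
      { (inferInstance : Group C.F.A) with
        mul_comm := fun a b => Subtype.ext (C.F.torus_A.comm a a.2 b b.2) }
    rw [← Nat.card_eq_fintype_card, CommGroup.card_monoidHom_of_hasEnoughRootsOfUnity C.F.A ℂ,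
      C.F.card_A, nsmul_eq_mul, Nat.cast_sub (C.facts.m_pos), Nat.cast_one]
    simp [classInner]
  let _ : CommGroup C.F.A :=
    { (inferInstance : Group C.F.A) with
      mul_comm := fun a b => Subtype.ext (C.F.torus_A.comm a a.2 b b.2) }
  have hcol : ∀ b : C.F.A, ∑ φ : C.F.A →* ℂˣ, ((φ b : ℂ) - 1) *
      (conj (χ ((b : T.K) : G)) + conj (χ (T.t * ((b : T.K) : G))) -
        conj (χ (T.t * ((C.cA (C.cA b) : T.K) : G))) - conj (χ (T.t * ((C.cA b : T.K) : G)))) =
      if b = 1 then 0 else -(m : ℂ) * (conj (χ ((b : T.K) : G)) - (C.kap χ : ℂ)) := fun b => by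
    rw [← Finset.sum_mul, Finset.sum_sub_distrib, C.sum_dual_A, Finset.sum_const, Finset.card_univ,
      nsmul_eq_mul, mul_one, ← Nat.card_eq_fintype_card,
      CommGroup.card_monoidHom_of_hasEnoughRootsOfUnity C.F.A ℂ, C.F.card_A]
    rcases eq_or_ne b 1 with rfl | hb
    · rw [if_pos rfl, if_pos rfl, sub_self, zero_mul]
    · rw [if_neg hb, if_neg hb, zero_sub, ← hW1 b hb]
  simp only [C.inner_Fd _ hcl, ← Finset.mul_sum] at htot
  rw [Finset.sum_comm, Finset.sum_congr rfl fun b _ => hcol b,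
    Finset.sum_ite, Finset.sum_const_zero, zero_add, Finset.filter_ne', ← Finset.mul_sum,
    Finset.sum_sub_distrib, Finset.sum_const, Finset.card_erase_of_mem (Finset.mem_univ _),
    Finset.card_univ, ← Nat.card_eq_fintype_card, C.F.card_A, nsmul_eq_mul,
    Nat.cast_sub (C.facts.m_pos), Nat.cast_one] at htot
  have hm : (m : ℂ) ≠ 0 := by exact_mod_cast C.facts.m_pos.ne'
  have h2 : ∑ b ∈ (Finset.univ : Finset C.F.A).erase 1, conj (χ ((b : T.K) : G)) =
      ((m : ℂ) - 1) * ((C.kap χ : ℂ) - 4 * r) := by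
    field_simp at htot
    linear_combination -htot
  have h3 := congrArg conj h2
  simp only [map_sum, Complex.conj_conj, map_mul, map_sub, map_natCast, map_one, map_intCast,
    map_ofNat] at h3
  rw [← Finset.add_sum_erase _ _ (Finset.mem_univ (1 : C.F.A)), h3]
  rfl

theorem sum_DX {χ : G → ℂ} (hχ : Gen χ) : ∃ z : ℤ,
    ∑ g : C.D, (χ (g : G) + χ (C.X.x * (g : G))) = 8 * (m : ℂ) * z := by
  let H : Subgroup G :=
    { carrier := {g | g ∈ C.D ∨ C.X.x * g ∈ C.D}
      one_mem' := Or.inl (one_mem _)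
      mul_mem' := fun {a b} ha hb => by
        rcases ha with ha | ha <;> rcases hb with hb | hb
        · exact Or.inl (mul_mem ha hb)
        · refine Or.inr ?_
          have h := C.x_conj ⟨a, ha⟩
          rw [show C.X.x * (a * b) = C.X.x * a * C.X.x⁻¹ * (C.X.x * b) by group, h]
          exact mul_mem (inv_mem ha) hb
        · exact Or.inr (by rw [← mul_assoc]; exact mul_mem ha hb)
        · refine Or.inl ?_
          have h := C.x_conj ⟨_, ha⟩
          rw [show a * b = C.X.x * (C.X.x * a) * C.X.x⁻¹ * (C.X.x * b) by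
            rw [show C.X.x * (C.X.x * a) * C.X.x⁻¹ * (C.X.x * b) = (C.X.x * C.X.x) * a * b by group,
              C.x_sq, one_mul], h]
          exact mul_mem (inv_mem ha) hb
      inv_mem' := fun {a} ha => by
        rcases ha with ha | ha
        · exact Or.inl (inv_mem ha)
        · refine Or.inr ?_
          have e := eq_inv_of_mul_eq_one_right (C.x_mul_sq ⟨_, ha⟩)
          have e' : C.X.x * (C.X.x * a) = a := by rw [← mul_assoc, C.x_sq, one_mul]
          rw [show ((⟨C.X.x * a, ha⟩ : C.D) : G) = C.X.x * a from rfl, e'] at e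
          rw [← e]
          exact ha }
  let Φ : C.D × Bool → H := fun w => bif w.2 then
      ⟨C.X.x * (w.1 : G), Or.inr (by rw [← mul_assoc, C.x_sq, one_mul]; exact w.1.2)⟩
    else ⟨(w.1 : G), Or.inl w.1.2⟩
  have hΦ : Function.Bijective Φ := by
    constructor
    · rintro ⟨g, s⟩ ⟨g', s'⟩ e
      have e' := congrArg Subtype.val e
      cases s <;> cases s' <;> simp only [Φ, cond_true, cond_false] at e'
      · exact Prod.ext (Subtype.ext e') rfl
      · exact absurd (by rw [eq_mul_inv_of_mul_eq e'.symm]; exact mul_mem g.2 (inv_mem g'.2)) C.x_not_mem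
      · exact absurd (by rw [eq_mul_inv_of_mul_eq e']; exact mul_mem g'.2 (inv_mem g.2)) C.x_not_mem
      · exact Prod.ext (Subtype.ext (mul_left_cancel e')) rfl
    · rintro ⟨a, ha | ha⟩
      · exact ⟨(⟨a, ha⟩, false), rfl⟩
      · exact ⟨(⟨_, ha⟩, true), Subtype.ext (by
          show C.X.x * (C.X.x * a) = a
          rw [← mul_assoc, C.x_sq, one_mul])⟩
  have hcard : Nat.card H = 8 * m := by
    rw [← Nat.card_congr (Equiv.ofBijective Φ hΦ), Nat.card_prod, C.card_D,
      Nat.card_eq_fintype_card (α := Bool), Fintype.card_bool]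
    ring
  have hres : IsGeneralizedCharacter H (fun y : H => χ (y : G)) :=
    isGeneralizedCharacter_comp hχ H.subtype
  obtain ⟨z, hz⟩ := classInner_generalized_int hres (isGeneralizedCharacter_lc (1 : H →* ℂˣ))
  simp only [classInner, hcard, lc_apply, MonoidHom.one_apply, Units.val_one, map_one, mul_one,
    Nat.cast_mul, Nat.cast_ofNat] at hz
  refine ⟨z, ?_⟩
  have hm : (8 * (m : ℂ)) ≠ 0 := mul_ne_zero (by norm_num) (by exact_mod_cast C.facts.m_pos.ne')
  rw [← hz, ← mul_assoc, mul_inv_cancel₀ hm, one_mul,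
    ← Fintype.sum_bijective Φ hΦ _ _ fun _ => rfl, Fintype.sum_prod_type]
  refine Finset.sum_congr rfl fun g _ => ?_
  rw [Fintype.sum_bool, add_comm]
  rfl

/-- The congruence from the restriction to `D⟨x⟩`. -/
theorem congr_DX {χ : G → ℂ} (hχ : Gen χ)
    (hz : ∀ θ : C.F.A →* ℂˣ, θ ≠ 1 → iq (C.LP θ) χ = 0) {r : ℤ}
    (hr : ∀ φ : C.F.A →* ℂˣ, φ ≠ 1 → iq (C.Fd φ) χ = r) {d v : ℤ} (hd : χ 1 = d) (hv : χ T.t = v) :
    8 * (m : ℤ) ∣ d + 3 * v + 4 * ((m : ℤ) - 1) * (C.kap χ - r) + 4 * m * v := by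
  let _ := Fintype.ofFinite C.F.A
  have hcl := isClassFunction_of_isGeneralized hχ
  obtain ⟨z, hzz⟩ := C.sum_DX hχ
  have hx : ∀ g : C.D, χ (C.X.x * (g : G)) = v := fun g => by
    obtain ⟨c, hc⟩ := isConj_iff.1 (T.conj (C.X.x * (g : G))
      (orderOf_eq_prime (by rw [pow_two]; exact C.x_mul_sq g) fun e => C.x_not_mem
        (eq_inv_of_mul_eq_one_left e ▸ inv_mem g.2)))
    rw [← hc, hcl, hv]
  simp only [hx, Finset.sum_add_distrib, Finset.sum_const, Finset.card_univ,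
    ← Nat.card_eq_fintype_card, C.card_D, nsmul_eq_mul] at hzz
  have hsum : ∑ b : C.F.A, χ (T.t * ((b : T.K) : G)) = v + ((m : ℂ) - 1) * (C.kap χ : ℂ) := by
    rw [← Finset.add_sum_erase _ _ (Finset.mem_univ (1 : C.F.A)),
      Finset.sum_congr rfl (g := fun _ => (C.kap χ : ℂ)) fun b hb =>
        C.t_const hχ hz (Finset.mem_erase.1 hb).1,
      Finset.sum_const, Finset.card_erase_of_mem (Finset.mem_univ _), Finset.card_univ,
      ← Nat.card_eq_fintype_card, C.F.card_A, nsmul_eq_mul, Nat.cast_sub C.facts.m_pos, Nat.cast_one]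
    simp [hv]
  have hb : Function.Bijective C.cA := by
    rw [← Finite.injective_iff_bijective]
    exact fun a b e => by rw [← C.cA_cube a, e, C.cA_cube]
  rw [C.sum_D] at hzz
  have hfour : ∀ b : C.F.A, χ ((C.dmk 1 C.isV_one b : C.D) : G) + χ ((C.dmk T.t C.isV_t b : C.D) : G) +
      χ ((C.dmk C.X.u C.isV_u b : C.D) : G) + χ ((C.dmk (T.t * C.X.u) C.isV_tu b : C.D) : G) =
      χ ((b : T.K) : G) + χ (T.t * ((b : T.K) : G)) + χ (T.t * ((C.cA (C.cA b) : T.K) : G)) +
        χ (T.t * ((C.cA b : T.K) : G)) := fun b => by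
    obtain ⟨k1, k2⟩ := C.conj_t_tau hcl b
    rw [← k1, ← k2]
    show χ (1 * _) + _ + _ + _ = _
    rw [one_mul]
    rfl
  have h2 : ∑ b : C.F.A, χ (T.t * ((C.cA (C.cA b) : T.K) : G)) =
      ∑ b : C.F.A, χ (T.t * ((b : T.K) : G)) :=
    Fintype.sum_bijective _ (hb.comp hb) _ _ fun _ => rfl
  have h1 : ∑ b : C.F.A, χ (T.t * ((C.cA b : T.K) : G)) = ∑ b : C.F.A, χ (T.t * ((b : T.K) : G)) :=
    Fintype.sum_bijective _ hb _ _ fun _ => rfl
  simp only [hfour, Finset.sum_add_distrib, h1, h2, C.sum_A hχ hz hr, hd, hsum] at hzz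
  refine ⟨z, ?_⟩
  have : ((d + 3 * v + 4 * ((m : ℤ) - 1) * (C.kap χ - r) + 4 * m * v : ℤ) : ℂ) =
      ((8 * (m : ℤ) * z : ℤ) : ℂ) := by
    push_cast at hzz ⊢
    linear_combination hzz
  exact_mod_cast this

include C in
/-- The congruence from the restriction to a Sylow `2`-subgroup. -/
theorem congr_eight {χ : G → ℂ} (hχ : Gen χ) {d v : ℤ} (hd : χ 1 = d) (hv : χ T.t = v) :
    (8 : ℤ) ∣ d + 7 * v := by
  haveI : Fact (Nat.Prime 2) := ⟨Nat.prime_two⟩
  obtain ⟨P⟩ : Nonempty (Sylow 2 G) := inferInstance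
  have hGcard : Nat.card G = T.C.index * (2 * (q * n * (4 * m))) := by
    rw [← T.C.card_mul_index, mul_comm, T.card_C_K, C.facts.card]
  have hodd : ∀ k : ℕ, Odd k → k ≠ 0 ∧ ¬ 2 ∣ k := fun k hk =>
    ⟨fun e => by rw [e] at hk; exact absurd hk (by decide),
      fun h2 => Nat.not_even_iff_odd.2 hk (even_iff_two_dvd.2 h2)⟩
  have hq : Odd q := ⟨2 * m, by rw [C.facts.hm]; ring⟩
  have hrest : Odd (T.C.index * (q * n * m)) :=
    T.odd_index.mul ((hq.mul C.facts.data.mo_odd).mul C.facts.m_odd)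
  have hP : Nat.card (P : Subgroup G) = 8 := by
    obtain ⟨h0, h2⟩ := hodd _ hrest
    rw [P.card_eq_multiplicity, hGcard,
      show T.C.index * (2 * (q * n * (4 * m))) = 2 ^ 3 * (T.C.index * (q * n * m)) by ring,
      Nat.factorization_mul (by norm_num) h0, Finsupp.add_apply,
      Nat.factorization_eq_zero_of_not_dvd h2, Nat.Prime.factorization_pow Nat.prime_two,
      Finsupp.single_eq_same, add_zero]
    norm_num
  let _ := Fintype.ofFinite (P : Subgroup G)
  have hval : ∀ g : (P : Subgroup G), g ≠ 1 → χ (g : G) = v := by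
    intro g hg
    have hg1 : (g : G) ≠ 1 := fun e => hg (Subtype.ext e)
    obtain ⟨j, hj⟩ := P.2 g
    obtain ⟨i, -, hi⟩ := (Nat.dvd_prime_pow Nat.prime_two).1
      (orderOf_dvd_of_pow_eq_one (congrArg Subtype.val hj : (g : G) ^ 2 ^ j = 1))
    have ho : orderOf (g : G) = 2 := by
      rcases i with _ | _ | i
      · exact absurd (orderOf_eq_one_iff.1 (by rw [hi]; rfl)) hg1
      · rw [hi]; rfl
      · exact absurd (by rw [hi]; exact dvd_trans (by norm_num) (pow_dvd_pow 2 (show 2 ≤ i + 1 + 1 by omega)))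
          (T.two_sq (g : G))
    obtain ⟨c, hc⟩ := isConj_iff.1 (T.conj _ ho)
    rw [← hc, isClassFunction_of_isGeneralized hχ, hv]
  have hres : IsGeneralizedCharacter (P : Subgroup G) (fun y : (P : Subgroup G) => χ (y : G)) :=
    isGeneralizedCharacter_comp hχ (P : Subgroup G).subtype
  obtain ⟨z, hz⟩ := classInner_generalized_int hres
    (isGeneralizedCharacter_lc (1 : (P : Subgroup G) →* ℂˣ))
  simp only [classInner, hP, lc_apply, MonoidHom.one_apply, Units.val_one, map_one, mul_one] at hz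
  rw [← Finset.add_sum_erase _ _ (Finset.mem_univ (1 : (P : Subgroup G))),
    Finset.sum_congr rfl (g := fun _ => (v : ℂ)) fun g hg => hval g (Finset.mem_erase.1 hg).1,
    Finset.sum_const, Finset.card_erase_of_mem (Finset.mem_univ _), Finset.card_univ,
    ← Nat.card_eq_fintype_card, hP, OneMemClass.coe_one, hd, nsmul_eq_mul] at hz
  refine ⟨z, ?_⟩
  have : ((d + 7 * v : ℤ) : ℂ) = ((8 * z : ℤ) : ℂ) := by
    norm_num at hz ⊢
    linear_combination 8 * hz
  exact_mod_cast this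

include C in
/-- `τ` permutes the nontrivial elements of the torus in threes. -/
theorem m_mod_three : m % 3 = 1 := by
  haveI : Fact (Nat.Prime 3) := ⟨Nat.prime_three⟩
  let σ : Equiv.Perm C.F.A :=
    { toFun := C.cA
      invFun := fun b => C.cA (C.cA b)
      left_inv := fun b => C.cA_cube b
      right_inv := fun b => C.cA_cube b }
  have hσ : σ ^ 3 = 1 := Equiv.ext fun b => by
    rw [pow_three]
    exact C.cA_cube b
  have h := SmallGraph.card_fixed_modEq (r := 3) σ hσ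
  have hfix : Nat.card {a : C.F.A // σ a = a} = 1 := Nat.card_eq_one_iff_unique.2
    ⟨⟨fun a b => Subtype.ext ((C.cA_fixed a.2).trans (C.cA_fixed b.2).symm)⟩, ⟨⟨1, map_one C.cA⟩⟩⟩
  rw [hfix, C.F.card_A] at h
  exact h

include C in
theorem seven_le : 7 ≤ m := by
  have h3 := C.m_mod_three
  obtain ⟨j, hj⟩ := C.facts.m_odd
  have := C.X.one_lt_m
  omega

end Ctx

end CfsgLib.ReeType.Five
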