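import Cfsg.Agent.Lib.Ree.Five.CuspBasic
import Cfsg.Agent.Lib.Ree.Cusp

/-!
# The exceptional characters of `⟨t, u⟩ × ⟨a⟩`
-/

set_option autoImplicit false
set_option linter.unusedSectionVars false

namespace CfsgLib.ReeType.Five

open scoped ComplexConjugate
open Subgroup Cfsg CfsgLib.Char CfsgLib.Char.Signed
open CfsgLib.ReeType.Setup (OddSupp)

universe u

attribute [local instance] _root_.Classical.propDecidable

variable {G : Type u} [Group G] [Fintype G] {q m n : ℕ}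

namespace Setup

variable (T : Setup G q m n)

/-- The inner product of a lift with a class function. -/
theorem inner_lift_eq [Fintype T.K] (f : T.K → ℂ) {χ : G → ℂ} (hχ : IsClassFunction G χ) :
    classInner (T.lift f) χ = classInner f (fun x : T.K => χ (T.t * x)) := by
  classical
  rw [lift, classInner_indFun _ _ _ hχ]
  simp only [classInner]
  rw [T.sum_C _ fun c hc => by rw [T.gf_K f hc, zero_mul], T.card_C_K,
    Finset.sum_congr rfl (g := fun x => 2 * (f x * conj (χ (T.t * x)))) fun x _ => by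
      rw [T.gf_tK f (x := x) (T.tx_val x), T.tx_val]; ring,
    ← Finset.mul_sum]
  push_cast
  rw [mul_inv]
  ring

theorem tx_classFun {χ : G → ℂ} (hχ : IsClassFunction G χ) :
    IsClassFunction T.K (fun x : T.K => χ (T.t * x)) := by
  intro x g
  show χ (T.t * ((g * x * g⁻¹ : T.K) : G)) = χ (T.t * x)
  rw [← hχ (T.t * x) (g : G)]
  congr 1
  push_cast
  rw [← mul_assoc, ← mul_assoc, ← mul_assoc, (T.comm_t _ g.2).eq]

end Setup

namespace Ctx

variable {T : Setup G q m n} (C : Ctx T)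

theorem indFun_cD (f : C.D → ℂ) : indFun C.D (fun g => f (C.cD g)) = indFun C.D f := by
  funext g
  simp only [indFun]
  congr 1
  refine Fintype.sum_bijective (fun x => x * C.X.τ⁻¹) (Group.mulRight_bijective _) _ _ fun x => ?_
  have e : (x * C.X.τ⁻¹)⁻¹ * g * (x * C.X.τ⁻¹) = C.X.τ * (x⁻¹ * g * x) * C.X.τ⁻¹ := by group
  show extendByZero C.D (fun h => f (C.cD h)) (x⁻¹ * g * x) =
    extendByZero C.D f ((x * C.X.τ⁻¹)⁻¹ * g * (x * C.X.τ⁻¹))
  rw [e]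
  by_cases hm : x⁻¹ * g * x ∈ C.D
  · rw [extendByZero_mem _ _ hm, extendByZero_mem _ _ (C.tau_conj_D hm)]
    rfl
  · rw [extendByZero_not_mem _ _ hm, extendByZero_not_mem]
    intro hm'
    apply hm
    have h2 := C.tau_conj_D (C.tau_conj_D hm')
    rwa [show C.X.τ * (C.X.τ * (C.X.τ * (x⁻¹ * g * x) * C.X.τ⁻¹) * C.X.τ⁻¹) * C.X.τ⁻¹ =
      (C.X.τ * C.X.τ * C.X.τ) * (x⁻¹ * g * x) * (C.X.τ * C.X.τ * C.X.τ)⁻¹ by group, C.tau_cube,
      one_mul, inv_one, mul_one] at h2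

/-- The character `φ` extended to `D`. -/
noncomputable def hat (φ : C.F.A →* ℂˣ) : C.D →* ℂˣ := φ.comp C.projA

/-- The generalized character attached to a character of the torus. -/
noncomputable def aInd (φ : C.F.A →* ℂˣ) : G → ℂ := indFun C.D (lc (C.sigma * C.hat φ))

theorem gen_aInd (φ : C.F.A →* ℂˣ) : Gen (C.aInd φ) :=
  isGeneralizedCharacter_indFun _ (isGeneralizedCharacter_lc _)

theorem hat_cD (φ : C.F.A →* ℂˣ) : (C.hat φ).comp C.cD = C.hat (φ.comp C.cA) := by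
  refine MonoidHom.ext fun g => ?_
  show φ (C.projA (C.cD g)) = φ (C.cA (C.projA g))
  rw [C.projA_cD]

theorem cA_comp_cube (ψ : C.F.A →* ℂˣ) : ((ψ.comp C.cA).comp C.cA).comp C.cA = ψ :=
  MonoidHom.ext fun y => congrArg ψ (C.cA_cube y)

theorem ind_hat (φ : C.F.A →* ℂˣ) :
    indFun C.D (lc (C.hat (φ.comp C.cA))) = indFun C.D (lc (C.hat φ)) := by
  rw [← C.indFun_cD (lc (C.hat φ)), ← C.hat_cD]
  rfl

theorem ind_sigma_one (φ : C.F.A →* ℂˣ) :
    indFun C.D (lc (C.sigma.comp C.cD * C.hat (φ.comp C.cA))) = C.aInd φ := by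
  rw [aInd, ← C.indFun_cD (lc (C.sigma * C.hat φ)), ← C.hat_cD]
  rfl

theorem ind_sigma_two (φ : C.F.A →* ℂˣ) :
    indFun C.D (lc ((C.sigma.comp C.cD).comp C.cD * C.hat ((φ.comp C.cA).comp C.cA))) = C.aInd φ := by
  rw [← C.ind_sigma_one φ, ← C.indFun_cD (lc (C.sigma.comp C.cD * C.hat (φ.comp C.cA))),
    ← C.hat_cD]
  rfl

theorem lc_hat (e : G) (he : C.IsV e) (b : C.F.A) (φ : C.F.A →* ℂˣ) :
    lc (C.hat φ) (C.dmk e he b) = (φ b : ℂ) := by
  rw [lc_apply, hat, MonoidHom.comp_apply, (C.dmk_pow e he b).2]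

theorem sigma_vals (b : C.F.A) :
    (C.sigma (C.dmk 1 C.isV_one b) : ℂ) = 1 ∧ (C.sigma (C.dmk T.t C.isV_t b) : ℂ) = 1 ∧
    (C.sigma (C.dmk C.X.u C.isV_u b) : ℂ) = -1 ∧
    (C.sigma (C.dmk (T.t * C.X.u) C.isV_tu b) : ℂ) = -1 := by
  have f2 : C.X.u ≠ 1 := Invol.invol_ne_one C.X.order_u
  have f5 : T.t * C.X.u ≠ T.t := fun e => f2 (mul_eq_left.1 e)
  simp only [C.sigma_apply, (C.dmk_pow _ _ b).1]
  simp [f2, f5, C.t_ne_u.symm, C.tu_ne_one]

theorem cD_dmk (e : G) (he : C.IsV e) (b : C.F.A) :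
    C.cD (C.dmk e he b) = C.dmk _ (C.isV_tau he) (C.cA b) := Subtype.ext (by
  show C.X.τ * (e * ((b : T.K) : G)) * C.X.τ⁻¹ =
    C.X.τ * e * C.X.τ⁻¹ * (C.X.τ * ((b : T.K) : G) * C.X.τ⁻¹)
  group)

theorem sigma_one_vals (b : C.F.A) :
    (C.sigma (C.cD (C.dmk 1 C.isV_one b)) : ℂ) = 1 ∧
    (C.sigma (C.cD (C.dmk T.t C.isV_t b)) : ℂ) = -1 ∧
    (C.sigma (C.cD (C.dmk C.X.u C.isV_u b)) : ℂ) = -1 ∧
    (C.sigma (C.cD (C.dmk (T.t * C.X.u) C.isV_tu b)) : ℂ) = 1 := by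
  have f2 : C.X.u ≠ 1 := Invol.invol_ne_one C.X.order_u
  have f5 : T.t * C.X.u ≠ T.t := fun e => f2 (mul_eq_left.1 e)
  simp only [C.sigma_apply, C.cD_dmk, (C.dmk_pow _ _ (C.cA b)).1, mul_one, mul_inv_cancel,
    C.X.τ_t, C.X.τ_u, C.tau_tu]
  simp [f2, f5, C.t_ne_u.symm, C.tu_ne_one]

theorem sigma_two_vals (b : C.F.A) :
    (C.sigma (C.cD (C.cD (C.dmk 1 C.isV_one b))) : ℂ) = 1 ∧
    (C.sigma (C.cD (C.cD (C.dmk T.t C.isV_t b))) : ℂ) = -1 ∧
    (C.sigma (C.cD (C.cD (C.dmk C.X.u C.isV_u b))) : ℂ) = 1 ∧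
    (C.sigma (C.cD (C.cD (C.dmk (T.t * C.X.u) C.isV_tu b))) : ℂ) = -1 := by
  have f2 : C.X.u ≠ 1 := Invol.invol_ne_one C.X.order_u
  have f5 : T.t * C.X.u ≠ T.t := fun e => f2 (mul_eq_left.1 e)
  simp only [C.sigma_apply, C.cD_dmk, (C.dmk_pow _ _ (C.cA (C.cA b))).1, mul_one, mul_inv_cancel,
    C.X.τ_t, C.X.τ_u, C.tau_tu]
  simp [f2, f5, C.t_ne_u.symm, C.tu_ne_one]

/-- The lifts of `Ind_A` in terms of `aInd`. -/
theorem lift_iA (φ : C.F.A →* ℂˣ) :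
    T.lift (indFun C.F.A (lc φ)) = indFun C.D (lc (C.hat φ)) + C.aInd φ -
      C.aInd (φ.comp C.cA) - C.aInd ((φ.comp C.cA).comp C.cA) := by
  have h1 : indFun C.D (lc ((C.sigma.comp C.cD) * C.hat φ)) = C.aInd ((φ.comp C.cA).comp C.cA) := by
    rw [← C.ind_sigma_one ((φ.comp C.cA).comp C.cA), C.cA_comp_cube]
  have h2 : indFun C.D (lc (((C.sigma.comp C.cD).comp C.cD) * C.hat φ)) = C.aInd (φ.comp C.cA) := by
    rw [← C.ind_sigma_two (φ.comp C.cA), C.cA_comp_cube]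
  set hf : C.D → ℂ := lc (C.hat φ) + lc (C.sigma * C.hat φ) -
    lc ((C.sigma.comp C.cD).comp C.cD * C.hat φ) - lc (C.sigma.comp C.cD * C.hat φ) with hhf
  have hR : indFun C.D hf = indFun C.D (lc (C.hat φ)) + C.aInd φ -
      C.aInd (φ.comp C.cA) - C.aInd ((φ.comp C.cA).comp C.cA) := by
    rw [hhf, indFun_sub, indFun_sub, indFun_add, h1, h2]
    rfl
  rw [← hR]
  have key : ∀ χ : G → ℂ, IsClassFunction G χ →
      classInner (T.lift (indFun C.F.A (lc φ))) χ = classInner (indFun C.D hf) χ := by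
    intro χ hχ
    rw [T.inner_lift_eq _ hχ, classInner_indFun _ _ _ (T.tx_classFun hχ),
      classInner_indFun _ _ _ hχ]
    simp only [classInner]
    rw [C.sum_D, C.card_D, C.F.card_A]
    have hm : (m : ℂ) ≠ 0 := by exact_mod_cast C.facts.m_pos.ne'
    push_cast
    rw [mul_inv, Finset.mul_sum, Finset.mul_sum]
    refine Finset.sum_congr rfl fun b _ => ?_
    have hv0 := C.sigma_vals b
    have hv1 := C.sigma_one_vals b
    have hv2 := C.sigma_two_vals b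
    simp only [hhf, Pi.add_apply, Pi.sub_apply, lc_apply, MonoidHom.mul_apply, Units.val_mul,
      MonoidHom.comp_apply, hat, (C.dmk_pow _ _ b).2, hv0, hv1, hv2]
    show _ = _ * (_ * conj (χ (1 * ((b : T.K) : G))) + _ * conj (χ (T.t * ((b : T.K) : G))) +
      _ * conj (χ (C.X.u * ((b : T.K) : G))) + _ * conj (χ (T.t * C.X.u * ((b : T.K) : G))))
    field_simp
    ring
  refine sub_eq_zero.1 (classInner_self_eq_zero ?_)
  have hc : IsClassFunction G (T.lift (indFun C.F.A (lc φ)) - indFun C.D hf) := fun x g => by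
    simp only [Pi.sub_apply]
    rw [T.isClassFunction_lift _ x g, isClassFunction_indFun _ _ x g]
  rw [classInner_sub_left, key _ hc, sub_self]

theorem comp_ne {ψ : C.F.A →* ℂˣ} (hψ : ψ ≠ 1) : ψ.comp C.cA ≠ ψ := fun e => by
  apply hψ
  let g : C.F.A → C.F.A := fun y => y⁻¹ * C.cA y
  have hcomm : ∀ a b : C.F.A, a * b = b * a := fun a b =>
    Subtype.ext (C.F.torus_A.comm a a.2 b b.2)
  have hg : Function.Injective g := fun a b h => by
    have h1 : C.cA (a * b⁻¹) = a * b⁻¹ := by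
      have h2 : C.cA a = a * (b⁻¹ * C.cA b) := by
        rw [show b⁻¹ * C.cA b = a⁻¹ * C.cA a from h.symm, mul_inv_cancel_left]
      rw [map_mul, map_inv, h2, mul_assoc, mul_assoc, mul_inv_cancel, mul_one]
    exact mul_inv_eq_one.1 (C.cA_fixed h1)
  refine MonoidHom.ext fun y => ?_
  obtain ⟨x, hx⟩ := Finite.surjective_of_injective hg y
  rw [← hx]
  show ψ (x⁻¹ * C.cA x) = 1
  rw [map_mul, map_inv, show ψ (C.cA x) = ψ x from DFunLike.congr_fun e x, inv_mul_cancel]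

theorem ne_inv {ψ : C.F.A →* ℂˣ} (hψ : ψ ≠ 1) : ψ ≠ ψ⁻¹ :=
  hom_ne_inv (by rw [C.F.card_A]; exact C.facts.m_odd) hψ

theorem comp_ne_one {ψ : C.F.A →* ℂˣ} (hψ : ψ ≠ 1) : ψ.comp C.cA ≠ 1 := fun e => hψ (by
  rw [← C.cA_comp_cube ψ, e]; rfl)

theorem comp_ne_inv {ψ : C.F.A →* ℂˣ} (hψ : ψ ≠ 1) : ψ.comp C.cA ≠ ψ⁻¹ := fun e => by
  have h2 : (ψ.comp C.cA).comp C.cA = ψ := by
    rw [e]
    show (ψ.comp C.cA)⁻¹ = ψ
    rw [e, hom_inv_inv]
  exact C.comp_ne hψ (by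
    have h3 := C.cA_comp_cube ψ
    rwa [h2] at h3)

/-- The orbit of a character under `τ`. -/
noncomputable def th (φ : C.F.A →* ℂˣ) : Fin 3 → (C.F.A →* ℂˣ) :=
  ![φ, φ.comp C.cA, (φ.comp C.cA).comp C.cA]

theorem th_spec {φ : C.F.A →* ℂˣ} (hφ : φ ≠ 1) : (∀ i, C.th φ i ≠ 1) ∧
    ∀ i j, i ≠ j → C.th φ i ≠ C.th φ j ∧ C.th φ i ≠ (C.th φ j)⁻¹ := by
  have h0 : ∀ i, C.th φ i ≠ 1 := by
    intro i
    fin_cases i
    exacts [hφ, C.comp_ne_one hφ, C.comp_ne_one (C.comp_ne_one hφ)]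
  have hcyc : ∀ ψ : C.F.A →* ℂˣ, ψ ≠ 1 →
      ψ ≠ ψ.comp C.cA ∧ ψ ≠ (ψ.comp C.cA)⁻¹ ∧ ψ.comp C.cA ≠ ψ ∧ ψ.comp C.cA ≠ ψ⁻¹ :=
    fun ψ h => ⟨(C.comp_ne h).symm, fun e => C.comp_ne_inv h (by conv_rhs => rw [e, hom_inv_inv]),
      C.comp_ne h, C.comp_ne_inv h⟩
  obtain ⟨a1, a2, a3, a4⟩ := hcyc φ hφ
  obtain ⟨b1, b2, b3, b4⟩ := hcyc _ (C.comp_ne_one hφ)
  obtain ⟨c1, c2, c3, c4⟩ := hcyc _ (C.comp_ne_one (C.comp_ne_one hφ))
  rw [C.cA_comp_cube φ] at c1 c2 c3 c4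
  refine ⟨h0, fun i j hij => ?_⟩
  fin_cases i <;> fin_cases j <;>
    first | exact absurd rfl hij | exact ⟨a1, a2⟩ | exact ⟨a3, a4⟩ | exact ⟨b1, b2⟩ | exact ⟨b3, b4⟩ |
      exact ⟨c1, c2⟩ | exact ⟨c3, c4⟩

theorem th_pair {φ : C.F.A →* ℂˣ} (hφ : φ ≠ 1) (i j : Fin 3) :
    ((if C.th φ i = C.th φ j then 1 else 0) +
      (if C.th φ i = (C.th φ j)⁻¹ then 1 else 0) : ℂ) = if i = j then 1 else 0 := by
  rcases eq_or_ne i j with rfl | h
  · rw [if_pos rfl, if_pos rfl, if_neg (C.ne_inv ((C.th_spec hφ).1 i)), add_zero]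
  · rw [if_neg ((C.th_spec hφ).2 i j h).1, if_neg ((C.th_spec hφ).2 i j h).2, if_neg h, add_zero]

/-- The lift of `P_θ`. -/
noncomputable def LP (θ : C.F.A →* ℂˣ) : G → ℂ := T.lift (C.F.P C.Ψ θ)

theorem gen_LP (θ : C.F.A →* ℂˣ) : Gen (C.LP θ) := T.gen_lift (C.F.P_gen _ _)

theorem LP_LP (θ θ' : C.F.A →* ℂˣ) : classInner (C.LP θ) (C.LP θ') =
    4 * ((if θ = θ' then 1 else 0) + (if θ = θ'⁻¹ then 1 else 0) : ℂ) := by
  rw [LP, LP, T.inner_lift (C.F.P_oddSupp C.Ψ C.facts _) (C.F.P_oddSupp C.Ψ C.facts _)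
    (C.F.P_classFun _ _), C.F.inner_P_P C.Ψ C.facts]
  ring

theorem LP_diff (φ : C.F.A →* ℂˣ) (k : Fin 3) :
    C.LP (C.th φ k) - C.LP (C.th φ 0) = (2 : ℂ) • (C.aInd φ - C.aInd (C.th φ k)) := by
  have hL : ∀ θ, C.LP θ = (2 : ℂ) • T.lift (C.F.Xi C.Ψ) - T.lift (indFun C.F.A (lc θ)) :=
    fun θ => by rw [LP, Frame.P, T.lift_sub, T.lift_smul]
  have h := C.lift_iA
  fin_cases k
  · simp [th]
  · show C.LP (φ.comp C.cA) - C.LP φ = (2 : ℂ) • (C.aInd φ - C.aInd (φ.comp C.cA))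
    rw [hL, hL, h, h, C.ind_hat, C.cA_comp_cube]
    module
  · show C.LP ((φ.comp C.cA).comp C.cA) - C.LP φ =
      (2 : ℂ) • (C.aInd φ - C.aInd ((φ.comp C.cA).comp C.cA))
    rw [hL, hL, h, h, C.cA_comp_cube, C.ind_hat, C.ind_hat]
    module

/-- The exceptional characters of an orbit. -/
structure Exc (φ : C.F.A →* ℂˣ) where
  Z : G → ℂ
  Y : Fin 3 → G → ℂ
  D : ℤ
  sgZ : Sg Z
  sgY : ∀ k, Sg (Y k)
  orth : ∀ i j, i ≠ j → iq (Y i) (Y j) = 0
  orthZ : ∀ i, iq Z (Y i) = 0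
  dec : ∀ k, C.LP (C.th φ k) = Z - (Y 0 + Y 1 + Y 2) + (2 : ℂ) • Y k
  D_ne : D ≠ 0
  one_Z : Z 1 = D
  one_Y : ∀ k, Y k 1 = D
  diff : ∀ k, C.aInd φ - C.aInd (C.th φ k) = Y k - Y 0

theorem exists_exc {φ : C.F.A →* ℂˣ} (hφ : φ ≠ 1) : Nonempty (C.Exc φ) := by
  set τ : Fin 3 → G → ℂ := fun k => C.aInd φ - C.aInd (C.th φ k) with hτdef
  have hτ2 : ∀ k, C.LP (C.th φ k) - C.LP (C.th φ 0) = (2 : ℂ) • τ k := C.LP_diff φ
  have hgram : ∀ i j, i ≠ 0 → j ≠ 0 → classInner (τ i) (τ j) = if i = j then 2 else 1 := by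
    intro i j hi hj
    have h : classInner ((2 : ℂ) • τ i) ((2 : ℂ) • τ j) = 4 * (if i = j then 2 else 1) := by
      rw [← hτ2, ← hτ2, classInner_sub_left, classInner_sub_right, classInner_sub_right, C.LP_LP,
        C.LP_LP, C.LP_LP, C.LP_LP, C.th_pair hφ, C.th_pair hφ, C.th_pair hφ, C.th_pair hφ,
        if_neg hi, if_neg (Ne.symm hj), if_pos rfl]
      split_ifs <;> ring
    rw [classInner_smul_left, classInner_smul_right, map_ofNat] at h
    linear_combination (1 / 4 : ℂ) * h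
  obtain ⟨ε, hε, μ, hμ, hinj, hτ⟩ := exceptional_of_isometry (0 : Fin 3) τ
    (by simp [hτdef, th]) (fun k => isGeneralizedCharacter_sub (C.gen_aInd _) (C.gen_aInd _))
    (fun k => by
      have h := congrFun (hτ2 k) 1
      rw [Pi.sub_apply, LP, LP, T.lift_one, T.lift_one, Pi.smul_apply, smul_eq_mul] at h
      linear_combination (-1 / 2 : ℂ) * h) hgram
  set Y : Fin 3 → G → ℂ := fun k => ε • μ k with hY
  have hsg : ∀ k, Sg (Y k) := by
    intro k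
    rcases hε with rfl | rfl
    · simp only [hY, one_smul]; exact Sg.of_irr ⟨_, hμ k⟩
    · simp only [hY, neg_one_smul]; exact (Sg.of_irr ⟨_, hμ k⟩).neg
  have horth : ∀ i j, i ≠ j → iq (Y i) (Y j) = 0 := by
    intro i j hij
    refine iq_eq 0 ?_
    simp only [hY]
    rw [classInner_smul_left, classInner_smul_right,
      classInner_irr_ne (χ := ⟨_, hμ i⟩) (ψ := ⟨_, hμ j⟩) fun e => hij (hinj (congrArg Subtype.val e))]
    simp
  have hτY : ∀ k, τ k = Y k - Y 0 := fun k => by rw [hτ k, smul_sub]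
  clear_value Y
  set L := C.LP (C.th φ 0) with hLdef
  have hL : Gen L := C.gen_LP _
  have hdiff : ∀ k, C.LP (C.th φ k) = L + ((2 : ℂ) • Y k - (2 : ℂ) • Y 0) := by
    intro k
    have h := hτ2 k
    rw [hτY k, smul_sub] at h
    rw [← h]
    abel
  have hLL : ∀ k, iq L (C.LP (C.th φ k)) = if (0 : Fin 3) = k then 4 else 0 := fun k => iq_eq _ (by
    rw [hLdef, C.LP_LP, C.th_pair hφ]; split_ifs <;> norm_num)
  have hw : ∀ k : Fin 3, k ≠ 0 → iq L (Y k) = iq L (Y 0) - 2 := by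
    intro k hk
    have h1 : classInner L (C.LP (C.th φ k) - L) = ((-4 : ℤ) : ℂ) := by
      rw [classInner_sub_right, hLdef, C.LP_LP, C.LP_LP, C.th_pair hφ, C.th_pair hφ, if_pos rfl,
        if_neg hk.symm]
      norm_num
    rw [hdiff k, add_sub_cancel_left, classInner_sub_right, classInner_smul_right, classInner_smul_right,
      map_ofNat, iq_spec hL (hsg k).gen, iq_spec hL (hsg 0).gen] at h1
    have h2 : (2 : ℤ) * iq L (Y k) - 2 * iq L (Y 0) = -4 := by exact_mod_cast h1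
    omega
  have hbes := Orth.bessel (G := G) (l := [Y 0, Y 1, Y 2])
    ⟨fun b hb => by
      simp only [List.mem_cons, List.not_mem_nil, or_false] at hb
      rcases hb with rfl | rfl | rfl <;> exact hsg _,
     by simp [List.pairwise_cons, horth]⟩ hL
  simp only [List.map_cons, List.map_nil, List.sum_cons, List.sum_nil, hw 1 (by decide),
    hw 2 (by decide)] at hbes
  have hn0 : iq L L = 4 := by
    have := hLL 0
    rwa [← hLdef, if_pos rfl] at this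
  rw [hn0] at hbes
  set w := iq L (Y 0) with hwdef
  have hw12 : w = 1 ∨ w = 2 := by
    have h1 : 0 < w := by nlinarith
    have h2 : w ≤ 2 := by nlinarith
    omega
  have hY2 : Gen ((2 : ℂ) • Y 0) := by simpa using Gen.zsmul (hsg 0).gen 2
  have hw1 : w = 1 := by
    refine hw12.resolve_right fun h2 => ?_
    have h3 : L - (2 : ℂ) • Y 0 = 0 := by
      refine eq_zero_of_iq_self (isGeneralizedCharacter_sub hL hY2) (iq_eq 0 ?_)
      rw [classInner_sub_left, classInner_sub_right, classInner_sub_right, classInner_smul_right,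
        classInner_smul_left, classInner_smul_left, classInner_smul_right, iq_spec hL hL,
        iq_spec hL (hsg 0).gen, iq_spec (hsg 0).gen hL, (hsg 0).2, iq_comm (hsg 0).gen hL, hn0,
        ← hwdef, h2, map_ofNat]
      norm_num
    have h4 := congrFun h3 1
    rw [Pi.sub_apply, hLdef, LP, T.lift_one, Pi.smul_apply, Pi.zero_apply, smul_eq_mul] at h4
    exact (hsg 0).apply_one_ne (by linear_combination (-1 / 2 : ℂ) * h4)
  set Z := L - Y 0 + (Y 1 + Y 2) with hZdef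
  have g01 : Gen (L - Y 0) := isGeneralizedCharacter_sub hL (hsg 0).gen
  have g12 : Gen (Y 1 + Y 2) := isGeneralizedCharacter_add (hsg 1).gen (hsg 2).gen
  have hZg : Gen Z := isGeneralizedCharacter_add g01 g12
  have hLY : ∀ j, iq L (Y j) = if j = 0 then 1 else -1 := fun j => by
    rcases eq_or_ne j 0 with rfl | hj
    · rw [if_pos rfl]; exact hw1
    · rw [if_neg hj, hw j hj, hw1]; norm_num
  have hYY : ∀ i j, iq (Y i) (Y j) = if i = j then 1 else 0 := fun i j => by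
    rcases eq_or_ne i j with rfl | h
    · rw [if_pos rfl]; exact (hsg i).iq_self
    · rw [if_neg h]; exact horth i j h
  have hZY : ∀ j, iq Z (Y j) = 0 := fun j => by
    rw [hZdef, iq_add_left g01 g12 (hsg j).gen, iq_sub_left hL (hsg 0).gen (hsg j).gen,
      iq_add_left (hsg 1).gen (hsg 2).gen (hsg j).gen, hLY, hYY, hYY, hYY]
    fin_cases j <;> simp
  have hZL : iq Z L = 1 := by
    rw [hZdef, iq_add_left g01 g12 hL, iq_sub_left hL (hsg 0).gen hL,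
      iq_add_left (hsg 1).gen (hsg 2).gen hL, iq_comm (hsg 0).gen hL, iq_comm (hsg 1).gen hL,
      iq_comm (hsg 2).gen hL, hLY, hLY, hLY, hn0]
    simp
  have hZ : Sg Z := by
    refine Sg.of_iq hZg ?_
    nth_rw 2 [hZdef]
    rw [iq_add_right hZg g01 g12, iq_sub_right hZg hL (hsg 0).gen,
      iq_add_right hZg (hsg 1).gen (hsg 2).gen, hZL, hZY, hZY, hZY]
    norm_num
  have hdec : ∀ k, C.LP (C.th φ k) = Z - (Y 0 + Y 1 + Y 2) + (2 : ℂ) • Y k := fun k => by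
    rw [hdiff k, hZdef]; module
  obtain ⟨D, hD0, hD⟩ := hZ.apply_one_int
  have hk : ∀ k, Z 1 - (Y 0 1 + Y 1 1 + Y 2 1) + 2 * Y k 1 = 0 := fun k => by
    have h := congrFun (hdec k) 1
    rw [LP, T.lift_one] at h
    simpa using h.symm
  refine ⟨⟨Z, Y, D, hZ, hsg, horth, hZY, hdec, hD0, hD, fun k => ?_, hτY⟩⟩
  have h0 := hk 0
  have h1 := hk 1
  have h2 := hk 2
  rw [hD] at h0 h1 h2
  fin_cases k <;> simp only [Fin.zero_eta, Fin.mk_one, Fin.reduceFinMk]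
  · linear_combination (-1 / 2 : ℂ) * h1 + (-1 / 2 : ℂ) * h2
  · linear_combination (-1 / 2 : ℂ) * h0 + (-1 / 2 : ℂ) * h2
  · linear_combination (-1 / 2 : ℂ) * h0 + (-1 / 2 : ℂ) * h1

end Ctx

end CfsgLib.ReeType.Five
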