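import Cfsg.Agent.Lib.Ree.Five.Lift
import Cfsg.Agent.Lib.Char.Exceptional

/-!
# The subgroup `⟨t, u⟩ × ⟨a⟩`
-/

set_option autoImplicit false
set_option linter.unusedSectionVars false

namespace CfsgLib.ReeType.Five

open scoped ComplexConjugate
open Subgroup Cfsg CfsgLib.Char CfsgLib.Char.Signed
open CfsgLib.ReeType.Setup (OddSupp)

universe u

attribute [local instance] _root_.Classical.propDecidable

/-- The data for the characters. -/
structure Ctx {G : Type u} [Group G] {q m n : ℕ} (T : Setup G q m n) where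
  X : Torus T
  p : ℕ
  facts : Facts T.K p q m n
  F : Frame T.K p q m n
  hA : ∀ x : T.K, x ∈ F.A ↔ (x : G) ∈ zpowers X.a
  Ψ : F.Pair

variable {G : Type u} [Group G] [Fintype G] {q m n : ℕ} {T : Setup G q m n}

theorem Torus.exists_ctx (X : Torus T) : Nonempty (Ctx T) := by
  obtain ⟨p, h⟩ := T.kit.facts
  obtain ⟨F, hF⟩ := h.exists_frame (a := (⟨X.a, X.a_mem⟩ : T.K))
    (by rw [Subgroup.orderOf_mk]; exact X.order_a) X.one_lt_m
  obtain ⟨Ψ⟩ := F.exists_pair h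
  refine ⟨⟨X, p, h, F, fun x => ?_, Ψ⟩⟩
  rw [hF, mem_zpowers_iff, mem_zpowers_iff]
  refine exists_congr fun i => ?_
  rw [← Subtype.coe_inj, SubgroupClass.coe_zpow]

namespace Ctx

variable (C : Ctx T)

/-- The centralizer of `a`. -/
abbrev D : Subgroup G := centralizer ({C.X.a} : Set G)

theorem a_ne_one : C.X.a ≠ 1 := fun e => by
  have h := C.X.order_a
  rw [e, orderOf_one] at h
  have := C.X.one_lt_m
  omega

theorem a_pow_m : C.X.a ^ m = 1 := by
  have := pow_orderOf_eq_one C.X.a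
  rwa [C.X.order_a] at this

include C in
theorem m_odd : Odd m := C.facts.m_odd

/-- The four-group. -/
def IsV (e : G) : Prop := e = 1 ∨ e = T.t ∨ e = C.X.u ∨ e = T.t * C.X.u

theorem t_comm_u : Commute T.t C.X.u := (T.comm_t _ C.X.u_mem).symm

theorem u_sq : C.X.u * C.X.u = 1 := Invol.invol_mul_self C.X.order_u

theorem t_ne_u : T.t ≠ C.X.u := fun e => T.not_mem (e ▸ C.X.u_mem)

theorem tu_sq : T.t * C.X.u * (T.t * C.X.u) = 1 := by
  rw [mul_assoc, ← mul_assoc C.X.u, ← C.t_comm_u.eq, mul_assoc, C.u_sq, mul_one, T.t_sq]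

theorem tu_ne_one : T.t * C.X.u ≠ 1 := fun e =>
  C.t_ne_u ((eq_inv_of_mul_eq_one_left e).trans (Invol.invol_inv C.X.order_u))

theorem isV_sq {e : G} (he : C.IsV e) : e * e = 1 := by
  rcases he with rfl | rfl | rfl | rfl
  exacts [mul_one 1, T.t_sq, C.u_sq, C.tu_sq]

theorem a_t : Commute C.X.a T.t := T.comm_t _ C.X.a_mem

theorem isV_comm_a {e : G} (he : C.IsV e) : Commute e C.X.a := by
  rcases he with rfl | rfl | rfl | rfl
  exacts [Commute.one_left _, C.a_t.symm, C.X.a_u.symm, C.a_t.symm.mul_left C.X.a_u.symm]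

theorem D_form (g : C.D) : ∃ e c : G, C.IsV e ∧ c ∈ zpowers C.X.a ∧ (g : G) = e * c ∧ Commute e c := by
  obtain ⟨e, he, c, hc, hg⟩ := C.X.cent C.X.a (mem_zpowers _) C.a_ne_one g
    (mem_centralizer_singleton_iff.1 g.2)
  obtain ⟨i, rfl⟩ := mem_zpowers_iff.1 hc
  exact ⟨e, _, he, hc, hg, (C.isV_comm_a he).zpow_right i⟩

theorem zpowers_le_D : zpowers C.X.a ≤ C.D := zpowers_le.2 (mem_centralizer_singleton_iff.2 rfl)

theorem isV_mem {e : G} (he : C.IsV e) : e ∈ C.D :=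
  mem_centralizer_singleton_iff.2 (C.isV_comm_a he).eq

theorem A_pow {c : G} (hc : c ∈ zpowers C.X.a) : c ^ m = 1 := by
  obtain ⟨i, rfl⟩ := mem_zpowers_iff.1 hc
  rw [← zpow_natCast, ← zpow_mul, mul_comm, zpow_mul, zpow_natCast, C.a_pow_m, one_zpow]

/-- The components of an element of `D`. -/
theorem pow_parts {e c : G} (he : C.IsV e) (hc : c ∈ zpowers C.X.a) :
    (e * c) ^ m = e ∧ (e * c) ^ (m + 1) = c := by
  obtain ⟨i, hi⟩ := mem_zpowers_iff.1 hc
  have hec : Commute e c := hi ▸ (C.isV_comm_a he).zpow_right i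
  obtain ⟨j, hj⟩ := C.m_odd
  have hem : e ^ m = e := by
    rw [hj, pow_succ, pow_mul, pow_two, C.isV_sq he, one_pow, one_mul]
  have h1 : (e * c) ^ m = e := by rw [hec.mul_pow, C.A_pow hc, mul_one, hem]
  exact ⟨h1, by rw [pow_succ, h1, ← mul_assoc, C.isV_sq he, one_mul]⟩

theorem isV_pow (g : C.D) : C.IsV ((g : G) ^ m) ∧ (g : G) ^ (m + 1) ∈ zpowers C.X.a := by
  obtain ⟨e, c, he, hc, hg, -⟩ := C.D_form g
  rw [hg, (C.pow_parts he hc).1, (C.pow_parts he hc).2]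
  exact ⟨he, hc⟩

theorem isV_comm {e f : G} (he : C.IsV e) (hf : C.IsV f) : Commute e f := by
  have h1 := C.t_comm_u
  have ht : Commute T.t (T.t * C.X.u) := (Commute.refl _).mul_right h1
  have hu : Commute C.X.u (T.t * C.X.u) := h1.symm.mul_right (Commute.refl _)
  rcases he with rfl | rfl | rfl | rfl <;> rcases hf with rfl | rfl | rfl | rfl
  exacts [Commute.refl _, Commute.one_left _, Commute.one_left _, Commute.one_left _,
    Commute.one_right _, Commute.refl _, h1, ht, Commute.one_right _, h1.symm, Commute.refl _, hu,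
    Commute.one_right _, ht.symm, hu.symm, Commute.refl _]

theorem D_comm (g h : C.D) : Commute (g : G) h := by
  obtain ⟨e, c, he, hc, hg, -⟩ := C.D_form g
  obtain ⟨f, d, hf, hd, hh, -⟩ := C.D_form h
  obtain ⟨i, rfl⟩ := mem_zpowers_iff.1 hc
  obtain ⟨j, rfl⟩ := mem_zpowers_iff.1 hd
  rw [hg, hh]
  exact ((C.isV_comm he hf).mul_right ((C.isV_comm_a he).zpow_right j)).mul_left
    (((C.isV_comm_a hf).zpow_right i).symm.mul_right ((Commute.refl _).zpow_zpow i j))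

theorem D_mul_pow (g h : C.D) (k : ℕ) :
    ((g * h : C.D) : G) ^ k = (g : G) ^ k * (h : G) ^ k := by
  rw [Subgroup.coe_mul]
  exact (C.D_comm g h).mul_pow k

/-- The projection onto the torus. -/
noncomputable def projA : C.D →* C.F.A where
  toFun g := ⟨⟨(g : G) ^ (m + 1), by
      obtain ⟨i, hi⟩ := mem_zpowers_iff.1 (C.isV_pow g).2
      exact hi ▸ zpow_mem C.X.a_mem i⟩, (C.hA _).2 (C.isV_pow g).2⟩
  map_one' := by
    apply Subtype.ext; apply Subtype.ext
    show ((1 : C.D) : G) ^ (m + 1) = 1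
    rw [OneMemClass.coe_one, one_pow]
  map_mul' g h := by
    apply Subtype.ext; apply Subtype.ext
    show ((g * h : C.D) : G) ^ (m + 1) = (g : G) ^ (m + 1) * (h : G) ^ (m + 1)
    exact C.D_mul_pow g h _

/-- A product of an element of the four-group and one of the torus. -/
def dmk (e : G) (he : C.IsV e) (b : C.F.A) : C.D :=
  ⟨e * ((b : T.K) : G), mul_mem (C.isV_mem he) (C.zpowers_le_D ((C.hA _).1 b.2))⟩

theorem dmk_pow (e : G) (he : C.IsV e) (b : C.F.A) :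
    (C.dmk e he b : G) ^ m = e ∧ C.projA (C.dmk e he b) = b :=
  ⟨(C.pow_parts he ((C.hA _).1 b.2)).1,
    Subtype.ext (Subtype.ext (C.pow_parts he ((C.hA _).1 b.2)).2)⟩

theorem isV_one : C.IsV 1 := Or.inl rfl
theorem isV_t : C.IsV T.t := Or.inr (Or.inl rfl)
theorem isV_u : C.IsV C.X.u := Or.inr (Or.inr (Or.inl rfl))
theorem isV_tu : C.IsV (T.t * C.X.u) := Or.inr (Or.inr (Or.inr rfl))

/-- The four cosets. -/
theorem sum_D [Fintype C.D] [Fintype C.F.A] (f : C.D → ℂ) :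
    ∑ g : C.D, f g = ∑ b : C.F.A, (f (C.dmk 1 C.isV_one b) + f (C.dmk T.t C.isV_t b) +
      f (C.dmk C.X.u C.isV_u b) + f (C.dmk (T.t * C.X.u) C.isV_tu b)) := by
  let v : Fin 4 → {e : G // C.IsV e} :=
    ![⟨1, C.isV_one⟩, ⟨T.t, C.isV_t⟩, ⟨C.X.u, C.isV_u⟩, ⟨T.t * C.X.u, C.isV_tu⟩]
  have hv : Function.Injective v := by
    have f1 : (1 : G) ≠ T.t := (Invol.invol_ne_one T.order_t).symm
    have f2 : (1 : G) ≠ C.X.u := (Invol.invol_ne_one C.X.order_u).symm
    have f3 : (1 : G) ≠ T.t * C.X.u := C.tu_ne_one.symm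
    have f4 := C.t_ne_u
    have f5 : T.t ≠ T.t * C.X.u := fun e => f2 (mul_eq_left.1 e.symm).symm
    have f6 : C.X.u ≠ T.t * C.X.u := fun e => f1 (mul_eq_right.1 e.symm).symm
    intro i j hij
    have e : (v i : G) = v j := congrArg Subtype.val hij
    fin_cases i <;> fin_cases j <;> first
      | rfl
      | exact absurd e f1
      | exact absurd e f2
      | exact absurd e f3
      | exact absurd e f4
      | exact absurd e f5
      | exact absurd e f6
      | exact absurd e.symm f1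
      | exact absurd e.symm f2
      | exact absurd e.symm f3
      | exact absurd e.symm f4
      | exact absurd e.symm f5
      | exact absurd e.symm f6
  have hb : Function.Bijective fun z : Fin 4 × C.F.A => C.dmk _ (v z.1).2 z.2 := by
    refine ⟨fun z w e => ?_, fun g => ?_⟩
    · have e' : C.dmk _ (v z.1).2 z.2 = C.dmk _ (v w.1).2 w.2 := e
      refine Prod.ext (hv (Subtype.ext ?_)) ?_
      · rw [← (C.dmk_pow _ (v z.1).2 z.2).1, ← (C.dmk_pow _ (v w.1).2 w.2).1, e']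
      · rw [← (C.dmk_pow _ (v z.1).2 z.2).2, ← (C.dmk_pow _ (v w.1).2 w.2).2, e']
    · obtain ⟨e, c, he, hc, hg, -⟩ := C.D_form g
      obtain ⟨i, hi⟩ : ∃ i, (v i : G) = e := by
        rcases he with rfl | rfl | rfl | rfl
        exacts [⟨0, rfl⟩, ⟨1, rfl⟩, ⟨2, rfl⟩, ⟨3, rfl⟩]
      have hcK : c ∈ T.K := by
        obtain ⟨k, rfl⟩ := mem_zpowers_iff.1 hc
        exact zpow_mem C.X.a_mem k
      refine ⟨(i, ⟨⟨c, hcK⟩, (C.hA _).2 hc⟩), Subtype.ext ?_⟩
      show (v i : G) * c = g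
      rw [hi, hg]
  rw [← Fintype.sum_bijective _ hb _ f fun _ => rfl, Fintype.sum_prod_type, Fin.sum_univ_four]
  simp only [← Finset.sum_add_distrib]
  rfl

theorem card_D : Nat.card C.D = 4 * m := by
  have h := C.sum_D fun _ => (1 : ℂ)
  simp only [Finset.sum_const, Finset.card_univ, ← Nat.card_eq_fintype_card, nsmul_eq_mul,
    mul_one] at h
  norm_num at h
  have h' : Nat.card C.D = Nat.card C.F.A * 4 := by
    rw [Nat.card_eq_fintype_card, Nat.card_eq_fintype_card]; exact_mod_cast h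
  rw [h', C.F.card_A, mul_comm]

theorem D_le : C.D ≤ T.C := fun g hg => by
  obtain ⟨e, c, he, hc, hgc, -⟩ := C.D_form ⟨g, hg⟩
  refine mem_centralizer_singleton_iff.2 ?_
  obtain ⟨i, rfl⟩ := mem_zpowers_iff.1 hc
  rw [show g = e * C.X.a ^ i from hgc]
  exact ((C.isV_comm he C.isV_t).mul_left (C.a_t.zpow_left i)).eq

theorem tau_cube : C.X.τ * C.X.τ * C.X.τ = 1 := by
  have := pow_orderOf_eq_one C.X.τ
  rwa [C.X.order_τ, pow_three, ← mul_assoc] at this

theorem tau_tu : C.X.τ * (T.t * C.X.u) * C.X.τ⁻¹ = T.t := by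
  rw [← conj_mul, C.X.τ_t, C.X.τ_u, ← mul_assoc, ← C.t_comm_u.eq, mul_assoc, C.u_sq, mul_one]

theorem tau_conj_A {c : G} (hc : c ∈ zpowers C.X.a) : C.X.τ * c * C.X.τ⁻¹ ∈ zpowers C.X.a := by
  obtain ⟨i, rfl⟩ := mem_zpowers_iff.1 hc
  rw [← conj_zpow]
  exact zpow_mem C.X.τ_a i

theorem isV_tau {e : G} (he : C.IsV e) : C.IsV (C.X.τ * e * C.X.τ⁻¹) := by
  rcases he with rfl | rfl | rfl | rfl
  · exact Or.inl (by rw [mul_one, mul_inv_cancel])
  · rw [C.X.τ_t]; exact C.isV_u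
  · rw [C.X.τ_u]; exact C.isV_tu
  · rw [C.tau_tu]; exact C.isV_t

theorem tau_conj_D {g : G} (hg : g ∈ C.D) : C.X.τ * g * C.X.τ⁻¹ ∈ C.D := by
  obtain ⟨e, c, he, hc, hgc, -⟩ := C.D_form ⟨g, hg⟩
  rw [show g = e * c from hgc, ← conj_mul]
  exact mul_mem (C.isV_mem (C.isV_tau he)) (C.zpowers_le_D (C.tau_conj_A hc))

/-- Conjugation by `τ` on `D`. -/
def cD : C.D →* C.D where
  toFun g := ⟨C.X.τ * g * C.X.τ⁻¹, C.tau_conj_D g.2⟩
  map_one' := Subtype.ext (by simp)
  map_mul' g h := Subtype.ext (by push_cast; group)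

/-- Conjugation by `τ` on the torus. -/
def cA : C.F.A →* C.F.A where
  toFun y := ⟨⟨C.X.τ * ((y : T.K) : G) * C.X.τ⁻¹, by
      obtain ⟨i, hi⟩ := mem_zpowers_iff.1 (C.tau_conj_A ((C.hA _).1 y.2))
      exact hi ▸ zpow_mem C.X.a_mem i⟩, (C.hA _).2 (C.tau_conj_A ((C.hA _).1 y.2))⟩
  map_one' := Subtype.ext (Subtype.ext (by simp))
  map_mul' g h := Subtype.ext (Subtype.ext (by push_cast; group))

theorem projA_cD (g : C.D) : C.projA (C.cD g) = C.cA (C.projA g) := by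
  apply Subtype.ext; apply Subtype.ext
  show (C.X.τ * (g : G) * C.X.τ⁻¹) ^ (m + 1) = C.X.τ * (g : G) ^ (m + 1) * C.X.τ⁻¹
  exact conj_pow

theorem cA_cube (y : C.F.A) : C.cA (C.cA (C.cA y)) = y := by
  apply Subtype.ext; apply Subtype.ext
  show C.X.τ * (C.X.τ * (C.X.τ * ((y : T.K) : G) * C.X.τ⁻¹) * C.X.τ⁻¹) * C.X.τ⁻¹ = ((y : T.K) : G)
  calc _ = (C.X.τ * C.X.τ * C.X.τ) * ((y : T.K) : G) * (C.X.τ * C.X.τ * C.X.τ)⁻¹ := by group
    _ = _ := by rw [C.tau_cube, one_mul, inv_one, mul_one]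

theorem cA_fixed {y : C.F.A} (h : C.cA y = y) : y = 1 := by
  have h1 : C.X.τ * ((y : T.K) : G) * C.X.τ⁻¹ = ((y : T.K) : G) :=
    congrArg (fun z : C.F.A => ((z : T.K) : G)) h
  exact Subtype.ext (Subtype.ext (C.X.τ_fpf _ ((C.hA _).1 y.2) (mul_inv_eq_iff_eq_mul.1 h1)))

/-- The sign character with kernel generated by `t` and the torus. -/
noncomputable def sigma : C.D →* ℂˣ where
  toFun g := if (g : G) ^ m = 1 ∨ (g : G) ^ m = T.t then 1 else -1
  map_one' := if_pos (Or.inl (by rw [OneMemClass.coe_one, one_pow]))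
  map_mul' g h := by
    have h1 := T.t_sq
    have h2 := C.u_sq
    have h3 : C.X.u * T.t = T.t * C.X.u := C.t_comm_u.eq.symm
    have h4 : T.t * (T.t * C.X.u) = C.X.u := by rw [← mul_assoc, h1, one_mul]
    have h5 : C.X.u * (T.t * C.X.u) = T.t := by rw [← mul_assoc, h3, mul_assoc, h2, mul_one]
    have h6 : T.t * C.X.u * T.t = C.X.u := by rw [mul_assoc, h3, h4]
    have h7 : T.t * C.X.u * C.X.u = T.t := by rw [mul_assoc, h2, mul_one]
    have h8 := C.tu_sq
    have f1 : (1 : G) ≠ T.t := (Invol.invol_ne_one T.order_t).symm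
    have f2 : C.X.u ≠ 1 := Invol.invol_ne_one C.X.order_u
    have f3 := C.tu_ne_one
    have f4 := C.t_ne_u.symm
    have f5 : T.t * C.X.u ≠ T.t := fun e => f2 (mul_eq_left.1 e)
    rw [C.D_mul_pow g h m]
    rcases (C.isV_pow g).1 with e | e | e | e <;> rcases (C.isV_pow h).1 with e' | e' | e' | e' <;>
      rw [e, e'] <;>
      simp [h1, h2, h3, h4, h5, h6, h7, h8, f1, f1.symm, f2, f3, f4, f5]

theorem sigma_apply (g : C.D) :
    (C.sigma g : ℂ) = if (g : G) ^ m = 1 ∨ (g : G) ^ m = T.t then 1 else -1 := by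
  show ((if _ then (1 : ℂˣ) else -1 : ℂˣ) : ℂ) = _
  split_ifs <;> simp

end Ctx

end CfsgLib.ReeType.Five
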