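import Cfsg.Agent.Lib.Ree.Five.Orbit
import Cfsg.Agent.Lib.Ree.Five.Congr
import Cfsg.Agent.Lib.Ree.Five.Arith

/-!
# The equations shared by the two shapes
-/

set_option autoImplicit false
set_option linter.unusedSectionVars false

namespace CfsgLib.ReeType.Five

open scoped ComplexConjugate
open Subgroup Cfsg CfsgLib.Char CfsgLib.Char.Signed

universe u

attribute [local instance] _root_.Classical.propDecidable

variable {G : Type u} [Group G] [Fintype G] {q m n : ℕ}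

theorem eq_of_two_coef {R a b : G → ℂ} (hR : Gen R) (h2 : iq R R = 2) (ha : Sg a) (hb : Sg b)
    (hab : iq a b = 0) (h1 : iq R a = 1) (h1' : iq R b = 1) : R = a + b := by
  refine sub_eq_zero.1 (eq_zero_of_iq_self
    (isGeneralizedCharacter_sub hR (isGeneralizedCharacter_add ha.gen hb.gen)) (iq_eq 0 ?_))
  simp only [classInner_sub_left, classInner_sub_right, classInner_add_left, classInner_add_right,
    iq_spec hR hR, iq_spec hR ha.gen, iq_spec hR hb.gen, iq_spec ha.gen hR, iq_spec hb.gen hR,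
    iq_spec ha.gen hb.gen, iq_spec hb.gen ha.gen, ha.2, hb.2, iq_comm ha.gen hR, iq_comm hb.gen hR,
    iq_comm hb.gen ha.gen, h2, hab, h1, h1']
  norm_num

theorem qfun_oneC (i : G) : qfun i (oneC : G → ℂ) = 1 := by
  rw [qfun_sg _ sg_oneC]
  simp [oneC]

namespace Ctx

variable {T : Setup G q m n} (C : Ctx T)

include C in
theorem cast_n' : (n : ℤ) = 2 * m + 1 := by
  have := C.facts.hm; have := C.facts.hn; omega

include C in
theorem cast_q' : (q : ℤ) = 4 * m + 1 := by exact_mod_cast C.facts.hm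

/-- Everything about a row with given coefficients. -/
theorem row_at {χ : G → ℂ} (hχ : Sg χ) {a b₀ b₁ : ℤ} (ea : iq C.LM χ = a)
    (e0 : iq (C.LX 0) χ = b₀) (e1 : iq (C.LX 1) χ = b₁) (hrow : a ≠ 0 ∨ b₀ ≠ 0 ∨ b₁ ≠ 0)
    (hb : -2 ≤ a + (b₀ + b₁) ∧ a + (b₀ + b₁) ≤ 2)
    (hne : a + (b₀ + b₁) ≠ 0 ∨ ¬ 2 ∣ b₀ + b₁) :
    C.Row χ ∧ C.kap χ = a + (b₀ + b₁) ∧ χ T.t = ((a + (n : ℤ) * (b₀ + b₁) : ℤ) : ℂ) := by
  have hr : C.Row χ := ⟨hχ, by
    rcases hrow with e | e | e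
    · exact Or.inl (ea ▸ e)
    · exact Or.inr ⟨0, e0 ▸ e⟩
    · exact Or.inr ⟨1, e1 ▸ e⟩⟩
  have hk : C.kap χ = a + (b₀ + b₁) := by rw [kap, ea, e0, e1]
  haveI : Finite (C.F.L →* ℂˣ) := CfsgLib.Char.finite_dual
  let _ := Fintype.ofFinite (C.F.L →* ℂˣ)
  refine ⟨hr, hk, ?_⟩
  rw [row_value hr, Finset.sum_eq_zero fun l hl => hr.iq_LQ (hk ▸ hb) (by rw [hk, e0, e1]; exact hne)
    (Finset.mem_erase.1 hl).1, ea, e0, e1]
  congr 1
  ring

/-- The first equation. -/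
theorem qfun_LM {J : ℕ} (hJ : Nat.card {x : G // IsConj T.t x} = q ^ 2 * J) (hJ0 : 0 < J) :
    qfun T.t C.LM = ((((q : ℚ) ^ 2 - 1) * ((q : ℚ) + 1) / ((q : ℚ) * J) : ℚ) : ℂ) := by
  rw [LM, LQ, T.qfun_lift (C.F.Q_oddSupp C.Ψ C.facts 1), C.F.sum_Q_inv C.Ψ C.facts, if_pos rfl,
    C.facts.card, hJ]
  have hq : (q : ℂ) ≠ 0 := by exact_mod_cast C.facts.q_pos.ne'
  have hJc : (J : ℂ) ≠ 0 := by exact_mod_cast hJ0.ne'
  push_cast
  field_simp
  simp only [C.facts.cast_n, C.facts.cast_q]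
  ring

/-- The second equation. -/
theorem qfun_LX {J : ℕ} (hJ : Nat.card {x : G // IsConj T.t x} = q ^ 2 * J) (hJ0 : 0 < J) (i : Fin 2) :
    qfun T.t (C.LX i) = ((((q : ℚ) + 1) * (3 * (q : ℚ) + 1) / ((q : ℚ) * J) : ℚ) : ℂ) := by
  rw [LX, T.qfun_lift (C.F.fX_oddSupp C.Ψ C.facts i), C.F.sum_fX_inv C.Ψ C.facts, hJ]
  have hq : (q : ℂ) ≠ 0 := by exact_mod_cast C.facts.q_pos.ne'
  have hJc : (J : ℂ) ≠ 0 := by exact_mod_cast hJ0.ne'
  push_cast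
  field_simp
  simp only [C.facts.cast_n, C.facts.cast_q]
  ring

theorem exists_phi : ∃ φ : C.F.A →* ℂˣ, φ ≠ 1 := by
  let _ : CommGroup C.F.A :=
    { (inferInstance : Group C.F.A) with
      mul_comm := fun a b => Subtype.ext (C.F.torus_A.comm a a.2 b b.2) }
  obtain ⟨y, hy⟩ : ∃ y : C.F.A, y ≠ 1 := by
    by_contra hc
    push Not at hc
    have h1 : Nat.card C.F.A = 1 := Nat.card_eq_one_iff_unique.2
      ⟨⟨fun a b => (hc a).trans (hc b).symm⟩, ⟨1⟩⟩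
    rw [C.F.card_A] at h1
    have := C.X.one_lt_m
    omega
  obtain ⟨φ, hφ⟩ := CommGroup.exists_apply_ne_one_of_hasEnoughRootsOfUnity C.F.A ℂ hy
  exact ⟨φ, fun e => hφ (by rw [e]; rfl)⟩

theorem exists_global_J : ∃ J : ℕ, 0 < J ∧ Nat.card {x : G // IsConj T.t x} = q ^ 2 * J ∧
    ∀ (φ : C.F.A →* ℂˣ) (E : C.Exc φ), φ ≠ 1 → E.D = -(2 * n : ℤ) * J := by
  obtain ⟨φ, hφ⟩ := C.exists_phi
  obtain ⟨E⟩ := C.exists_exc hφ
  obtain ⟨J, hJ0, hJ, -⟩ := exists_J E hφ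
  refine ⟨J, hJ0, hJ, fun φ' E' hφ' => ?_⟩
  obtain ⟨J', -, hJ', hD'⟩ := exists_J E' hφ'
  rw [hJ] at hJ'
  rw [hD', Nat.eq_of_mul_eq_mul_left (pow_pos C.facts.q_pos 2) hJ']

end Ctx

end CfsgLib.ReeType.Five
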