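import Cfsg.Agent.Lib.Ree.Five.Setup
import Cfsg.Agent.Lib.Ree.PSLKit

/-!
# The facts about `PSL(2, q)`, `q ≡ 5 (mod 8)`, used for the configuration `2 × PSL(2, q)`

`m = (q-1)/4`, `n = (q+1)/2`.
-/

set_option autoImplicit false
set_option linter.unusedSectionVars false

namespace CfsgLib.ReeType.Five

open Subgroup

/-- The facts used. -/
structure Facts (K : Type*) [Group K] (p q m n : ℕ) : Prop where
  data : PSLSpectrum.Data K p q (2 * m) n
  conj : ∀ x y : K, orderOf x = 2 → orderOf y = 2 → IsConj x y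
  comm : ∀ P : Sylow p K, ∀ a ∈ (P : Subgroup K), ∀ b ∈ (P : Subgroup K), a * b = b * a
  hm : q = 4 * m + 1
  hn : q + 1 = 2 * n
  m_odd : Odd m
  five_lt : 5 < q

namespace Facts

variable {K : Type*} [Group K] [Finite K] {p q m n : ℕ} (h : Facts K p q m n)
include h

theorem two_not_m : ¬ 2 ∣ m := fun hd => Nat.not_even_iff_odd.2 h.m_odd (even_iff_two_dvd.2 hd)

theorem m_pos : 0 < m := by have := h.hm; have := h.five_lt; omega

theorem n_pos : 0 < n := by have := h.hn; omega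

theorem cop_mn : m.Coprime n := h.data.cop.coprime_mul_left

theorem card : Nat.card K = q * n * (4 * m) := by rw [h.data.card]; ring

theorem p_not_m : ¬ p ∣ m := fun hd => h.data.p_not_me (dvd_mul_of_dvd_right hd 2)

theorem p_not_two : ¬ p ∣ 2 := fun hd =>
  h.data.p_ne_two ((Nat.prime_dvd_prime_iff_eq h.data.prime_p Nat.prime_two).1 hd)

theorem p_not_compl : ¬ p ∣ n * (4 * m) := fun hd => by
  rcases h.data.prime_p.dvd_mul.1 hd with h1 | h1
  · exact h.data.p_not_mo h1
  · rcases h.data.prime_p.dvd_mul.1 h1 with h2 | h2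
    · exact h.p_not_two (h.data.prime_p.dvd_of_dvd_pow (show p ∣ 2 ^ 2 from h2))
    · exact h.p_not_m h2

theorem card_sylow (P : Sylow p K) : Nat.card (P : Subgroup K) = q := by
  haveI : Fact p.Prime := ⟨h.data.prime_p⟩
  obtain ⟨f, -, hf⟩ := h.data.q_pow
  have h3 := h.p_not_compl
  rw [P.card_eq_multiplicity, h.card, mul_assoc,
    Nat.factorization_mul (by have := h.five_lt; omega) (fun e => h3 (by rw [e]; exact dvd_zero p)),
    Finsupp.add_apply, Nat.factorization_eq_zero_of_not_dvd h3, hf,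
    Nat.Prime.factorization_pow h.data.prime_p, Finsupp.single_eq_same, add_zero]

theorem cent_eq_sylow {x : K} (hx : orderOf x = p) (P : Sylow p K) (hxP : x ∈ (P : Subgroup K)) :
    centralizer ({x} : Set K) = P := by
  have hle : (P : Subgroup K) ≤ centralizer ({x} : Set K) := fun a ha =>
    mem_centralizer_singleton_iff.2 (h.comm P a ha x hxP)
  refine (eq_of_le_of_card_ge hle ?_).symm
  rw [h.card_sylow]
  refine Nat.le_of_dvd (by have := h.five_lt; omega) (PSLSpectrum.Data.card_cent_dvd h.data.prime_p hx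
    (K := n * (4 * m)) (by rw [h.card]; ring) fun s hs hsd => ?_)
  refine ⟨fun e => h.p_not_compl (e ▸ hsd), fun g hd => ?_⟩
  rcases h.data.orders g with ho | ho | ho
  · rcases (Nat.dvd_prime h.data.prime_p).1 (hd.trans ho) with e | e
    · exact h.data.prime_p.ne_one (Nat.eq_one_of_mul_eq_one_right e)
    · exact hs.ne_one ((Nat.mul_eq_left h.data.prime_p.ne_zero).1 e)
  · exact h.data.p_not_me ((dvd_mul_right p s).trans (hd.trans ho))
  · exact h.data.p_not_mo ((dvd_mul_right p s).trans (hd.trans ho))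

theorem order_of_mem_sylow (P : Sylow p K) {x : K} (hx : x ∈ (P : Subgroup K)) (hx1 : x ≠ 1) :
    orderOf x = p := by
  obtain ⟨j, hj⟩ := P.2 ⟨x, hx⟩
  have hd : orderOf x ∣ p ^ j := orderOf_dvd_of_pow_eq_one (congrArg Subtype.val hj)
  rcases h.data.orders x with ho | ho | ho
  · exact ((Nat.dvd_prime h.data.prime_p).1 ho).resolve_left fun e => hx1 (orderOf_eq_one_iff.1 e)
  · exact absurd (orderOf_eq_one_iff.1 (Nat.eq_one_of_dvd_coprimes
      ((h.data.prime_p.coprime_iff_not_dvd.2 h.data.p_not_me).pow_left j) hd ho)) hx1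
  · exact absurd (orderOf_eq_one_iff.1 (Nat.eq_one_of_dvd_coprimes
      ((h.data.prime_p.coprime_iff_not_dvd.2 h.data.p_not_mo).pow_left j) hd ho)) hx1

theorem invol_torus {u : K} (hu : orderOf u = 2) :
    ∃ w : K, orderOf w = 2 * m ∧ w ^ m = u ∧ Nat.card (centralizer ({u} : Set K)) = 4 * m ∧
      zpowers w ≤ centralizer ({u} : Set K) ∧
      (∀ g ∈ centralizer ({u} : Set K), g ∉ zpowers w → g * w * g⁻¹ = w⁻¹ ∧ orderOf g = 2) ∧
      ∃ g ∈ centralizer ({u} : Set K), g ∉ zpowers w := by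
  obtain ⟨w₀, hw₀⟩ := h.data.exE
  let F : PSLSpectrum.Frame K p q (2 * m) n :=
    ⟨h.data, w₀, 1, m, hw₀, le_rfl, h.m_odd, by rw [pow_one]⟩
  have hFt : F.t = w₀ ^ m := by
    show w₀ ^ (2 ^ (1 - 1) * m) = w₀ ^ m
    rw [Nat.sub_self, pow_zero, one_mul]
  obtain ⟨S, hS⟩ := F.exists_sylow
  obtain ⟨s, hsS, hsa, hs2, -⟩ := F.exists_inverting hS
  have hsw : s ∉ zpowers w₀ := fun hm' =>
    hsa ((F.invol_eq (Or.inr rfl) hm' hs2).symm ▸ F.t_mem_a)
  have hsC : s ∈ centralizer ({F.t} : Set K) := F.sylow_le hS hsS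
  have hsn : ∀ a ∈ zpowers w₀, s * a * s⁻¹ ∈ zpowers w₀ := fun a ha =>
    (mem_normalizer_iff.1 (F.cent_le_normalizer hS hsC) a).1 ha
  have hcommw : ∀ a ∈ zpowers w₀, ∀ b ∈ zpowers w₀, a * b = b * a := by
    rintro _ ⟨i, rfl⟩ _ ⟨j, rfl⟩
    exact ((Commute.refl w₀).zpow_zpow i j).eq
  have hs1 : s * s = 1 := by rw [← pow_two, ← hs2, pow_orderOf_eq_one]
  set A := zpowers (w₀ ^ 2) with hA
  have hAw : A ≤ zpowers w₀ := zpowers_le.2 (pow_mem (mem_zpowers _) _)
  have hAm : orderOf (w₀ ^ 2) = m := by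
    rw [orderOf_pow, hw₀, Nat.gcd_mul_right_left, Nat.mul_div_cancel_left _ two_pos]
  have hfix : ∀ a ∈ zpowers w₀, a ^ m = 1 → s * a = a * s → a = 1 := by
    intro a ha ham hsa'
    by_contra hne
    obtain ⟨r, hr, hrd⟩ := Nat.exists_prime_and_dvd (mt orderOf_eq_one_iff.1 hne)
    haveI := Fact.mk hr
    have hrm : r ∣ m := hrd.trans (orderOf_dvd_of_pow_eq_one ham)
    have hr2 : r ≠ 2 := fun e => h.two_not_m (e ▸ hrm)
    set z := a ^ (orderOf a / r) with hz
    have hzo : orderOf z = r := orderOf_pow_orderOf_div (orderOf_pos a).ne' hrd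
    obtain ⟨P, hP⟩ := PSLSpectrum.exists_sylow_le (u := w₀) (k := q * n * 2)
      (by rw [h.card, hw₀]; ring) (h.data.not_dvd_compl_E hr hr2 (dvd_mul_of_dvd_right hrm 2))
    obtain ⟨-, -, -, hyC⟩ := h.data.torus_E hr2 (dvd_mul_of_dvd_right hrm 2) P hw₀ hP
    have hzP : z ∈ (P : Subgroup K) := by
      have hrP : r ∣ Nat.card (P : Subgroup K) :=
        P.dvd_card_of_dvd_card (h.card ▸ dvd_mul_of_dvd_right (dvd_mul_of_dvd_right hrm _) _)
      obtain ⟨⟨y, hy⟩, hyo⟩ := exists_prime_orderOf_dvd_card' (G := (P : Subgroup K)) r hrP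
      rw [orderOf_mk] at hyo
      have := PSLSpectrum.eq_of_le_zpowers (u := w₀) (zpowers_le.2 (hP hy))
        (zpowers_le.2 (pow_mem ha _) : zpowers z ≤ zpowers w₀)
        (by rw [Nat.card_zpowers, Nat.card_zpowers, hyo, hzo])
      exact (zpowers_le.2 hy) (this ▸ mem_zpowers z)
    refine hsw (hyC z hzP hzo ▸ mem_centralizer_singleton_iff.2 ?_)
    exact ((show Commute s a from hsa').pow_right _).eq
  have hinv : ∀ a ∈ A, s * a * s⁻¹ = a⁻¹ := by
    refine inverts_of_no_fixed (fun a ha b hb => hcommw a (hAw ha) b (hAw hb)) (fun a ha => ?_)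
      (fun a _ => by rw [hs1, one_mul, mul_one]) fun a ha hc => hfix a (hAw ha) ?_ hc
    · obtain ⟨i, rfl⟩ := mem_zpowers_iff.1 ha
      obtain ⟨j, hj⟩ := mem_zpowers_iff.1 (hsn _ (mem_zpowers w₀))
      refine mem_zpowers_iff.2 ⟨i * j, ?_⟩
      rw [← conj_zpow, ← zpow_natCast w₀ 2, ← conj_zpow, ← hj, ← zpow_mul, ← zpow_mul, ← zpow_mul]
      congr 1
      push_cast
      ring
    · obtain ⟨i, rfl⟩ := mem_zpowers_iff.1 ha
      rw [← zpow_natCast, ← zpow_mul, mul_comm, zpow_mul, zpow_natCast, ← hAm, pow_orderOf_eq_one,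
        one_zpow]
  have hst : s * F.t * s⁻¹ = F.t⁻¹ := by
    rw [mem_centralizer_singleton_iff.1 hsC, mul_inv_cancel_right, Invol.invol_inv F.order_t]
  have hswinv : s * w₀ * s⁻¹ = w₀⁻¹ := by
    obtain ⟨j, hj⟩ := h.m_odd
    have hw : w₀ = F.t * ((w₀ ^ 2) ^ j)⁻¹ := by
      rw [hFt, ← pow_mul, eq_mul_inv_iff_mul_eq, ← pow_succ', hj]
    have h1 := hinv _ (inv_mem (pow_mem (mem_zpowers (w₀ ^ 2)) j))
    calc s * w₀ * s⁻¹ = (s * F.t * s⁻¹) * (s * ((w₀ ^ 2) ^ j)⁻¹ * s⁻¹) := by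
          conv_lhs => rw [hw]
          group
      _ = F.t⁻¹ * (((w₀ ^ 2) ^ j)⁻¹)⁻¹ := by rw [hst, h1]
      _ = w₀⁻¹ := by
          conv_rhs => rw [hw, mul_inv_rev]
          rw [hcommw _ (inv_mem F.t_mem) _ (by
            rw [inv_inv]; exact pow_mem (pow_mem (mem_zpowers _) _) _)]
  have hcard : Nat.card (centralizer ({F.t} : Set K)) = 4 * m := by
    rw [F.card_cent hS]; ring
  have hwC : zpowers w₀ ≤ centralizer ({F.t} : Set K) := PSLSpectrum.zpowers_le_centralizer F.t_mem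
  have hidx : ((zpowers w₀).subgroupOf (centralizer ({F.t} : Set K))).index = 2 := by
    have h1 := PSLSpectrum.card_mul_relIndex' hwC
    rw [hcard, Nat.card_zpowers, hw₀, show 4 * m = 2 * m * 2 by ring] at h1
    exact mul_left_cancel₀ (by have := h.m_pos; omega) h1
  have hall : ∀ g ∈ centralizer ({F.t} : Set K), g ∉ zpowers w₀ →
      g * w₀ * g⁻¹ = w₀⁻¹ ∧ orderOf g = 2 := by
    intro g hg hgw
    have hgs : s * g ∈ zpowers w₀ := by
      have := (mul_mem_iff_of_index_two hidx (a := ⟨s, hsC⟩) (b := ⟨g, hg⟩)).2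
        (iff_of_false (fun e => hsw (mem_subgroupOf.1 e)) fun e => hgw (mem_subgroupOf.1 e))
      exact mem_subgroupOf.1 this
    obtain ⟨i, hi⟩ := mem_zpowers_iff.1 hgs
    have hge : g = s * w₀ ^ i := by rw [hi, ← mul_assoc, hs1, one_mul]
    have hg1 : g * g = 1 := by
      rw [hge]
      calc s * w₀ ^ i * (s * w₀ ^ i) = s * w₀ ^ i * s⁻¹ * w₀ ^ i := by
            rw [inv_eq_of_mul_eq_one_right hs1]; group
        _ = 1 := by rw [← conj_zpow, hswinv, inv_zpow, inv_mul_cancel]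
    refine ⟨?_, orderOf_eq_prime (by rw [pow_two, hg1]) fun e => hgw (e ▸ one_mem _)⟩
    rw [hge, show s * w₀ ^ i * w₀ * (s * w₀ ^ i)⁻¹ = s * (w₀ ^ i * w₀ * (w₀ ^ i)⁻¹) * s⁻¹ by group,
      ((Commute.refl w₀).zpow_left i).eq, mul_inv_cancel_right, hswinv]
  obtain ⟨x, hx⟩ := isConj_iff.1 (h.conj _ _ F.order_t hu)
  refine ⟨MulAut.conj x w₀, ?_, ?_, ?_, ?_, ?_, ⟨MulAut.conj x s, ?_, ?_⟩⟩
  · rw [MulEquiv.orderOf_eq, hw₀]
  · rw [← map_pow, ← hFt, MulAut.conj_apply, hx]
  · rw [← hcard]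
    refine (Nat.card_congr ((MulAut.conj x).toEquiv.subtypeEquiv fun g => ?_)).symm
    show g ∈ centralizer ({F.t} : Set K) ↔ MulAut.conj x g ∈ centralizer ({u} : Set K)
    rw [mem_centralizer_singleton_iff, mem_centralizer_singleton_iff, ← hx, ← MulAut.conj_apply x F.t,
      ← map_mul, ← map_mul, (MulAut.conj x).injective.eq_iff]
  · rw [zpowers_le, mem_centralizer_singleton_iff, ← hx, ← MulAut.conj_apply, ← map_mul, ← map_mul,
      mem_centralizer_singleton_iff.1 (hwC (mem_zpowers _))]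
  · intro g hg hgw
    obtain ⟨g, rfl⟩ := (MulAut.conj x).surjective g
    have hg' : g ∈ centralizer ({F.t} : Set K) := by
      rw [mem_centralizer_singleton_iff, ← hx, ← MulAut.conj_apply, ← map_mul, ← map_mul] at hg
      exact mem_centralizer_singleton_iff.2 ((MulAut.conj x).injective hg)
    obtain ⟨h1, h2⟩ := hall g hg' fun e => hgw (by
      obtain ⟨i, rfl⟩ := mem_zpowers_iff.1 e
      rw [map_zpow]
      exact zpow_mem (mem_zpowers _) _)
    exact ⟨by rw [← map_inv, ← map_mul, ← map_mul, h1, map_inv],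
      (MulEquiv.orderOf_eq _ _).trans h2⟩
  · rw [mem_centralizer_singleton_iff, ← hx, ← MulAut.conj_apply, ← map_mul, ← map_mul,
      mem_centralizer_singleton_iff.1 hsC]
  · intro e
    obtain ⟨i, hi⟩ := mem_zpowers_iff.1 e
    rw [← map_zpow] at hi
    exact hsw ((MulAut.conj x).injective hi ▸ zpow_mem (mem_zpowers _) _)

theorem exists_commuting_invol {u : K} (hu : orderOf u = 2) :
    ∃ g : K, orderOf g = 2 ∧ g ≠ u ∧ Commute g u := by
  obtain ⟨w, -, hwu, -, -, hall, g, hg, hgw⟩ := h.invol_torus hu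
  exact ⟨g, (hall g hg hgw).2, fun e => hgw (e ▸ hwu ▸ pow_mem (mem_zpowers _) _),
    mem_centralizer_singleton_iff.1 hg⟩

theorem exists_invol : ∃ u : K, orderOf u = 2 := by
  haveI : Fact (Nat.Prime 2) := ⟨Nat.prime_two⟩
  exact exists_prime_orderOf_dvd_card' 2 (h.card ▸ dvd_mul_of_dvd_right (dvd_mul_of_dvd_left
    (by norm_num) m) _)

theorem cent_m {v : K} (hv : v ≠ 1) (hvm : orderOf v ∣ m) :
    ∃ w : K, orderOf w = 2 * m ∧ centralizer ({v} : Set K) = zpowers w := by
  obtain ⟨r, hr, hrd⟩ := Nat.exists_prime_and_dvd (mt orderOf_eq_one_iff.1 hv)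
  haveI := Fact.mk hr
  have hrm : r ∣ m := hrd.trans hvm
  have hr2 : r ≠ 2 := fun e => h.two_not_m (e ▸ hrm)
  set y := v ^ (orderOf v / r) with hy
  have hyo : orderOf y = r := orderOf_pow_orderOf_div (orderOf_pos v).ne' hrd
  obtain ⟨w₀, hw₀⟩ := h.data.exE
  obtain ⟨P, hP⟩ := (IsPGroup.of_card (G := zpowers y) (p := r) (n := 1)
    (by rw [Nat.card_zpowers, hyo, pow_one])).exists_le_sylow
  obtain ⟨w, hw, hPw⟩ := PSLSpectrum.exists_gen (u := w₀) (k := q * n * 2)
    (by rw [h.card, hw₀]; ring) (h.data.not_dvd_compl_E hr hr2 (dvd_mul_of_dvd_right hrm 2)) P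
  rw [hw₀] at hw
  obtain ⟨-, -, -, hyC⟩ := h.data.torus_E hr2 (dvd_mul_of_dvd_right hrm 2) P hw hPw
  have hCy := hyC y (hP (mem_zpowers y)) hyo
  refine ⟨w, hw, le_antisymm (fun a ha => ?_) (PSLSpectrum.zpowers_le_centralizer ?_)⟩
  · rw [← hCy]
    exact mem_centralizer_singleton_iff.2
      (Commute.pow_right (show Commute a v from mem_centralizer_singleton_iff.1 ha) _).eq
  · rw [← hCy, mem_centralizer_singleton_iff]
    exact ((Commute.refl v).pow_right _).eq

/-- The centralizer of an element of the torus of order `(q-1)/2`. -/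
theorem cent_n {v : K} (hv : v ≠ 1) (hvn : orderOf v ∣ n) :
    ∃ w : K, orderOf w = n ∧ centralizer ({v} : Set K) = zpowers w ∧
      Nat.card (normalizer (zpowers v : Set K)) = 2 * n ∧
      ∃ u : K, orderOf u = 2 ∧ ∀ a ∈ zpowers w, u * a * u⁻¹ = a⁻¹ := by
  obtain ⟨r, hr, hrd⟩ := Nat.exists_prime_and_dvd (mt orderOf_eq_one_iff.1 hv)
  haveI := Fact.mk hr
  have hrn : r ∣ n := hrd.trans hvn
  set y := v ^ (orderOf v / r) with hy
  have hyo : orderOf y = r := orderOf_pow_orderOf_div (orderOf_pos v).ne' hrd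
  obtain ⟨w₀, hw₀⟩ := h.data.exO
  obtain ⟨P, hP⟩ := (IsPGroup.of_card (G := zpowers y) (p := r) (n := 1)
    (by rw [Nat.card_zpowers, hyo, pow_one])).exists_le_sylow
  obtain ⟨w, hw, hPw⟩ := PSLSpectrum.exists_gen (u := w₀) (k := q * (2 * (2 * m)))
    (by rw [h.card, hw₀]; ring) (h.data.not_dvd_compl_O hr hrn) P
  rw [hw₀] at hw
  obtain ⟨hCP, hNP, -⟩ := h.data.torus_O hrn P hw hPw
  have hyw : y ∈ zpowers w := hPw (hP (mem_zpowers y))
  have hCy := h.data.cent_eq_O hr hrn hw hyo hyw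
  have hvw : v ∈ zpowers w := by
    rw [← hCy, mem_centralizer_singleton_iff]
    exact ((Commute.refl v).pow_right _).eq
  have hCv : centralizer ({v} : Set K) = zpowers w := by
    refine le_antisymm (fun a ha => ?_) (PSLSpectrum.zpowers_le_centralizer hvw)
    rw [← hCy]
    exact mem_centralizer_singleton_iff.2
      (Commute.pow_right (show Commute a v from mem_centralizer_singleton_iff.1 ha) _).eq
  have hN : normalizer (zpowers v : Set K) = normalizer ((P : Subgroup K) : Set K) := by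
    refine le_antisymm ?_ ?_
    · refine le_trans PSLSpectrum.normalizer_le_normalizer_centralizer ?_
      rw [hCv]
      exact PSLSpectrum.normalizer_zpowers_le hPw
    · refine le_trans (Coprime.normalizer_le_normalizer_centralizer _) ?_
      rw [hCP]
      exact PSLSpectrum.normalizer_zpowers_le (zpowers_le.2 hvw)
  refine ⟨w, hw, hCv, hN ▸ hNP, ?_⟩
  haveI : Fact (Nat.Prime 2) := ⟨Nat.prime_two⟩
  obtain ⟨⟨u, hu⟩, huo⟩ := exists_prime_orderOf_dvd_card'
    (G := normalizer (zpowers v : Set K)) 2 (by rw [hN, hNP]; exact dvd_mul_right _ _)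
  rw [orderOf_mk] at huo
  have hun : ∀ a ∈ zpowers w, u * a * u⁻¹ ∈ zpowers w := fun a ha => by
    have := PSLSpectrum.normalizer_le_normalizer_centralizer hu
    rw [hCv] at this
    exact (mem_normalizer_iff.1 this a).1 ha
  refine ⟨u, huo, inverts_of_no_fixed (fun a ha b hb => ?_) hun (fun a _ => ?_)
    fun a ha hc => ?_⟩
  · obtain ⟨i, rfl⟩ := mem_zpowers_iff.1 ha
    obtain ⟨j, rfl⟩ := mem_zpowers_iff.1 hb
    exact ((Commute.refl w).zpow_zpow i j).eq
  · rw [show u * u = 1 by rw [← pow_two, ← huo, pow_orderOf_eq_one], one_mul, mul_one]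
  · by_contra ha1
    obtain ⟨s, hs, hsd⟩ := Nat.exists_prime_and_dvd (mt orderOf_eq_one_iff.1 ha1)
    have han : orderOf a ∣ n := by
      rw [← hw, ← Nat.card_zpowers w]
      exact Subgroup.orderOf_dvd_natCard _ ha
    have h1 := h.data.cent_eq_O hs (hsd.trans han) hw
      (orderOf_pow_orderOf_div (orderOf_pos a).ne' hsd) (pow_mem ha _)
    have huw : u ∈ zpowers w :=
      h1 ▸ mem_centralizer_singleton_iff.2 ((show Commute u a from hc).pow_right _).eq
    have h2 : orderOf u ∣ n := by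
      rw [← hw, ← Nat.card_zpowers w]
      exact Subgroup.orderOf_dvd_natCard _ huw
    exact h.data.two_not_mo (huo ▸ h2)

end Facts

/-- The facts hold for `PSL(2, q)`. -/
theorem Kit.facts {K : Type*} [Group K] [Finite K] {q m n : ℕ} (h : Kit K q m n) :
    ∃ p, Facts K p q m n := by
  classical
  obtain ⟨F, _, _, hF, ⟨e⟩⟩ := h.iso
  obtain ⟨p, hp⟩ := CharP.exists F
  obtain ⟨f, hpp, hf⟩ := FiniteField.card F p
  haveI : Fact p.Prime := ⟨hpp⟩
  have hm := h.hm
  have hn := h.hn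
  have h5 := h.five_lt
  have hq : q = p ^ (f : ℕ) := hF ▸ hf
  have hp2 : p ≠ 2 := by
    rintro rfl
    have : 2 ∣ q := hq ▸ dvd_pow_self 2 f.pos.ne'
    omega
  have hg : Nat.gcd 2 (Fintype.card F - 1) = 2 := Nat.gcd_eq_left (by rw [hF]; omega)
  have hcard : 2 * Nat.card K = q * ((q - 1) * (q + 1)) := by
    have := CfsgLib.Classical.card_psl2 (F := F)
    rw [hg, hF, ← Nat.card_congr e.toEquiv] at this
    exact this
  have hspec : ∀ j : ℕ, (∃ g : K, orderOf g = j) ↔ (j ∣ p ∨ j ∣ (q - 1) / 2 ∨ j ∣ (q + 1) / 2) := by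
    intro j
    have h1 := CfsgLib.Classical.PSL2Spectrum.mem_range_orderOf (F := F) p (by omega) j
    rw [hg, hF] at h1
    rw [← h1, Set.mem_range]
    exact ⟨fun ⟨g, hg'⟩ => ⟨e g, by rw [MulEquiv.orderOf_eq, hg']⟩,
      fun ⟨g, hg'⟩ => ⟨e.symm g, by rw [MulEquiv.orderOf_eq, hg']⟩⟩
  obtain ⟨me, mo, hd⟩ := PSLSpectrum.data_of_odd (G := K) hpp hp2
    ⟨f, f.pos, hq⟩ (by omega) (Nat.odd_iff.2 (by omega)) hcard hspec
  have hdata : PSLSpectrum.Data K p q (2 * m) n := by
    have hn2 : ¬ 2 ∣ n := by have := Nat.odd_iff.1 h.m_odd; omega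
    have hprod : mo * me = n * (2 * m) := by
      have h6 : 2 * Nat.card K = 2 * (q * mo * (2 * me)) := by rw [hd.card]
      rw [hcard, show q - 1 = 4 * m by omega, hn] at h6
      exact Nat.eq_of_mul_eq_mul_left (show 0 < 4 * q by omega) (by linarith)
    obtain ⟨g₁, hg₁⟩ := hd.exE
    obtain ⟨g₂, hg₂⟩ := hd.exO
    have ho₁ := (hspec me).1 ⟨g₁, hg₁⟩
    have ho₂ := (hspec mo).1 ⟨g₂, hg₂⟩
    rw [show (q - 1) / 2 = 2 * m by omega, show (q + 1) / 2 = n by omega] at ho₁ ho₂
    have hme : me ∣ 2 * m := by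
      rcases ho₁ with h' | h' | h'
      · exfalso
        rcases (Nat.dvd_prime hpp).1 h' with h'' | h''
        · exact absurd hd.me_even (by rw [h'']; decide)
        · exact hp2 (hpp.even_iff.1 (h'' ▸ hd.me_even))
      · exact h'
      · exact absurd ((even_iff_two_dvd.1 hd.me_even).trans h') hn2
    have hmo : mo ∣ n := by
      rcases ho₂ with h' | h' | h'
      · exfalso
        rcases (Nat.dvd_prime hpp).1 h' with h'' | h''
        · exact absurd h'' hd.one_lt.ne'
        · exact hd.p_not_mo (h'' ▸ dvd_rfl)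
      · exfalso
        have h4 := Nat.le_of_dvd (by have := Nat.odd_iff.1 h.m_odd; omega)
          (hd.cop.symm.mul_dvd_of_dvd_of_dvd h' hme)
        have : 2 ≤ n := by omega
        nlinarith
      · exact h'
    obtain ⟨a, ha⟩ := hmo
    obtain ⟨b, hb⟩ := hme
    have hab : a * b = 1 := by
      have hme0 : 0 < me := Nat.pos_of_ne_zero fun e0 => by
        have h0 : n * (2 * m) = 0 := by rw [← hprod, e0, mul_zero]
        have := Nat.odd_iff.1 h.m_odd
        rcases Nat.mul_eq_zero.1 h0 with h' | h' <;> omega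
      refine Nat.eq_of_mul_eq_mul_left (Nat.mul_pos hd.mo_odd.pos hme0) ?_
      rw [mul_one]
      conv_rhs => rw [hprod, ha, hb]
      ring
    rw [Nat.eq_one_of_mul_eq_one_right hab, mul_one] at ha
    rw [Nat.eq_one_of_mul_eq_one_left hab, mul_one] at hb
    exact hb ▸ ha ▸ hd
  refine ⟨p, hdata, fun x y hx hy => ?_, fun P a ha b hb => ?_, hm, hn, h.m_odd, h5⟩
  · have := OddProdPSL.isConj_of_invol (F := F) (x := e x) (y := e y)
      (by rw [MulEquiv.orderOf_eq, hx]) (by rw [MulEquiv.orderOf_eq, hy])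
    simpa using e.symm.toMonoidHom.map_isConj this
  · -- the image of the unitriangular group is a Sylow subgroup
    open CfsgLib.PSL2Two CfsgLib.Char in
    let f : Multiplicative F →* K :=
      { toFun := fun x => e.symm (π (TwoChars.elS (1 : Fˣ) (Multiplicative.toAdd x)))
        map_one' := by rw [toAdd_one, TwoChars.elS_one_zero, map_one, map_one]
        map_mul' := fun x y => by
          rw [← map_mul, ← map_mul, TwoChars.elS_mul, toAdd_mul]
          simp [add_comm] }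
    have hinj : Function.Injective f := by
      rw [injective_iff_map_eq_one]
      intro x hx
      have h1 := e.symm.injective (hx.trans (map_one e.symm).symm)
      open CfsgLib.PSL2Two CfsgLib.Char in
      rcases π_eq_one_iff.1 h1 with h2 | h2 <;>
        simpa [TwoChars.elS_val] using congrFun (congrFun h2 0) 1
    have hU : Nat.card f.range = p ^ (Nat.card K).factorization p := by
      rw [← Nat.card_congr (MonoidHom.ofInjective hinj).toEquiv, Nat.card_congr Multiplicative.toAdd,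
        Nat.card_eq_fintype_card, hF]
      have h3 : ¬ p ∣ 2 * (n * (2 * m)) := by
        intro hd'
        rcases hpp.dvd_mul.1 hd' with h' | h'
        · exact hp2 ((Nat.prime_dvd_prime_iff_eq hpp Nat.prime_two).1 h')
        · exact (hpp.dvd_mul.1 h').elim hdata.p_not_mo hdata.p_not_me
      have hK : Nat.card K = q * (2 * (n * (2 * m))) := by rw [hdata.card]; ring
      rw [hK, Nat.factorization_mul (by omega) (fun h0 => h3 (by rw [h0]; exact dvd_zero p)),
        Finsupp.add_apply, Nat.factorization_eq_zero_of_not_dvd h3, hq,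
        Nat.Prime.factorization_pow hpp, Finsupp.single_eq_same, add_zero]
    obtain ⟨g, hg⟩ := MulAction.exists_smul_eq K (Sylow.ofCard f.range hU) P
    rw [← hg, Sylow.coe_subgroup_smul] at ha hb
    obtain ⟨_, hx1, rfl⟩ := ha
    obtain ⟨_, hy1, rfl⟩ := hb
    obtain ⟨x, rfl⟩ := (show _ ∈ f.range from hx1)
    obtain ⟨y, rfl⟩ := (show _ ∈ f.range from hy1)
    show MulAut.conj g (f x) * MulAut.conj g (f y) = MulAut.conj g (f y) * MulAut.conj g (f x)
    rw [← map_mul, ← map_mul, ← map_mul, ← map_mul, mul_comm x y]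

end CfsgLib.ReeType.Five
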