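import Cfsg.Agent.Lib.Ree.Five.Row

/-!
# The functions `F_φ = Ind (σ (φ - 1))`
-/

set_option autoImplicit false
set_option linter.unusedSectionVars false

namespace CfsgLib.ReeType.Five

open scoped ComplexConjugate
open Subgroup Cfsg CfsgLib.Char CfsgLib.Char.Signed
open CfsgLib.ReeType.Setup (OddSupp)

universe u

attribute [local instance] _root_.Classical.propDecidable

variable {G : Type u} [Group G] [Fintype G] {q m n : ℕ}

theorem qfun_classConst (i : G) {v : G → ℂ} :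
    classInner v (fun x => (classConst i i x : ℂ)) =
      (Nat.card {x : G // IsConj i x} : ℂ) ^ 2 / (Nat.card G : ℂ) * qfun i v := by
  have := Fintype.ofFinite (IrrCharacter G)
  have hre : ∀ x, conj ((classConst i i x : ℂ)) = (classConst i i x : ℂ) := fun x => map_natCast _ _
  simp only [classInner, hre]
  simp only [classConst_formula, qfun, finsum_eq_sum_of_fintype, classInner, Finset.mul_sum,
    Finset.sum_mul, Finset.sum_div]
  rw [Finset.sum_comm]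
  refine Finset.sum_congr rfl fun χ _ => Finset.sum_congr rfl fun x _ => ?_
  ring

namespace Ctx

variable {T : Setup G q m n} (C : Ctx T)

theorem conj_t_tau {χ : G → ℂ} (hχ : IsClassFunction G χ) (b : C.F.A) :
    χ (C.X.u * ((b : T.K) : G)) = χ (T.t * ((C.cA (C.cA b) : T.K) : G)) ∧
    χ (T.t * C.X.u * ((b : T.K) : G)) = χ (T.t * ((C.cA b : T.K) : G)) := by
  have h1 : C.X.τ * (T.t * C.X.u * ((b : T.K) : G)) * C.X.τ⁻¹ =
      T.t * ((C.cA b : T.K) : G) := by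
    rw [← conj_mul, C.tau_tu]; rfl
  refine ⟨?_, by rw [← h1]; exact (hχ _ _).symm⟩
  rw [← hχ (C.X.u * ((b : T.K) : G)) (C.X.τ * C.X.τ)]
  congr 1
  calc C.X.τ * C.X.τ * (C.X.u * ((b : T.K) : G)) * (C.X.τ * C.X.τ)⁻¹
      = C.X.τ * ((C.X.τ * C.X.u * C.X.τ⁻¹) * (C.X.τ * ((b : T.K) : G) * C.X.τ⁻¹)) * C.X.τ⁻¹ := by
        group
    _ = (C.X.τ * (T.t * C.X.u) * C.X.τ⁻¹) *
          (C.X.τ * (C.X.τ * ((b : T.K) : G) * C.X.τ⁻¹) * C.X.τ⁻¹) := by rw [C.X.τ_u]; group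
    _ = _ := by rw [C.tau_tu]; rfl

/-- The inner product of `aInd φ` with a class function. -/
theorem inner_aInd [Fintype C.F.A] (φ : C.F.A →* ℂˣ) {χ : G → ℂ} (hχ : IsClassFunction G χ) :
    classInner (C.aInd φ) χ = (4 * (m : ℂ))⁻¹ * ∑ b : C.F.A, (φ b : ℂ) *
      (conj (χ ((b : T.K) : G)) + conj (χ (T.t * ((b : T.K) : G))) -
        conj (χ (T.t * ((C.cA (C.cA b) : T.K) : G))) - conj (χ (T.t * ((C.cA b : T.K) : G)))) := by
  rw [aInd, classInner_indFun _ _ _ hχ]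
  simp only [classInner]
  rw [C.sum_D, C.card_D]
  push_cast
  congr 1
  refine Finset.sum_congr rfl fun b _ => ?_
  obtain ⟨h0, h1, h2, h3⟩ := C.sigma_vals b
  obtain ⟨k1, k2⟩ := C.conj_t_tau hχ b
  simp only [lc_apply, MonoidHom.mul_apply, Units.val_mul, hat, MonoidHom.comp_apply,
    (C.dmk_pow _ _ b).2, h0, h1, h2, h3]
  rw [← k1, ← k2]
  show _ * conj (χ (1 * ((b : T.K) : G))) + _ * conj (χ (T.t * ((b : T.K) : G))) +
    _ * conj (χ (C.X.u * ((b : T.K) : G))) + _ * conj (χ (T.t * C.X.u * ((b : T.K) : G))) = _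
  rw [one_mul ((b : T.K) : G)]
  ring

/-- The function. -/
noncomputable def Fd (φ : C.F.A →* ℂˣ) : G → ℂ := C.aInd φ - C.aInd 1

theorem gen_Fd (φ : C.F.A →* ℂˣ) : Gen (C.Fd φ) :=
  isGeneralizedCharacter_sub (C.gen_aInd φ) (C.gen_aInd 1)

theorem Fd_one (φ : C.F.A →* ℂˣ) : C.Fd φ 1 = 0 := by
  simp [Fd, aInd, indFun_one, lc_apply]

theorem inner_Fd [Fintype C.F.A] (φ : C.F.A →* ℂˣ) {χ : G → ℂ} (hχ : IsClassFunction G χ) :
    classInner (C.Fd φ) χ = (4 * (m : ℂ))⁻¹ * ∑ b : C.F.A, ((φ b : ℂ) - 1) *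
      (conj (χ ((b : T.K) : G)) + conj (χ (T.t * ((b : T.K) : G))) -
        conj (χ (T.t * ((C.cA (C.cA b) : T.K) : G))) - conj (χ (T.t * ((C.cA b : T.K) : G)))) := by
  rw [Fd, classInner_sub_left, C.inner_aInd φ hχ, C.inner_aInd 1 hχ, ← mul_sub,
    ← Finset.sum_sub_distrib]
  congr 1
  refine Finset.sum_congr rfl fun b _ => ?_
  simp only [MonoidHom.one_apply, Units.val_one]
  ring

theorem Fd_one_inner (φ : C.F.A →* ℂˣ) : iq (C.Fd φ) (fun _ => 1) = 0 := iq_eq _ (by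
  let _ := Fintype.ofFinite C.F.A
  rw [C.inner_Fd φ (fun _ _ => rfl), Finset.sum_eq_zero fun b _ => by simp, mul_zero, Int.cast_zero])

theorem odd_A (b : C.F.A) : Odd (orderOf (b : T.K)) := by
  exact C.facts.m_odd.of_dvd_nat ((Subgroup.orderOf_dvd_natCard _ b.2).trans C.F.card_A.dvd)

theorem Fd_lift [Fintype C.F.A] (φ : C.F.A →* ℂˣ) {f : T.K → ℂ} (hf : OddSupp f)
    (hc : IsClassFunction T.K f) :
    classInner (C.Fd φ) (T.lift f) = (2 : ℂ)⁻¹ *
      ((classInner (lc φ) (fun b : C.F.A => f b) - classInner (lc (φ.comp C.cA)) (fun b : C.F.A => f b)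
        - classInner (lc ((φ.comp C.cA).comp C.cA)) (fun b : C.F.A => f b)) +
        classInner (lc (1 : C.F.A →* ℂˣ)) (fun b : C.F.A => f b)) := by
  rw [C.inner_Fd φ (T.isClassFunction_lift f)]
  have h0 : ∀ b : C.F.A, T.lift f ((b : T.K) : G) = 0 := fun b =>
    T.lift_odd hf (by rw [Subgroup.orderOf_coe]; exact C.odd_A b)
  simp only [h0, T.lift_tx hf hc (C.odd_A _), map_zero, map_mul, map_ofNat, zero_add]
  simp only [classInner, lc_apply, C.F.card_A, MonoidHom.one_apply, Units.val_one,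
    MonoidHom.comp_apply, one_mul]
  have hb : Function.Bijective C.cA := by
    rw [← Finite.injective_iff_bijective]
    exact fun a b e => by rw [← C.cA_cube a, e, C.cA_cube]
  have s1 : ∀ g : C.F.A → ℂ, ∑ b, g (C.cA b) = ∑ b, g b := fun g =>
    Fintype.sum_bijective _ hb _ _ fun _ => rfl
  have e1 : ∑ b : C.F.A, ((φ b : ℂ) - 1) * conj (f ((C.cA b : C.F.A) : T.K)) =
      ∑ b : C.F.A, ((φ (C.cA (C.cA b)) : ℂ) - 1) * conj (f ((b : C.F.A) : T.K)) := by
    rw [← s1 fun b => ((φ (C.cA (C.cA b)) : ℂ) - 1) * conj (f ((b : C.F.A) : T.K))]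
    simp only [C.cA_cube]
  have e2 : ∑ b : C.F.A, ((φ b : ℂ) - 1) * conj (f ((C.cA (C.cA b) : C.F.A) : T.K)) =
      ∑ b : C.F.A, ((φ (C.cA b) : ℂ) - 1) * conj (f ((b : C.F.A) : T.K)) := by
    rw [← s1 fun b => ((φ (C.cA b) : ℂ) - 1) * conj (f ((b : C.F.A) : T.K)),
      ← s1 fun b => ((φ (C.cA (C.cA b)) : ℂ) - 1) * conj (f ((C.cA b : C.F.A) : T.K))]
    simp only [C.cA_cube]
  simp only [mul_sub, Finset.sum_sub_distrib, mul_left_comm _ (2 : ℂ), ← Finset.mul_sum]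
  rw [e1, e2]
  simp only [sub_mul, Finset.sum_sub_distrib, one_mul]
  rw [mul_inv]
  ring

theorem P_on_A (θ φ : C.F.A →* ℂˣ) [Fintype C.F.A] :
    classInner (lc φ) (fun b : C.F.A => C.F.P C.Ψ θ b) =
      (2 * ((q : ℂ) ^ 2 - 1) - (4 * (q : ℂ) * n - 4)) / m -
        2 * ((if φ = θ then 1 else 0) + (if φ = θ⁻¹ then 1 else 0)) := by
  have e : (fun b : C.F.A => C.F.P C.Ψ θ b) = (2 : ℂ) • (fun b : C.F.A => C.F.Xi C.Ψ b) -
      (fun b : C.F.A => indFun C.F.A (lc θ) (b : T.K)) := rfl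
  rw [e, C.F.Xi_restrict_of C.Ψ C.facts (Or.inl rfl), C.F.iA_restrict_A C.facts,
    classInner_sub_right, classInner_add_right, classInner_smul_right, classInner_smul_right,
    classInner_smul_right, classInner_smul_right, classInner_add_right, classInner_lc_oneAt,
    classInner_lc', classInner_lc', C.F.card_A, map_sub, map_sub, map_mul, map_mul, map_pow,
    map_natCast, map_natCast, map_ofNat, map_ofNat, map_one]
  ring

theorem Fd_LP [Fintype C.F.A] (φ θ : C.F.A →* ℂˣ) :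
    classInner (C.Fd φ) (C.LP θ) =
      -(((if φ = θ then 1 else 0) + (if φ = θ⁻¹ then 1 else 0)) -
        ((if φ.comp C.cA = θ then 1 else 0) + (if φ.comp C.cA = θ⁻¹ then 1 else 0)) -
        ((if (φ.comp C.cA).comp C.cA = θ then 1 else 0) +
          (if (φ.comp C.cA).comp C.cA = θ⁻¹ then 1 else 0)) +
        ((if (1 : C.F.A →* ℂˣ) = θ then 1 else 0) + (if (1 : C.F.A →* ℂˣ) = θ⁻¹ then 1 else 0))) := by
  rw [LP, C.Fd_lift φ (C.F.P_oddSupp C.Ψ C.facts θ) (C.F.P_classFun C.Ψ θ)]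
  simp only [C.P_on_A]
  ring

theorem Fd_LM (φ : C.F.A →* ℂˣ) : iq (C.Fd φ) C.LM = 0 := iq_eq _ (by
  let _ := Fintype.ofFinite C.F.A
  have e : (fun b : C.F.A => C.F.Q C.Ψ 1 b) =
      (fun b : C.F.A => indFun C.F.L (lc 1) (b : T.K)) - (fun b : C.F.A => C.F.Xi C.Ψ b) := rfl
  rw [LM, LQ, C.Fd_lift φ (C.F.Q_oddSupp C.Ψ C.facts 1) (C.F.Q_classFun C.Ψ 1), e,
    C.F.Xi_restrict_of C.Ψ C.facts (Or.inl rfl), C.F.iL_restrict_of C.facts (Or.inr rfl)]
  simp only [classInner_sub_right, classInner_smul_right, classInner_lc_oneAt]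
  simp)

theorem Fd_LX {φ : C.F.A →* ℂˣ} (hφ : φ ≠ 1) (i : Fin 2) : iq (C.Fd φ) (C.LX i) = 1 := by
  let _ := Fintype.ofFinite C.F.A
  refine iq_eq _ ?_
  have hA := C.F.Dl_restrict_of C.Ψ C.facts (Y := C.F.A) (Or.inl rfl)
  have hD : classInner (C.Fd φ) (T.lift (C.F.Dl C.Ψ)) = 0 := by
    have ho : OddSupp (C.F.Dl C.Ψ) := fun x hx => by
      simp [Frame.Dl, C.F.Ep_oddSupp C.facts _ x hx]
    rw [C.Fd_lift φ ho (C.F.Dl_classFun C.Ψ), hA]
    simp [classInner]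
  have hM : classInner (C.Fd φ) (T.lift (C.F.Q C.Ψ 1)) = 0 := by
    have h := iq_spec (C.gen_Fd φ) C.gen_LM
    rw [C.Fd_LM φ, Int.cast_zero] at h
    exact h
  have hP : classInner (C.Fd φ) (T.lift (C.F.P C.Ψ 1)) = -2 := by
    have h := C.Fd_LP φ 1
    have h1 : φ.comp C.cA ≠ 1 := C.comp_ne_one hφ
    have h2 : (φ.comp C.cA).comp C.cA ≠ 1 := C.comp_ne_one h1
    rw [LP, homOneInv, if_neg hφ, if_neg h1, if_neg h2, if_pos rfl] at h
    rw [h]; norm_num
  rw [LX, C.F.fX_eq C.Ψ C.facts, T.lift_add, T.lift_smul, T.lift_smul, T.lift_add,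
    classInner_add_right, classInner_smul_right, classInner_smul_right, classInner_add_right, hD, hM,
    hP, map_div₀, map_neg, map_one, map_ofNat]
  norm_num

theorem x_sq : C.X.x * C.X.x = 1 := Invol.invol_mul_self C.X.order_x

theorem x_t : Commute C.X.x T.t := by
  have h := T.comm_t _ C.X.x_mem
  show C.X.x * T.t = T.t * C.X.x
  have h' : T.t * C.X.x * T.t = T.t * (T.t * C.X.x) := h.eq
  rw [mul_assoc] at h'
  exact mul_left_cancel h'

theorem x_conj (g : C.D) : C.X.x * (g : G) * C.X.x⁻¹ = (g : G)⁻¹ := by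
  obtain ⟨e, c, he, hc, hg, hec⟩ := C.D_form g
  obtain ⟨i, rfl⟩ := mem_zpowers_iff.1 hc
  have hxe : Commute C.X.x e := by
    rcases he with rfl | rfl | rfl | rfl
    exacts [Commute.one_right _, C.x_t, C.X.x_u, C.x_t.mul_right C.X.x_u]
  rw [hg, ← conj_mul, hxe.eq, mul_inv_cancel_right, ← conj_zpow, C.X.x_a, inv_zpow,
    mul_inv_rev, inv_eq_of_mul_eq_one_right (C.isV_sq he)]
  exact hec.inv_right.eq

theorem x_not_mem : C.X.x ∉ C.D := fun h => by
  have h1 : C.X.x * C.X.a * C.X.x⁻¹ = C.X.a := by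
    rw [mem_centralizer_singleton_iff.1 h, mul_inv_cancel_right]
  rw [C.X.x_a] at h1
  have h2 : C.X.a ^ 2 = 1 := by rw [pow_two]; nth_rw 1 [← h1]; exact inv_mul_cancel _
  have h3 := orderOf_dvd_of_pow_eq_one h2
  rw [C.X.order_a] at h3
  have := Nat.le_of_dvd two_pos h3
  have := C.m_ge
  omega

theorem x_mul_sq (g : C.D) : C.X.x * (g : G) * (C.X.x * g) = 1 := by
  calc C.X.x * (g : G) * (C.X.x * g) = C.X.x * (g : G) * C.X.x⁻¹ * (C.X.x * C.X.x) * g := by group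
    _ = 1 := by rw [C.x_conj, C.x_sq, mul_one, inv_mul_cancel]

/-- An element mapping a nontrivial element of the torus into the torus and centralising `t`. -/
theorem mem_or_of_commute {h : G} (ht : Commute h T.t) {b : C.F.A} (hb : b ≠ 1)
    (hm : h * ((b : T.K) : G) * h⁻¹ ∈ zpowers C.X.a) : h ∈ C.D ∨ C.X.x * h ∈ C.D := by
  have hb1 : ((b : T.K) : G) ≠ 1 := fun e => hb (Subtype.ext (Subtype.ext e))
  have hbz := (C.hA _).1 b.2
  obtain ⟨k, hk⟩ : ∃ k : T.K, (k : G) * ((b : T.K) : G) * (k : G)⁻¹ =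
      h * ((b : T.K) : G) * h⁻¹ := by
    rcases T.mem_or h ht with hh | hh
    · exact ⟨⟨h, hh⟩, rfl⟩
    · refine ⟨⟨_, hh⟩, ?_⟩
      show T.t * h * ((b : T.K) : G) * (T.t * h)⁻¹ = _
      rw [show T.t * h * ((b : T.K) : G) * (T.t * h)⁻¹ = T.t * (h * ((b : T.K) : G) * h⁻¹) * T.t⁻¹
        by group]
      obtain ⟨j, hj⟩ := mem_zpowers_iff.1 hm
      rw [← hj, ((C.a_t.zpow_left j).symm).eq, mul_inv_cancel_right]
  have hkA : k * (b : T.K) * k⁻¹ ∈ C.F.A :=
    (C.hA _).2 (by push_cast; rw [hk]; exact hm)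
  have hbK : (b : T.K) ≠ 1 := fun e => hb (Subtype.ext e)
  have hkD := C.F.torus_A.fusion _ b.2 hbK k hkA
  have hcentD : ∀ g : G, Commute g ((b : T.K) : G) → g ∈ C.D := by
    intro g hg
    obtain ⟨e, he, c, hc, rfl⟩ := C.X.cent _ hbz hb1 g hg
    exact mul_mem (C.isV_mem he) (C.zpowers_le_D hc)
  by_cases hkH : k ∈ C.F.HA
  · refine Or.inl (hcentD h ?_)
    have e := congrArg Subtype.val ((C.F.torus_A.cent _ b.2 hbK k).2 hkH)
    push_cast at e
    rw [e, mul_inv_cancel_right] at hk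
    exact mul_inv_eq_iff_eq_mul.1 hk.symm
  · refine Or.inr (hcentD _ ?_)
    have e := congrArg Subtype.val (C.F.torus_A.inv k hkD hkH _ b.2)
    push_cast at e
    rw [e] at hk
    refine mul_inv_eq_iff_eq_mul.1 ?_
    rw [show C.X.x * h * ((b : T.K) : G) * (C.X.x * h)⁻¹ =
      C.X.x * (h * ((b : T.K) : G) * h⁻¹) * C.X.x⁻¹ by group, ← hk]
    have hx := C.x_conj ⟨_, C.zpowers_le_D (inv_mem hbz)⟩
    rw [hx, inv_inv]

/-- Representatives of the six cosets of `D` in its normalizer. -/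
def rep (z : Fin 3 × Bool) : G := (bif z.2 then C.X.x else 1) * ![1, C.X.τ, C.X.τ * C.X.τ] z.1

theorem isV_of_invol {g : G} (hg : g ∈ C.D) (h2 : g * g = 1) : C.IsV g := by
  have hv := (C.isV_pow ⟨g, hg⟩).1
  obtain ⟨j, hj⟩ := C.m_odd
  have e : g ^ m = g := by rw [hj, pow_succ, pow_mul, pow_two, h2, one_pow, one_mul]
  rwa [show (((⟨g, hg⟩ : C.D) : G)) = g from rfl, e] at hv

/-- The elements carrying a regular element of `D` into `D`. -/
theorem exists_rep {g : G} {d : C.D} (hd : C.projA d ≠ 1) (hm : g⁻¹ * (d : G) * g ∈ C.D) :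
    ∃ (c : C.D) (z : Fin 3 × Bool), g = (c : G) * C.rep z := by
  set b := C.projA d with hbdef
  have hbz := (C.hA _).1 b.2
  have hb1 : ((b : T.K) : G) ≠ 1 := fun e => hd (Subtype.ext (Subtype.ext e))
  have hbd : ((b : T.K) : G) = (d : G) ^ (m + 1) := rfl
  have himg : g⁻¹ * ((b : T.K) : G) * g ∈ zpowers C.X.a := by
    have h := (C.isV_pow ⟨_, hm⟩).2
    rw [show (((⟨g⁻¹ * (d : G) * g, hm⟩ : C.D) : G)) = g⁻¹ * (d : G) * g⁻¹⁻¹ by rw [inv_inv],
      conj_pow, inv_inv, ← hbd] at h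
    exact h
  have himg1 : g⁻¹ * ((b : T.K) : G) * g ≠ 1 := fun e =>
    hb1 (by rw [← conj_eq_one_iff (a := g⁻¹), inv_inv]; exact e)
  -- the image of `t`
  have hct : Commute (g⁻¹ * T.t * g) (g⁻¹ * ((b : T.K) : G) * g) := by
    have h : Commute T.t ((b : T.K) : G) := (T.comm_t _ (b : T.K).2).symm
    have h' := h.map (MulAut.conj g⁻¹)
    simp only [MulAut.conj_apply, inv_inv] at h'
    exact h'
  obtain ⟨e, he, c, hc, hec⟩ := C.X.cent _ himg himg1 _ hct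
  have hmem : g⁻¹ * T.t * g ∈ C.D := hec ▸ mul_mem (C.isV_mem he) (C.zpowers_le_D hc)
  have hV := C.isV_of_invol hmem (by
    calc g⁻¹ * T.t * g * (g⁻¹ * T.t * g) = g⁻¹ * (T.t * T.t) * g := by group
      _ = 1 := by rw [T.t_sq, mul_one, inv_mul_cancel])
  have h3 : C.X.τ * C.X.τ * C.X.τ = 1 := C.tau_cube
  obtain ⟨i, hi⟩ : ∃ i : Fin 3, ![1, C.X.τ, C.X.τ * C.X.τ] i * (g⁻¹ * T.t * g) *
      (![1, C.X.τ, C.X.τ * C.X.τ] i)⁻¹ = T.t := by
    rcases hV with h | h | h | h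
    · exact absurd (conj_eq_one_iff.1 (show g⁻¹ * T.t * g⁻¹⁻¹ = 1 by rw [inv_inv]; exact h))
        (Invol.invol_ne_one T.order_t)
    · exact ⟨0, by rw [h]; simp⟩
    · refine ⟨2, ?_⟩
      show C.X.τ * C.X.τ * (g⁻¹ * T.t * g) * (C.X.τ * C.X.τ)⁻¹ = T.t
      rw [h, show C.X.τ * C.X.τ * C.X.u * (C.X.τ * C.X.τ)⁻¹ =
        C.X.τ * (C.X.τ * C.X.u * C.X.τ⁻¹) * C.X.τ⁻¹ by group, C.X.τ_u, C.tau_tu]
    · exact ⟨1, by show C.X.τ * _ * C.X.τ⁻¹ = _; rw [h, C.tau_tu]⟩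
  set r := ![1, C.X.τ, C.X.τ * C.X.τ] i with hr
  have hrA : ∀ a ∈ zpowers C.X.a, r * a * r⁻¹ ∈ zpowers C.X.a := by
    intro a ha
    rw [hr]
    fin_cases i
    · show 1 * a * 1⁻¹ ∈ _; rwa [one_mul, inv_one, mul_one]
    · exact C.tau_conj_A ha
    · show C.X.τ * C.X.τ * a * (C.X.τ * C.X.τ)⁻¹ ∈ _
      rw [show C.X.τ * C.X.τ * a * (C.X.τ * C.X.τ)⁻¹ = C.X.τ * (C.X.τ * a * C.X.τ⁻¹) * C.X.τ⁻¹ by group]
      exact C.tau_conj_A (C.tau_conj_A ha)
  have hcomm : Commute (r * g⁻¹) T.t := by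
    refine mul_inv_eq_iff_eq_mul.1 ?_
    calc r * g⁻¹ * T.t * (r * g⁻¹)⁻¹ = r * (g⁻¹ * T.t * g) * r⁻¹ := by group
      _ = T.t := hi
  rcases C.mem_or_of_commute hcomm hd (by
    rw [show r * g⁻¹ * ((b : T.K) : G) * (r * g⁻¹)⁻¹ = r * (g⁻¹ * ((b : T.K) : G) * g) * r⁻¹ by group]
    exact hrA _ himg) with h | h
  · refine ⟨⟨_, inv_mem h⟩, (i, false), ?_⟩
    show g = (r * g⁻¹)⁻¹ * (1 * r)
    group
  · refine ⟨⟨_, inv_mem h⟩, (i, true), ?_⟩
    show g = (C.X.x * (r * g⁻¹))⁻¹ * (C.X.x * r)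
    group

theorem rep_inj {c c' : C.D} {z z' : Fin 3 × Bool} (e : (c : G) * C.rep z = (c' : G) * C.rep z') :
    c = c' ∧ z = z' := by
  have f1 : C.X.u ≠ T.t := C.t_ne_u.symm
  have f2 : T.t * C.X.u ≠ T.t := fun h => Invol.invol_ne_one C.X.order_u (mul_eq_left.1 h)
  have f3 : T.t * C.X.u ≠ C.X.u := fun h => Invol.invol_ne_one T.order_t (mul_eq_right.1 h)
  -- the image of `t`
  have him : ∀ (c : C.D) (z : Fin 3 × Bool), (C.rep z)⁻¹ * ((c : G)⁻¹ * T.t * c) * C.rep z =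
      ![T.t, T.t * C.X.u, C.X.u] z.1 := by
    intro c z
    obtain ⟨i, s⟩ := z
    have hc : (c : G)⁻¹ * T.t * c = T.t := by
      rw [mul_assoc, ← (mem_centralizer_singleton_iff.1 (C.D_le c.2)), inv_mul_cancel_left]
    have hs : ((bif s then C.X.x else 1) : G)⁻¹ * T.t * (bif s then C.X.x else 1) = T.t := by
      cases s
      · simp
      · simp only [cond_true]; rw [mul_assoc, ← C.x_t.eq, inv_mul_cancel_left]
    rw [hc]
    have key : ∀ r : G, ((bif s then C.X.x else 1) * r)⁻¹ * T.t * ((bif s then C.X.x else 1) * r) =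
        r⁻¹ * T.t * r := fun r => by
      rw [show ((bif s then C.X.x else 1) * r)⁻¹ * T.t * ((bif s then C.X.x else 1) * r) =
        r⁻¹ * (((bif s then C.X.x else 1) : G)⁻¹ * T.t * (bif s then C.X.x else 1)) * r by group, hs]
    rw [rep, key]
    fin_cases i
    · simp
    · show C.X.τ⁻¹ * T.t * C.X.τ = T.t * C.X.u
      calc C.X.τ⁻¹ * T.t * C.X.τ = C.X.τ⁻¹ * (C.X.τ * (T.t * C.X.u) * C.X.τ⁻¹) * C.X.τ := by
            rw [C.tau_tu]
        _ = T.t * C.X.u := by group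
    · show (C.X.τ * C.X.τ)⁻¹ * T.t * (C.X.τ * C.X.τ) = C.X.u
      rw [show (C.X.τ * C.X.τ)⁻¹ * T.t * (C.X.τ * C.X.τ) =
        C.X.τ⁻¹ * (C.X.τ⁻¹ * T.t * C.X.τ) * C.X.τ by group]
      rw [show C.X.τ⁻¹ * T.t * C.X.τ = T.t * C.X.u by
        calc C.X.τ⁻¹ * T.t * C.X.τ = C.X.τ⁻¹ * (C.X.τ * (T.t * C.X.u) * C.X.τ⁻¹) * C.X.τ := by
              rw [C.tau_tu]
          _ = T.t * C.X.u := by group, ← C.X.τ_u]
      group
  have hz : z.1 = z'.1 := by
    have h := him c z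
    rw [show (C.rep z)⁻¹ * ((c : G)⁻¹ * T.t * c) * C.rep z =
      ((c : G) * C.rep z)⁻¹ * T.t * ((c : G) * C.rep z) by group, e,
      show ((c' : G) * C.rep z')⁻¹ * T.t * ((c' : G) * C.rep z') =
        (C.rep z')⁻¹ * ((c' : G)⁻¹ * T.t * c') * C.rep z' by group, him c' z'] at h
    revert h
    generalize z.1 = i, z'.1 = j
    fin_cases i <;> fin_cases j <;> simp [f1, f1.symm, f2, f2.symm, f3, f3.symm]
  obtain ⟨i, s⟩ := z
  obtain ⟨i', s'⟩ := z'
  simp only at hz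
  subst hz
  simp only [rep, ← mul_assoc] at e
  have e' := mul_right_cancel e
  have hs : s = s' := by
    cases s <;> cases s' <;> simp only [cond_true, cond_false, mul_one] at e'
    · rfl
    · exact absurd (by rw [eq_inv_mul_of_mul_eq e'.symm]; exact mul_mem (inv_mem c'.2) c.2) C.x_not_mem
    · exact absurd (by rw [eq_inv_mul_of_mul_eq e']; exact mul_mem (inv_mem c.2) c'.2) C.x_not_mem
    · rfl
  subst hs
  exact ⟨Subtype.ext (mul_right_cancel e'), rfl⟩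

/-- The norm. -/
theorem Fd_Fd {φ : C.F.A →* ℂˣ} (hφ : φ ≠ 1) : iq (C.Fd φ) (C.Fd φ) = 3 := by
  let _ := Fintype.ofFinite C.F.A
  let _ := Fintype.ofFinite C.D
  refine iq_eq _ ?_
  set f : C.D → ℂ := lc (C.sigma * C.hat φ) - lc (C.sigma * C.hat 1) with hf
  have hF : C.Fd φ = indFun C.D f := by rw [hf, indFun_sub]; rfl
  have hfd : ∀ d : C.D, f d = (C.sigma d : ℂ) * ((φ (C.projA d) : ℂ) - 1) := fun d => by
    simp [hf, lc_apply, hat, mul_sub]
  have hm0 : (m : ℂ) ≠ 0 := by exact_mod_cast C.facts.m_pos.ne'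
  have hval : ∀ (e : G) (he : C.IsV e) (b : C.F.A), b ≠ 1 →
      indFun C.D f ((C.dmk e he b : C.D) : G) =
        (f (C.dmk e he b) + f (C.dmk e he b)⁻¹) +
        (f (C.cD (C.cD (C.dmk e he b))) + f (C.cD (C.cD (C.dmk e he b)⁻¹))) +
        (f (C.cD (C.dmk e he b)) + f (C.cD (C.dmk e he b)⁻¹)) := by
    intro e he b hb
    set d := C.dmk e he b with hd
    have hdb : C.projA d ≠ 1 := by rw [hd, (C.dmk_pow e he b).2]; exact hb
    rw [indFun]
    let Φ : C.D × (Fin 3 × Bool) → G := fun w => (w.1 : G) * C.rep w.2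
    have hΦ : Function.Injective Φ := fun w w' h => Prod.ext (C.rep_inj h).1 (C.rep_inj h).2
    rw [← Finset.sum_subset (Finset.subset_univ (Finset.univ.image Φ)) fun g _ hg => by
        refine extendByZero_not_mem _ _ fun hm => hg ?_
        obtain ⟨c, z, hcz⟩ := C.exists_rep hdb hm
        exact Finset.mem_image.2 ⟨(c, z), Finset.mem_univ _, hcz.symm⟩,
      Finset.sum_image fun a _ b _ h => hΦ h, Fintype.sum_prod_type]
    have hrow : ∀ c : C.D, ∑ z : Fin 3 × Bool,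
        extendByZero C.D f ((Φ (c, z))⁻¹ * (d : G) * Φ (c, z)) =
        (f d + f d⁻¹) + (f (C.cD (C.cD d)) + f (C.cD (C.cD d⁻¹))) +
          (f (C.cD d) + f (C.cD d⁻¹)) := by
      intro c
      have hc : ∀ r : G, ((c : G) * r)⁻¹ * (d : G) * ((c : G) * r) = r⁻¹ * (d : G) * r := fun r => by
        rw [show ((c : G) * r)⁻¹ * (d : G) * ((c : G) * r) = r⁻¹ * ((c : G)⁻¹ * ((d : G) * c)) * r
          by group, (C.D_comm d c).eq, inv_mul_cancel_left]
      have hx : C.X.x⁻¹ * (d : G) * C.X.x = ((d⁻¹ : C.D) : G) := by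
        rw [Invol.invol_inv C.X.order_x]
        nth_rw 2 [← Invol.invol_inv C.X.order_x]
        rw [C.x_conj]; rfl
      have h3 : C.X.τ⁻¹ = C.X.τ * C.X.τ := inv_eq_of_mul_eq_one_left C.tau_cube
      have e1 : ∀ d : C.D, C.X.τ⁻¹ * (d : G) * C.X.τ = ((C.cD (C.cD d) : C.D) : G) := fun d => by
        show _ = C.X.τ * (C.X.τ * (d : G) * C.X.τ⁻¹) * C.X.τ⁻¹
        rw [show C.X.τ * (C.X.τ * (d : G) * C.X.τ⁻¹) * C.X.τ⁻¹ =
          (C.X.τ * C.X.τ) * (d : G) * (C.X.τ * C.X.τ)⁻¹ by group, ← h3, inv_inv]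
      have e2 : ∀ d : C.D, (C.X.τ * C.X.τ)⁻¹ * (d : G) * (C.X.τ * C.X.τ) = ((C.cD d : C.D) : G) := by
        intro d
        rw [← h3, inv_inv]; rfl
      rw [Fintype.sum_prod_type, Fin.sum_univ_three]
      simp only [Fintype.sum_bool, Φ, hc, rep, cond_true, cond_false, one_mul]
      show extendByZero C.D f ((C.X.x * 1)⁻¹ * (d : G) * (C.X.x * 1)) +
        extendByZero C.D f ((1 : G)⁻¹ * (d : G) * 1) +
        (extendByZero C.D f ((C.X.x * C.X.τ)⁻¹ * (d : G) * (C.X.x * C.X.τ)) +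
          extendByZero C.D f (C.X.τ⁻¹ * (d : G) * C.X.τ)) +
        (extendByZero C.D f ((C.X.x * (C.X.τ * C.X.τ))⁻¹ * (d : G) * (C.X.x * (C.X.τ * C.X.τ))) +
          extendByZero C.D f ((C.X.τ * C.X.τ)⁻¹ * (d : G) * (C.X.τ * C.X.τ))) = _
      rw [mul_one C.X.x, hx, inv_one, one_mul, mul_one,
        show (C.X.x * C.X.τ)⁻¹ * (d : G) * (C.X.x * C.X.τ) =
          C.X.τ⁻¹ * (C.X.x⁻¹ * (d : G) * C.X.x) * C.X.τ by group,
        show (C.X.x * (C.X.τ * C.X.τ))⁻¹ * (d : G) * (C.X.x * (C.X.τ * C.X.τ)) =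
          (C.X.τ * C.X.τ)⁻¹ * (C.X.x⁻¹ * (d : G) * C.X.x) * (C.X.τ * C.X.τ) by group,
        hx, e1, e1, e2, e2]
      rw [extendByZero_mem C.D f d.2, extendByZero_mem C.D f (d⁻¹).2,
        extendByZero_mem C.D f (C.cD (C.cD d)).2, extendByZero_mem C.D f (C.cD (C.cD d⁻¹)).2,
        extendByZero_mem C.D f (C.cD d).2, extendByZero_mem C.D f (C.cD d⁻¹).2]
      simp only [Subtype.coe_eta]
      ring
    rw [Finset.sum_congr rfl fun c _ => hrow c, Finset.sum_const, Finset.card_univ,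
      ← Nat.card_eq_fintype_card, nsmul_eq_mul, ← mul_assoc,
      inv_mul_cancel₀ (by exact_mod_cast Nat.card_pos.ne'), one_mul]
  rw [hF, classInner_indFun _ _ _ (isClassFunction_indFun _ _)]
  simp only [classInner]
  rw [C.sum_D, C.card_D]
  have hterm : ∀ b : C.F.A,
      f (C.dmk 1 C.isV_one b) * conj (indFun C.D f ((C.dmk 1 C.isV_one b : C.D) : G)) +
        f (C.dmk T.t C.isV_t b) * conj (indFun C.D f ((C.dmk T.t C.isV_t b : C.D) : G)) +
        f (C.dmk C.X.u C.isV_u b) * conj (indFun C.D f ((C.dmk C.X.u C.isV_u b : C.D) : G)) +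
        f (C.dmk (T.t * C.X.u) C.isV_tu b) *
          conj (indFun C.D f ((C.dmk (T.t * C.X.u) C.isV_tu b : C.D) : G)) =
      4 * ((φ b : ℂ) - 1) * conj ((φ b : ℂ) + (φ⁻¹ b : ℂˣ) - 2) := by
    intro b
    rcases eq_or_ne b 1 with rfl | hb
    · simp [hfd, (C.dmk_pow _ _ (1 : C.F.A)).2]
    simp only [hval _ _ b hb, hfd, map_inv, C.projA_cD, (C.dmk_pow _ _ b).2, C.sigma_vals b,
      C.sigma_one_vals b, C.sigma_two_vals b, Units.val_inv_eq_inv_val, MonoidHom.inv_apply]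
    simp only [map_add, map_mul, map_sub, map_neg, map_inv₀, map_one, map_ofNat, inv_one, inv_neg]
    ring
  have hsum : classInner (lc φ - lc 1) (lc φ + lc φ⁻¹ - (2 : ℂ) • lc 1) = 3 := by
    simp only [classInner_sub_left, classInner_sub_right, classInner_add_right, classInner_smul_right,
      classInner_lc', if_pos, if_neg hφ, if_neg (Ne.symm hφ), if_neg (C.ne_inv hφ),
      if_neg (fun e : (1 : C.F.A →* ℂˣ) = φ⁻¹ => hφ (homInvOne.1 e.symm)), map_ofNat]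
    norm_num
  simp only [classInner, Pi.sub_apply, Pi.add_apply, Pi.smul_apply, lc_apply, MonoidHom.one_apply,
    Units.val_one, smul_eq_mul, mul_one, C.F.card_A] at hsum
  rw [Finset.sum_congr rfl fun b _ => hterm b, Finset.sum_congr rfl (g := fun b =>
    4 * (((φ b : ℂ) - 1) * conj ((φ b : ℂ) + (φ⁻¹ b : ℂˣ) - 2))) fun b _ => by ring, ← Finset.mul_sum]
  push_cast
  rw [← hsum, mul_inv]
  ring

/-- The value at `t`. -/
theorem Fd_t (φ : C.F.A →* ℂˣ) : C.Fd φ T.t = 0 := by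
  simp only [Fd, Pi.sub_apply, aInd, indFun, ← mul_sub, ← Finset.sum_sub_distrib]
  refine mul_eq_zero_of_right _ (Finset.sum_eq_zero fun g _ => ?_)
  by_cases hm : g⁻¹ * T.t * g ∈ C.D
  · rw [extendByZero_mem _ _ hm, extendByZero_mem _ _ hm]
    have hV := C.isV_of_invol hm (by
      calc g⁻¹ * T.t * g * (g⁻¹ * T.t * g) = g⁻¹ * (T.t * T.t) * g := by group
        _ = 1 := by rw [T.t_sq, mul_one, inv_mul_cancel])
    have hp : C.projA ⟨_, hm⟩ = 1 := by
      apply Subtype.ext; apply Subtype.ext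
      show (g⁻¹ * T.t * g) ^ (m + 1) = 1
      obtain ⟨j, hj⟩ := C.m_odd
      rw [show m + 1 = 2 * (j + 1) by omega, pow_mul, pow_two, C.isV_sq hV, one_pow]
    simp [lc_apply, hat, hp]
  · rw [extendByZero_not_mem _ _ hm, extendByZero_not_mem _ _ hm, sub_zero]

/-- The class algebra functional vanishes. -/
theorem qfun_Fd (φ : C.F.A →* ℂˣ) : qfun T.t (C.Fd φ) = 0 := by
  let _ := Fintype.ofFinite C.F.A
  have hI : (Nat.card {x : G // IsConj T.t x} : ℂ) ≠ 0 := by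
    have : Nonempty {x : G // IsConj T.t x} := ⟨⟨T.t, IsConj.refl _⟩⟩
    exact_mod_cast Nat.card_pos.ne'
  have h := qfun_classConst T.t (v := C.Fd φ)
  have hc : IsClassFunction G (fun x => (classConst T.t T.t x : ℂ)) := fun x g => by
    simp only [classConst_conj]
  have hval : ∀ d : C.D, C.projA d ≠ 1 → classConst T.t T.t (d : G) = Nat.card C.D := by
    intro d hd
    refine (Nat.card_congr (Equiv.ofBijective (fun g : C.D =>
      (⟨(C.X.x * g, C.X.x * (g * d : C.D)),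
        T.conj _ (orderOf_eq_prime (by rw [pow_two]; exact C.x_mul_sq g) fun e => C.x_not_mem
          (eq_inv_of_mul_eq_one_left e ▸ inv_mem g.2)),
        T.conj _ (orderOf_eq_prime (by rw [pow_two]; exact C.x_mul_sq _) fun e => C.x_not_mem
          (eq_inv_of_mul_eq_one_left e ▸ inv_mem (g * d).2)), by
        show C.X.x * (g : G) * (C.X.x * ((g * d : C.D) : G)) = d
        rw [Subgroup.coe_mul, ← mul_assoc C.X.x (g : G) (d : G), ← mul_assoc, C.x_mul_sq, one_mul]⟩ :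
        {p : G × G // IsConj T.t p.1 ∧ IsConj T.t p.2 ∧ p.1 * p.2 = (d : G)})) ⟨?_, ?_⟩)).symm
    · intro g g' e
      exact Subtype.ext (mul_left_cancel
        (congrArg (fun w : {p : G × G // IsConj T.t p.1 ∧ IsConj T.t p.2 ∧ p.1 * p.2 = (d : G)} =>
          w.1.1) e))
    · rintro ⟨⟨y, z⟩, hy, hz, hyz⟩
      obtain ⟨a, ha⟩ := isConj_iff.1 hy
      obtain ⟨a', ha'⟩ := isConj_iff.1 hz
      have hy2 : y * y = 1 := by
        have ha1 : a * T.t * a⁻¹ = y := ha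
        rw [← ha1]; exact Invol.invol_mul_self (Invol.invol_conj T.order_t a)
      have hz2 : z * z = 1 := by
        have ha1 : a' * T.t * a'⁻¹ = z := ha'
        rw [← ha1]; exact Invol.invol_mul_self (Invol.invol_conj T.order_t a')
      change y * z = d at hyz
      have hinv : y * (d : G) * y⁻¹ = (d : G)⁻¹ := by
        rw [← hyz, mul_inv_rev, inv_eq_of_mul_eq_one_right hy2, inv_eq_of_mul_eq_one_right hz2,
          ← mul_assoc, hy2, one_mul]
      have hb : y * ((C.projA d : T.K) : G) * y⁻¹ = ((C.projA d : T.K) : G)⁻¹ := by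
        show y * (d : G) ^ (m + 1) * y⁻¹ = ((d : G) ^ (m + 1))⁻¹
        rw [← conj_pow, hinv, inv_pow]
      have hbz := (C.hA _).1 (C.projA d).2
      have hxy : Commute (C.X.x * y) ((C.projA d : T.K) : G) := by
        refine mul_inv_eq_iff_eq_mul.1 ?_
        rw [show C.X.x * y * ((C.projA d : T.K) : G) * (C.X.x * y)⁻¹ =
          C.X.x * (y * ((C.projA d : T.K) : G) * y⁻¹) * C.X.x⁻¹ by group, hb,
          C.x_conj ⟨_, C.zpowers_le_D (inv_mem hbz)⟩, inv_inv]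
      obtain ⟨e, he, c, hc, hec⟩ := C.X.cent _ hbz
        (fun e => hd (Subtype.ext (Subtype.ext e))) _ hxy
      have hmem : C.X.x * y ∈ C.D := hec ▸ mul_mem (C.isV_mem he) (C.zpowers_le_D hc)
      have hxy' : C.X.x * (C.X.x * y) = y := by rw [← mul_assoc, C.x_sq, one_mul]
      refine ⟨⟨_, hmem⟩, Subtype.ext (Prod.ext hxy' ?_)⟩
      show C.X.x * (C.X.x * y * d) = z
      rw [← mul_assoc, hxy', ← hyz, ← mul_assoc, hy2, one_mul]
  rw [C.inner_Fd φ hc] at h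
  have hzero : ∑ b : C.F.A, ((φ b : ℂ) - 1) *
      (conj (classConst T.t T.t ((b : T.K) : G) : ℂ) +
        conj (classConst T.t T.t (T.t * ((b : T.K) : G)) : ℂ) -
        conj (classConst T.t T.t (T.t * ((C.cA (C.cA b) : T.K) : G)) : ℂ) -
        conj (classConst T.t T.t (T.t * ((C.cA b : T.K) : G)) : ℂ)) = 0 := by
    refine Finset.sum_eq_zero fun b _ => ?_
    rcases eq_or_ne b 1 with rfl | hb
    · simp
    have hb' : ∀ b : C.F.A, b ≠ 1 → classConst T.t T.t ((b : T.K) : G) = Nat.card C.D ∧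
        classConst T.t T.t (T.t * ((b : T.K) : G)) = Nat.card C.D := fun b hb =>
      ⟨by
        have := hval (C.dmk 1 C.isV_one b) (by rw [(C.dmk_pow _ _ b).2]; exact hb)
        rwa [show ((C.dmk 1 C.isV_one b : C.D) : G) = ((b : T.K) : G) from one_mul _] at this,
       hval (C.dmk T.t C.isV_t b) (by rw [(C.dmk_pow _ _ b).2]; exact hb)⟩
    have hc1 : C.cA b ≠ 1 := fun e => hb (by rw [← C.cA_cube b, e, map_one, map_one])
    have hc2 : C.cA (C.cA b) ≠ 1 := fun e => hb (by rw [← C.cA_cube b, e, map_one])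
    simp [(hb' b hb).1, (hb' b hb).2, (hb' _ hc1).2, (hb' _ hc2).2]
  rw [hzero, mul_zero] at h
  exact (mul_eq_zero.1 h.symm).resolve_left (div_ne_zero (pow_ne_zero _ hI)
    (by exact_mod_cast Nat.card_pos.ne'))

end Ctx

end CfsgLib.ReeType.Five
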