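import Cfsg.Agent.Lib.Ree.Five.KSum
import Cfsg.Agent.Lib.Ree.Tools

/-!
# The number of inverting involutions and its sums against the class functions
-/

set_option autoImplicit false
set_option linter.unusedSectionVars false

namespace CfsgLib.ReeType.Five

open scoped ComplexConjugate
open Subgroup Cfsg CfsgLib.Char
open CfsgLib.ReeType.KFrame (invCount)

universe u

attribute [local instance] _root_.Classical.propDecidable

variable {K : Type u} [Group K] [Fintype K] {p q m n : ℕ}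

theorem invCount_classFun' : IsClassFunction K invCount := by
  intro x g
  refine congrArg (fun a : ℕ => (a : ℂ)) (Nat.card_congr ?_)
  refine (MulAut.conj g).symm.toEquiv.subtypeEquiv fun w => ?_
  show _ ↔ orderOf ((MulAut.conj g).symm w) = 2 ∧ _
  rw [MulEquiv.orderOf_eq]
  refine and_congr_right fun _ => ?_
  show _ ↔ (MulAut.conj g).symm w * x * ((MulAut.conj g).symm w)⁻¹ = x⁻¹
  conv_rhs => rw [← (MulAut.conj g).injective.eq_iff, map_mul, map_mul, map_inv,
    MulEquiv.apply_symm_apply, map_inv, MulAut.conj_apply]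

theorem invCount_sum (f : K → ℂ) :
    ∑ x : K, f x * invCount x = (Nat.card K : ℂ) * classInner f invCount := by
  have hc : ∀ x : K, conj (invCount x) = invCount x := fun x => map_natCast _ _
  simp only [classInner, hc]
  rw [← mul_assoc, mul_inv_cancel₀ (by exact_mod_cast Nat.card_pos.ne'), one_mul]

theorem ne_inv_of_odd {x : K} (hx : x ≠ 1) {Y : Subgroup K} (hY : Odd (Nat.card Y)) (hxY : x ∈ Y) :
    x ≠ x⁻¹ := fun e => hx (orderOf_eq_one_iff.1 (Nat.eq_one_of_dvd_coprimes
    (Nat.coprime_two_left.2 hY)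
    (orderOf_dvd_of_pow_eq_one (by rw [pow_two]; nth_rw 2 [e]; exact mul_inv_cancel _))
    (Subgroup.orderOf_dvd_natCard _ hxY)))

/-- The involutions inverting an element of a torus. -/
theorem card_inverting {Y H D : Subgroup K} (T : ReeType.Torus Y H D)
    (hinv : ∀ g ∈ D, g ∉ H → orderOf g = 2) (hY : Odd (Nat.card Y)) {x : K} (hx : x ∈ Y) (hx1 : x ≠ 1) :
    Nat.card {w : K // orderOf w = 2 ∧ w * x * w⁻¹ = x⁻¹} = Nat.card H := by
  have hset : Nat.card {w : K // orderOf w = 2 ∧ w * x * w⁻¹ = x⁻¹} =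
      Nat.card {w : K // w ∈ D ∧ w ∉ H} := by
    refine Nat.card_congr (Equiv.subtypeEquivRight fun w => ⟨fun hw => ?_, fun hw => ?_⟩)
    · refine ⟨T.fusion _ hx hx1 w (by rw [hw.2]; exact inv_mem hx), fun hwH => ?_⟩
      have h1 := hw.2
      rw [(T.cent _ hx hx1 w).2 hwH, mul_inv_cancel_right] at h1
      exact ne_inv_of_odd hx1 hY hx h1
    · exact ⟨hinv w hw.1 hw.2, T.inv w hw.1 hw.2 _ hx⟩
  rw [hset, Nat.card_eq_fintype_card, Fintype.card_subtype]
  have h3 := Finset.card_filter_add_card_filter_not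
    (s := Finset.univ.filter fun k => k ∈ D) (fun k => k ∈ H)
  rw [Finset.filter_filter, Finset.filter_filter, ← Fintype.card_subtype (fun k => k ∈ D),
    ← Nat.card_eq_fintype_card, T.card,
    show (Finset.univ.filter fun k => k ∈ D ∧ k ∈ H) = Finset.univ.filter fun k => k ∈ H
      from Finset.filter_congr fun k _ => ⟨fun h => h.2, fun h => ⟨T.sub h, h⟩⟩,
    ← Fintype.card_subtype, ← Nat.card_eq_fintype_card] at h3
  omega

namespace Facts

variable (h : Facts K p q m n)
include h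

theorem invCount_one : invCount (1 : K) = (q : ℂ) * n := by
  classical
  obtain ⟨u, hu⟩ := h.exists_invol
  obtain ⟨w, -, -, hcard, -⟩ := h.invol_torus hu
  have hbij : Nat.card {v : K // orderOf v = 2 ∧ v * 1 * v⁻¹ = 1⁻¹} =
      Nat.card {v : K // IsConj u v} := by
    refine Nat.card_congr (Equiv.subtypeEquivRight fun v => ⟨fun hv => h.conj u v hu hv.1, fun hv => ?_⟩)
    obtain ⟨c, hc⟩ := isConj_iff.1 hv
    exact ⟨by rw [← hc, ← MulAut.conj_apply, MulEquiv.orderOf_eq, hu], by group⟩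
  have h1 := ReeType.card_isConj_mul u
  rw [hcard, h.card, ← hbij] at h1
  have h2 := Nat.eq_of_mul_eq_mul_right (by have := h.m_pos; omega) h1
  simp only [invCount, h2]
  push_cast
  rfl

end Facts

namespace Frame

variable (F : Frame K p q m n) (Ψ : F.Pair) (h : Facts K p q m n)
include h

theorem card_inverting_E {x : K} (hx : x ∈ F.E) (hx1 : x ≠ 1) :
    Nat.card {w : K // orderOf w = 2 ∧ w * x * w⁻¹ = x⁻¹} = q := by
  have hE : Odd (Nat.card F.E) := by rw [F.card_E, h.hm]; exact ⟨2 * m, by ring⟩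
  haveI : Fact (Nat.Prime 2) := ⟨Nat.prime_two⟩
  obtain ⟨w₀, hw₀⟩ := exists_prime_orderOf_dvd_card' (G := normalizer (F.E : Set K)) 2
    (by rw [F.card_NE]; exact dvd_mul_of_dvd_right (dvd_mul_right 2 m) q)
  rw [← Subgroup.orderOf_coe] at hw₀
  set w : K := (w₀ : K) with hw
  have hww : w * w = 1 := by rw [← pow_two, ← hw₀, pow_orderOf_eq_one]
  have hwE : w ∉ F.E := fun hh => by
    have h2 := hw₀ ▸ Subgroup.orderOf_dvd_natCard _ hh
    exact Nat.not_even_iff_odd.2 hE (even_iff_two_dvd.2 h2)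
  have hinv : ∀ a ∈ F.E, w * a * w⁻¹ = a⁻¹ :=
    inverts_of_fpf hww (fun a ha => (mem_normalizer_iff.1 w₀.2 a).1 ha) fun a ha hc => by
      by_contra ha1
      exact hwE ((F.cent_E a ha ha1 w).1 hc)
  rw [← F.card_E]
  let f : F.E → {v : K // orderOf v = 2 ∧ v * x * v⁻¹ = x⁻¹} := fun e => ⟨w * e, by
    refine ⟨orderOf_eq_prime ?_ ?_, ?_⟩
    · calc (w * (e : K)) ^ 2 = (w * e * w⁻¹) * (w * w) * e := by rw [pow_two]; group
        _ = 1 := by rw [hinv e e.2, hww, mul_one, inv_mul_cancel]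
    · intro e'
      have : w = (e : K)⁻¹ := eq_inv_of_mul_eq_one_left e'
      exact hwE (this ▸ inv_mem e.2)
    · calc w * (e : K) * x * (w * e)⁻¹ = w * ((e : K) * x * (e : K)⁻¹) * w⁻¹ := by group
        _ = x⁻¹ := by rw [F.comm_E _ e.2 _ hx, mul_inv_cancel_right, hinv x hx]⟩
  refine (Nat.card_congr (Equiv.ofBijective f ⟨fun a b e => Subtype.ext
    (mul_left_cancel (congrArg Subtype.val e)), fun v => ?_⟩)).symm
  have hv : w⁻¹ * v.1 ∈ F.E := by
    refine (F.cent_E x hx hx1 _).1 ?_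
    calc w⁻¹ * v.1 * x = w⁻¹ * (v.1 * x * v.1⁻¹) * v.1 := by group
      _ = w⁻¹ * x⁻¹ * v.1 := by rw [v.2.2]
      _ = w⁻¹ * (w * x * w⁻¹) * v.1 := by rw [hinv x hx]
      _ = x * (w⁻¹ * v.1) := by group
  exact ⟨⟨_, hv⟩, Subtype.ext (mul_inv_cancel_left w v.1)⟩

theorem invCount_E : (fun y : F.E => invCount (y : K)) =
    ((q : ℂ) * ((n : ℂ) - 1)) • oneAt F.E + (q : ℂ) • lc (1 : F.E →* ℂˣ) := by
  funext y
  simp only [Pi.add_apply, Pi.smul_apply, smul_eq_mul, lc_apply, MonoidHom.one_apply, Units.val_one,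
    mul_one]
  rcases eq_or_ne y 1 with rfl | hy
  · rw [oneAt_one, OneMemClass.coe_one, h.invCount_one]; ring
  · rw [oneAt_ne hy, mul_zero, zero_add]
    simp only [invCount, F.card_inverting_E h y.2 fun e => hy (Subtype.ext e)]

theorem invCount_A : (fun y : F.A => invCount (y : K)) =
    ((q : ℂ) * n - 2 * m) • oneAt F.A + (2 * (m : ℂ)) • lc (1 : F.A →* ℂˣ) := by
  funext y
  simp only [Pi.add_apply, Pi.smul_apply, smul_eq_mul, lc_apply, MonoidHom.one_apply, Units.val_one,
    mul_one]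
  rcases eq_or_ne y 1 with rfl | hy
  · rw [oneAt_one, OneMemClass.coe_one, h.invCount_one]; ring
  · rw [oneAt_ne hy, mul_zero, zero_add]
    simp only [invCount, card_inverting F.torus_A F.invol_A (by rw [F.card_A]; exact h.m_odd) y.2
      (fun e => hy (Subtype.ext e)), F.card_HA]
    push_cast
    rfl

theorem invCount_L : (fun y : F.L => invCount (y : K)) =
    ((q : ℂ) * n - n) • oneAt F.L + (n : ℂ) • lc (1 : F.L →* ℂˣ) := by
  funext y
  simp only [Pi.add_apply, Pi.smul_apply, smul_eq_mul, lc_apply, MonoidHom.one_apply, Units.val_one,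
    mul_one]
  rcases eq_or_ne y 1 with rfl | hy
  · rw [oneAt_one, OneMemClass.coe_one, h.invCount_one]; ring
  · rw [oneAt_ne hy, mul_zero, zero_add]
    simp only [invCount, card_inverting F.torus_L F.invol_L (by rw [F.card_L]; exact h.data.mo_odd)
      y.2 (fun e => hy (Subtype.ext e)), F.card_L]

theorem inner_Ep_inv {ψ : F.E →* ℂˣ} (hψ : ψ ≠ 1) :
    classInner (F.Ep ψ) invCount = (n : ℂ) - 1 := by
  have hq : (q : ℂ) ≠ 0 := by exact_mod_cast h.q_pos.ne'
  rw [Ep, classInner_indFun _ _ _ invCount_classFun', F.invCount_E h, classInner_add_right,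
    classInner_smul_right, classInner_smul_right, classInner_lc_oneAt, classInner_lc', if_neg hψ,
    F.card_E, map_mul, map_sub, map_natCast, map_natCast, map_one]
  field_simp
  ring

theorem inner_Xi_inv : classInner (F.Xi Ψ) invCount = 2 * ((n : ℂ) - 1) := by
  rw [Xi, indFun_add, classInner_add_left,
    show indFun F.E (lc (Ψ.ψ 0)) = F.Ep (Ψ.ψ 0) from rfl,
    show indFun F.E (lc (Ψ.ψ 1)) = F.Ep (Ψ.ψ 1) from rfl, F.inner_Ep_inv h (Ψ.ne_one 0),
    F.inner_Ep_inv h (Ψ.ne_one 1)]
  ring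

theorem sum_P_inv {θ : F.A →* ℂˣ} (hθ : θ ≠ 1) :
    ∑ x : K, F.P Ψ θ x * invCount x = -4 * (q : ℂ) ^ 2 * n := by
  have hm : (m : ℂ) ≠ 0 := by exact_mod_cast h.m_pos.ne'
  rw [invCount_sum, P, classInner_sub_left, classInner_smul_left, F.inner_Xi_inv Ψ h,
    classInner_indFun _ _ _ invCount_classFun', F.invCount_A h, classInner_add_right,
    classInner_smul_right, classInner_smul_right, classInner_lc_oneAt, classInner_lc', if_neg hθ,
    F.card_A, map_sub, map_mul, map_mul, map_natCast, map_natCast, map_natCast, map_ofNat, h.card]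
  push_cast
  field_simp
  simp only [h.cast_n, h.cast_q]; ring

theorem sum_P1_inv : ∑ x : K, F.P Ψ 1 x * invCount x =
    -4 * (q : ℂ) * n * (2 * (m : ℂ) ^ 2 + 4 * m + 1) := by
  have hm : (m : ℂ) ≠ 0 := by exact_mod_cast h.m_pos.ne'
  rw [invCount_sum, P, classInner_sub_left, classInner_smul_left, F.inner_Xi_inv Ψ h,
    classInner_indFun _ _ _ invCount_classFun', F.invCount_A h, classInner_add_right,
    classInner_smul_right, classInner_smul_right, classInner_lc_oneAt, classInner_lc', if_pos rfl,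
    F.card_A, map_sub, map_mul, map_mul, map_natCast, map_natCast, map_natCast, map_ofNat, h.card]
  push_cast
  field_simp
  simp only [h.cast_n, h.cast_q]; ring

theorem sum_Q_inv (l : F.L →* ℂˣ) : ∑ x : K, F.Q Ψ l x * invCount x =
    if l = 1 then (Nat.card K : ℂ) * n else 0 := by
  have hn : (n : ℂ) ≠ 0 := by exact_mod_cast h.n_pos.ne'
  rw [invCount_sum, Q, classInner_sub_left, F.inner_Xi_inv Ψ h,
    classInner_indFun _ _ _ invCount_classFun', F.invCount_L h, classInner_add_right,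
    classInner_smul_right, classInner_smul_right, classInner_lc_oneAt, classInner_lc',
    F.card_L, map_sub, map_mul, map_natCast, map_natCast]
  split_ifs <;> field_simp <;> simp only [h.cast_n, h.cast_q] <;> ring

theorem sum_fX_inv (i : Fin 2) : ∑ x : K, F.fX Ψ i x * invCount x =
    2 * (q : ℂ) * n * (3 * m + 1) := by
  have hD : ∑ x : K, F.Dl Ψ x * invCount x = 0 := by
    rw [invCount_sum, Dl, classInner_sub_left, F.inner_Ep_inv h (Ψ.ne_one 0),
      F.inner_Ep_inv h (Ψ.ne_one 1), sub_self, mul_zero]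
  simp only [F.fX_eq Ψ h, Pi.add_apply, Pi.smul_apply, smul_eq_mul, add_mul, mul_assoc,
    Finset.sum_add_distrib, ← Finset.mul_sum, mul_add]
  rw [hD, F.sum_P1_inv Ψ h, F.sum_Q_inv Ψ h, if_pos rfl, h.card]
  push_cast
  simp only [h.cast_n, h.cast_q]; ring

end Frame

end CfsgLib.ReeType.Five
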