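import Cfsg.Agent.Lib.Ree.Five.Frame
import Cfsg.Agent.Lib.Ree.KChar

/-!
# Class functions of `PSL(2, q)`, `q ≡ 5 (mod 8)`, vanishing on elements of even order

`Ep ψ = Ind_E ψ` for the two orbits of characters `ψ 0, ψ 1`, `Ξ` their sum, `Q_λ = Ind_L λ - Ξ`,
`P_θ = 2Ξ - Ind_A θ`.
-/

set_option autoImplicit false
set_option linter.unusedSectionVars false

namespace CfsgLib.ReeType.Five

open scoped ComplexConjugate
open Subgroup Cfsg CfsgLib.Char

universe u

attribute [local instance] _root_.Classical.propDecidable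

variable {K : Type u} [Group K] [Fintype K] {p q m n : ℕ}

namespace Facts

variable (h : Facts K p q m n)
include h

theorem cast_q : (q : ℂ) = 4 * (m : ℂ) + 1 := by
  exact_mod_cast congrArg (fun a : ℕ => (a : ℂ)) h.hm

theorem cast_n : (n : ℂ) = 2 * (m : ℂ) + 1 := by
  have h1 : n = 2 * m + 1 := by have := h.hm; have := h.hn; omega
  exact_mod_cast congrArg (fun a : ℕ => (a : ℂ)) h1

theorem q_pos : 0 < q := by have := h.five_lt; omega

end Facts

namespace Frame

variable (F : Frame K p q m n)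

/-- The pullback of a character of `E` by an element of its normalizer. -/
noncomputable def conjChar (k : normalizer (F.E : Set K)) (ψ : F.E →* ℂˣ) : F.E →* ℂˣ where
  toFun e := ψ ⟨(k : K)⁻¹ * e * k, by
    have := (mem_normalizer_iff.1 (inv_mem k.2) _).1 e.2
    rwa [inv_inv] at this⟩
  map_one' := by
    rw [← map_one ψ]
    exact congrArg ψ (Subtype.ext (by simp))
  map_mul' a b := by
    rw [← map_mul]
    exact congrArg ψ (Subtype.ext (by push_cast; group))

/-- Representatives of the two orbits on the nontrivial characters of `E`. -/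
structure Pair (F : Frame K p q m n) where
  ψ : Fin 2 → (F.E →* ℂˣ)
  ne_one : ∀ i, ψ i ≠ 1
  apart : ∀ k, F.conjChar k (ψ 0) ≠ ψ 1

/-- `Ind_E ψ`. -/
noncomputable def Ep (ψ : F.E →* ℂˣ) : K → ℂ := indFun F.E (lc ψ)

variable (Ψ : F.Pair)

/-- The sum over both orbits. -/
noncomputable def Xi : K → ℂ := indFun F.E (lc (Ψ.ψ 0) + lc (Ψ.ψ 1))

/-- `Ind_L λ - Ξ`. -/
noncomputable def Q (l : F.L →* ℂˣ) : K → ℂ := indFun F.L (lc l) - F.Xi Ψ

/-- `2Ξ - Ind_A θ`. -/
noncomputable def P (θ : F.A →* ℂˣ) : K → ℂ := (2 : ℂ) • F.Xi Ψ - indFun F.A (lc θ)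

/-- The difference of the two orbits. -/
noncomputable def Dl : K → ℂ := F.Ep (Ψ.ψ 0) - F.Ep (Ψ.ψ 1)

theorem Xi_classFun : IsClassFunction K (F.Xi Ψ) := isClassFunction_indFun _ _

theorem Dl_classFun : IsClassFunction K (F.Dl Ψ) := by
  intro x g
  simp only [Dl, Ep, Pi.sub_apply]
  rw [isClassFunction_indFun _ _ x g, isClassFunction_indFun _ _ x g]

variable (h : Facts K p q m n)
include h

theorem order_E {x : K} (hx : x ∈ F.E) (hx1 : x ≠ 1) : orderOf x = p :=
  haveI : Fact p.Prime := ⟨h.data.prime_p⟩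
  orderOf_eq_prime (F.pow_p x hx) hx1

theorem cop_E : ∀ {x : K}, x ∈ F.E → x ≠ 1 →
    ¬ orderOf x ∣ Nat.card F.A ∧ ¬ orderOf x ∣ Nat.card F.L := fun {x} hx hx1 => by
  rw [F.order_E h hx hx1, F.card_A, F.card_L]
  exact ⟨h.p_not_m, h.data.p_not_mo⟩

theorem cop_ALE : ∀ {x : K}, (x ∈ F.A ∨ x ∈ F.L) → x ≠ 1 → ¬ orderOf x ∣ Nat.card F.E := by
  intro x hx hx1 hd
  rw [F.card_E] at hd
  obtain ⟨f, -, hf⟩ := h.data.q_pow
  have hd' : orderOf x ∣ p ^ f := hf ▸ hd
  refine hx1 (orderOf_eq_one_iff.1 ?_)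
  rcases hx with hx | hx
  · exact Nat.eq_one_of_dvd_coprimes ((h.data.prime_p.coprime_iff_not_dvd.2 h.p_not_m).pow_left _)
      hd' (F.card_A ▸ Subgroup.orderOf_dvd_natCard _ hx)
  · exact Nat.eq_one_of_dvd_coprimes ((h.data.prime_p.coprime_iff_not_dvd.2 h.data.p_not_mo).pow_left _)
      hd' (F.card_L ▸ Subgroup.orderOf_dvd_natCard _ hx)

theorem cop_AL : ∀ {x : K}, x ∈ F.A → x ≠ 1 → ¬ orderOf x ∣ Nat.card F.L := fun {x} hx hx1 hd =>
  hx1 (orderOf_eq_one_iff.1 (Nat.eq_one_of_dvd_coprimes h.cop_mn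
    (F.card_A ▸ Subgroup.orderOf_dvd_natCard _ hx) (F.card_L ▸ hd)))

theorem cop_LA : ∀ {x : K}, x ∈ F.L → x ≠ 1 → ¬ orderOf x ∣ Nat.card F.A := fun {x} hx hx1 hd =>
  hx1 (orderOf_eq_one_iff.1 (Nat.eq_one_of_dvd_coprimes h.cop_mn.symm
    (F.card_L ▸ Subgroup.orderOf_dvd_natCard _ hx) (F.card_A ▸ hd)))

theorem index_A : F.A.index = q * n * 4 := by
  have h1 := F.A.card_mul_index
  rw [F.card_A, h.card] at h1
  exact Nat.eq_of_mul_eq_mul_left h.m_pos (h1.trans (by ring))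

theorem index_L : F.L.index = q * (4 * m) := by
  have h1 := F.L.card_mul_index
  rw [F.card_L, h.card] at h1
  exact Nat.eq_of_mul_eq_mul_left h.n_pos (h1.trans (by ring))

theorem index_E : F.E.index = n * (4 * m) := by
  have h1 := F.E.card_mul_index
  rw [F.card_E, h.card] at h1
  exact Nat.eq_of_mul_eq_mul_left h.q_pos (h1.trans (by ring))

/-- A character fixed by an element outside `E` is trivial. -/
theorem conjChar_fixed {k : normalizer (F.E : Set K)} {ψ : F.E →* ℂˣ} (hψ : ψ ≠ 1)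
    (hk : F.conjChar k ψ = ψ) : (k : K) ∈ F.E := by
  by_contra hkE
  have hf : ∀ e : F.E, (k : K)⁻¹ * e * k ∈ F.E := fun e => by
    have := (mem_normalizer_iff.1 (inv_mem k.2) _).1 e.2
    rwa [inv_inv] at this
  let g : F.E → F.E := fun e => e⁻¹ * ⟨_, hf e⟩
  have hg : Function.Injective g := by
    intro a b hab
    by_contra hne
    have h1 : ((a : K))⁻¹ * ((k : K)⁻¹ * a * k) = ((b : K))⁻¹ * ((k : K)⁻¹ * b * k) :=
      congrArg Subtype.val hab
    set c : K := (b : K) * (a : K)⁻¹ with hc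
    have hcE : c ∈ F.E := mul_mem b.2 (inv_mem a.2)
    have hc1 : c ≠ 1 := fun e => hne (Subtype.ext (mul_inv_eq_one.1 e).symm)
    refine hkE ((F.cent_E c hcE hc1 (k : K)).1 ?_)
    have h2 : (k : K)⁻¹ * b * k = c * ((k : K)⁻¹ * a * k) := by
      calc (k : K)⁻¹ * b * k = (b : K) * (((b : K))⁻¹ * ((k : K)⁻¹ * b * k)) := by group
        _ = _ := by rw [← h1, hc]; group
    have h3 : (k : K)⁻¹ * c * k = c := by
      calc (k : K)⁻¹ * c * k = ((k : K)⁻¹ * b * k) * ((k : K)⁻¹ * a * k)⁻¹ := by rw [hc]; group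
        _ = c := by rw [h2]; group
    calc (k : K) * c = (k : K) * ((k : K)⁻¹ * c * k) := by rw [h3]
      _ = c * k := by group
  refine hψ (MonoidHom.ext fun e => ?_)
  obtain ⟨d, rfl⟩ := Finite.surjective_of_injective hg e
  show ψ (d⁻¹ * ⟨_, hf d⟩) = 1
  rw [map_mul, map_inv, show ψ ⟨_, hf d⟩ = ψ d from DFunLike.congr_fun hk d, inv_mul_cancel]

omit h in
theorem conjChar_mul (a b : normalizer (F.E : Set K)) (ψ : F.E →* ℂˣ) :
    F.conjChar a (F.conjChar b ψ) = F.conjChar (a * b) ψ := by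
  refine MonoidHom.ext fun e => congrArg ψ (Subtype.ext ?_)
  push_cast
  group

omit h in
theorem conjChar_mem {k : normalizer (F.E : Set K)} (hk : (k : K) ∈ F.E) (ψ : F.E →* ℂˣ) :
    F.conjChar k ψ = ψ := by
  refine MonoidHom.ext fun e => congrArg ψ (Subtype.ext ?_)
  show (k : K)⁻¹ * e * k = e
  rw [mul_assoc, F.comm_E _ e.2 _ hk, inv_mul_cancel_left]

/-- A pair exists. -/
theorem exists_pair : Nonempty F.Pair := by
  classical
  let _ : CommGroup F.E :=
    { (inferInstance : Group F.E) with mul_comm := fun a b => Subtype.ext (F.comm_E a a.2 b b.2) }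
  haveI : Finite (F.E →* ℂˣ) := finite_dual
  have hdual : Nat.card (F.E →* ℂˣ) = q := by
    rw [CommGroup.card_monoidHom_of_hasEnoughRootsOfUnity F.E ℂ, F.card_E]
  have hnt : Nat.card {χ : F.E →* ℂˣ // χ ≠ 1} = q - 1 := by
    haveI := Fintype.ofFinite (F.E →* ℂˣ)
    rw [Nat.card_eq_fintype_card, Fintype.card_subtype_compl, Fintype.card_subtype_eq,
      ← Nat.card_eq_fintype_card, hdual]
  have hq := h.five_lt
  obtain ⟨⟨ψ, hψ⟩⟩ : Nonempty {χ : F.E →* ℂˣ // χ ≠ 1} := (Nat.card_pos_iff.1 (by omega)).1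
  by_contra hne
  set N := normalizer (F.E : Set K)
  set EN := F.E.subgroupOf N
  have hall : ∀ χ : F.E →* ℂˣ, χ ≠ 1 → ∃ k, F.conjChar k ψ = χ := fun χ hχ => by
    by_contra hc
    exact hne ⟨⟨![ψ, χ], fun i => by fin_cases i <;> assumption, fun k e => hc ⟨k, e⟩⟩⟩
  have hidx : EN.index = 2 * m := by
    have h1 := EN.card_mul_index
    rw [Nat.card_congr (subgroupOfEquivOfLe le_normalizer).toEquiv, F.card_E, F.card_NE] at h1
    exact Nat.eq_of_mul_eq_mul_left h.q_pos h1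
  let Φ : N ⧸ EN → {χ : F.E →* ℂˣ // χ ≠ 1} := fun a =>
    if hh : F.conjChar a.out ψ ≠ 1 then ⟨_, hh⟩ else ⟨ψ, hψ⟩
  have hsurj : Function.Surjective Φ := by
    rintro ⟨χ, hχ⟩
    obtain ⟨k, hk⟩ := hall χ hχ
    refine ⟨QuotientGroup.mk k, ?_⟩
    obtain ⟨d, hd⟩ := QuotientGroup.mk_out_eq_mul EN k
    have e : F.conjChar (QuotientGroup.mk k : N ⧸ EN).out ψ = χ := by
      rw [hd, ← F.conjChar_mul, F.conjChar_mem (k := (d : N)) (mem_subgroupOf.1 d.2), hk]
    simp only [Φ]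
    rw [dif_pos (by rw [e]; exact hχ)]
    exact Subtype.ext e
  have hle := Nat.card_le_card_of_surjective Φ hsurj
  rw [hnt, ← Subgroup.index_eq_card, hidx] at hle
  have := h.hm
  omega

/-- The value of `Ind_E ψ` on `E - 1`. -/
theorem Ep_E (ψ : F.E →* ℂˣ) {x : K} (hx : x ∈ F.E) (hx1 : x ≠ 1) :
    F.Ep ψ x = (q : ℂ)⁻¹ * ∑ k : normalizer (F.E : Set K), lc (F.conjChar k ψ) ⟨x, hx⟩ := by
  classical
  rw [Ep, indFun, F.card_E]
  congr 1
  rw [← Finset.sum_filter_add_sum_filter_not Finset.univ (fun k => k ∈ normalizer (F.E : Set K)),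
    Finset.sum_eq_zero (s := Finset.univ.filter fun k => ¬ k ∈ normalizer (F.E : Set K)) fun k hk => by
      refine extendByZero_not_mem _ _ fun hm => (Finset.mem_filter.1 hk).2 ?_
      have := F.fusion_E x hx hx1 k⁻¹ (by rwa [inv_inv])
      simpa using inv_mem this,
    add_zero, Finset.sum_subtype (p := fun k => k ∈ normalizer (F.E : Set K)) _ (fun k => by simp)]
  refine Finset.sum_congr rfl fun k _ => ?_
  have hm : (k : K)⁻¹ * x * k ∈ F.E := by
    have := (mem_normalizer_iff.1 (inv_mem k.2) _).1 hx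
    rwa [inv_inv] at this
  rw [extendByZero_mem _ _ hm]
  rfl

theorem conj_pair_inj {i j : Fin 2} {a b : normalizer (F.E : Set K)}
    (e : F.conjChar a (Ψ.ψ i) = F.conjChar b (Ψ.ψ j)) : i = j ∧ ((b⁻¹ * a : normalizer (F.E : Set K)) : K) ∈ F.E := by
  have h1 : F.conjChar (b⁻¹ * a) (Ψ.ψ i) = Ψ.ψ j := by
    rw [← F.conjChar_mul, e, F.conjChar_mul, inv_mul_cancel,
      F.conjChar_mem (k := (1 : normalizer (F.E : Set K))) (one_mem _)]
  have hij : i = j := by
    fin_cases i <;> fin_cases j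
    · rfl
    · exact absurd h1 (Ψ.apart _)
    · refine absurd ?_ (Ψ.apart (b⁻¹ * a)⁻¹)
      rw [show Ψ.ψ 0 = F.conjChar (b⁻¹ * a) (Ψ.ψ 1) from h1.symm, F.conjChar_mul, inv_mul_cancel,
        F.conjChar_mem (k := (1 : normalizer (F.E : Set K))) (one_mem _)]
    · rfl
  subst hij
  exact ⟨rfl, F.conjChar_fixed h (Ψ.ne_one i) h1⟩

/-- The two orbits exhaust the nontrivial characters. -/
theorem sum_conjChar (y : F.E) :
    ∑ k : normalizer (F.E : Set K), lc (F.conjChar k (Ψ.ψ 0)) y +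
      ∑ k : normalizer (F.E : Set K), lc (F.conjChar k (Ψ.ψ 1)) y =
        (q : ℂ) * ((q : ℂ) * oneAt F.E y - 1) := by
  classical
  haveI : Finite (F.E →* ℂˣ) := finite_dual
  let _ := Fintype.ofFinite (F.E →* ℂˣ)
  let _ : CommGroup F.E :=
    { (inferInstance : Group F.E) with mul_comm := fun a b => Subtype.ext (F.comm_E a a.2 b b.2) }
  set N := normalizer (F.E : Set K)
  let f : Fin 2 × N → (F.E →* ℂˣ) := fun z => F.conjChar z.2 (Ψ.ψ z.1)
  set S : Finset (F.E →* ℂˣ) := Finset.univ.erase 1 with hS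
  have hmaps : ∀ z ∈ (Finset.univ : Finset (Fin 2 × N)), f z ∈ S := fun z _ =>
    Finset.mem_erase.2 ⟨fun e => Ψ.ne_one z.1 (by
      have h1 : F.conjChar z.2⁻¹ (f z) = Ψ.ψ z.1 := by
        rw [F.conjChar_mul, inv_mul_cancel, F.conjChar_mem (k := (1 : N)) (one_mem _)]
      rw [← h1, e]; rfl), Finset.mem_univ _⟩
  have hfib : ∀ χ ∈ S, (Finset.univ.filter fun z => f z = χ).card ≤ q := by
    intro χ _
    rcases (Finset.univ.filter fun z => f z = χ).eq_empty_or_nonempty with e | ⟨z₀, hz₀⟩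
    · rw [e, Finset.card_empty]; exact Nat.zero_le _
    · let g : Fin 2 × N → F.E := fun z =>
        if hm : (((z₀.2)⁻¹ * z.2 : N) : K) ∈ F.E then ⟨_, hm⟩ else 1
      have hz : ∀ z, f z = χ → z.1 = z₀.1 ∧ (((z₀.2)⁻¹ * z.2 : N) : K) ∈ F.E := fun z hzf =>
        F.conj_pair_inj Ψ h (hzf.trans (Finset.mem_filter.1 hz₀).2.symm)
      calc (Finset.univ.filter fun z => f z = χ).card ≤ (Finset.univ : Finset F.E).card := by
            refine Finset.card_le_card_of_injOn g (fun z _ => Finset.mem_univ _) ?_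
            intro z hz1 z' hz2 e
            have a1 := hz z (Finset.mem_filter.1 (Finset.mem_coe.1 hz1)).2
            have a2 := hz z' (Finset.mem_filter.1 (Finset.mem_coe.1 hz2)).2
            simp only [g, dif_pos a1.2, dif_pos a2.2] at e
            exact Prod.ext (a1.1.trans a2.1.symm)
              (mul_left_cancel (a := (z₀.2)⁻¹) (Subtype.ext (congrArg (fun w : F.E => (w : K)) e)))
        _ = q := by rw [Finset.card_univ, ← Nat.card_eq_fintype_card, F.card_E]
  have hcard : ∑ χ ∈ S, (Finset.univ.filter fun z => f z = χ).card = ∑ χ ∈ S, q := by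
    rw [← Finset.card_eq_sum_card_fiberwise hmaps, Finset.sum_const, hS,
      Finset.card_erase_of_mem (Finset.mem_univ _), Finset.card_univ, Finset.card_univ,
      Fintype.card_prod, Fintype.card_fin, ← Nat.card_eq_fintype_card, ← Nat.card_eq_fintype_card,
      CommGroup.card_monoidHom_of_hasEnoughRootsOfUnity F.E ℂ, F.card_E, F.card_NE, smul_eq_mul]
    have := h.hm
    rw [show q - 1 = 2 * (2 * m) by omega]
    ring
  have heq := (Finset.sum_eq_sum_iff_of_le hfib).1 hcard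
  have hsum : ∑ z : Fin 2 × N, lc (f z) y = ∑ χ ∈ S, (q : ℂ) * lc χ y := by
    rw [← Finset.sum_fiberwise_of_maps_to hmaps]
    refine Finset.sum_congr rfl fun χ hχ => ?_
    rw [Finset.sum_congr rfl (g := fun _ => lc χ y) fun z hz => by rw [(Finset.mem_filter.1 hz).2],
      Finset.sum_const, heq χ hχ, nsmul_eq_mul]
  rw [Fintype.sum_prod_type, Fin.sum_univ_two] at hsum
  rw [hsum, ← Finset.mul_sum]
  congr 1
  have h0 := congrFun (sum_all_lc F.E F.comm_E) y
  rw [Finset.sum_apply, Pi.smul_apply, F.card_E, smul_eq_mul,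
    ← Finset.add_sum_erase _ _ (Finset.mem_univ (1 : F.E →* ℂˣ)), lc_apply, MonoidHom.one_apply,
    Units.val_one] at h0
  rw [hS]
  linear_combination h0

theorem Xi_one : F.Xi Ψ 1 = (q : ℂ) ^ 2 - 1 := by
  rw [Xi, indFun_one, F.index_E h, Pi.add_apply, lc_apply, lc_apply, map_one, map_one, Units.val_one]
  push_cast
  rw [h.cast_n, h.cast_q]
  ring

theorem Xi_E {x : K} (hx : x ∈ F.E) (hx1 : x ≠ 1) : F.Xi Ψ x = -1 := by
  have e : F.Xi Ψ x = F.Ep (Ψ.ψ 0) x + F.Ep (Ψ.ψ 1) x := by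
    rw [Xi, indFun_add]; rfl
  have hq : (q : ℂ) ≠ 0 := by exact_mod_cast h.q_pos.ne'
  rw [e, F.Ep_E h _ hx hx1, F.Ep_E h _ hx hx1, ← mul_add, F.sum_conjChar Ψ h,
    oneAt_ne (fun e' => hx1 (congrArg Subtype.val e'))]
  field_simp
  ring

theorem Xi_restrict_E  :
    (fun y : F.E => F.Xi Ψ (y : K)) = ((q : ℂ) ^ 2) • oneAt F.E - lc (1 : F.E →* ℂˣ) := by
  funext y
  rw [Pi.sub_apply, Pi.smul_apply, lc_apply, MonoidHom.one_apply, Units.val_one, smul_eq_mul]
  rcases eq_or_ne y 1 with rfl | hy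
  · rw [oneAt_one, mul_one, OneMemClass.coe_one, F.Xi_one Ψ h]
  · rw [oneAt_ne hy, F.Xi_E Ψ h y.2 fun e => hy (Subtype.ext e)]
    ring

theorem Xi_restrict_of {Y : Subgroup K} (hY : Y = F.A ∨ Y = F.L)  :
    (fun y : Y => F.Xi Ψ (y : K)) = ((q : ℂ) ^ 2 - 1) • oneAt Y := by
  funext y
  rw [Pi.smul_apply, smul_eq_mul]
  rcases eq_or_ne y 1 with rfl | hy
  · rw [oneAt_one, mul_one, OneMemClass.coe_one, F.Xi_one Ψ h]
  · have hy1 : (y : K) ≠ 1 := fun e => hy (Subtype.ext e)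
    rw [oneAt_ne hy, mul_zero, Xi]
    refine indFun_eq_zero _ _ (F.cop_ALE h ?_ hy1)
    rcases hY with rfl | rfl
    · exact Or.inl y.2
    · exact Or.inr y.2

theorem iA_restrict_A (θ : F.A →* ℂˣ) : (fun y : F.A => indFun F.A (lc θ) (y : K)) =
    (2 : ℂ) • (lc θ + lc θ⁻¹) + (4 * (q : ℂ) * n - 4) • oneAt F.A := by
  funext y
  simp only [Pi.add_apply, Pi.smul_apply, smul_eq_mul]
  rcases eq_or_ne y 1 with rfl | hy
  · rw [oneAt_one, OneMemClass.coe_one, indFun_one, F.index_A h]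
    simp only [lc_apply, map_one, Units.val_one]
    push_cast
    ring
  · rw [indFun_torus F.torus_A θ y.2 fun e => hy (Subtype.ext e), oneAt_ne hy, F.card_A, F.card_HA]
    have : (m : ℂ) ≠ 0 := by exact_mod_cast h.m_pos.ne'
    push_cast
    field_simp
    ring

theorem iL_restrict_L (l : F.L →* ℂˣ) : (fun y : F.L => indFun F.L (lc l) (y : K)) =
    (lc l + lc l⁻¹) + (4 * (q : ℂ) * m - 2) • oneAt F.L := by
  funext y
  simp only [Pi.add_apply, Pi.smul_apply, smul_eq_mul]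
  rcases eq_or_ne y 1 with rfl | hy
  · rw [oneAt_one, OneMemClass.coe_one, indFun_one, F.index_L h]
    simp only [lc_apply, map_one, Units.val_one]
    push_cast
    ring
  · rw [indFun_torus F.torus_L l y.2 fun e => hy (Subtype.ext e), oneAt_ne hy,
      div_self (by rw [F.card_L]; exact_mod_cast h.n_pos.ne'), one_mul, mul_zero, add_zero]

theorem iA_restrict_of {Y : Subgroup K} (hY : Y = F.E ∨ Y = F.L) (θ : F.A →* ℂˣ) :
    (fun y : Y => indFun F.A (lc θ) (y : K)) = (4 * (q : ℂ) * n) • oneAt Y := by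
  funext y
  rw [Pi.smul_apply, smul_eq_mul]
  rcases eq_or_ne y 1 with rfl | hy
  · rw [oneAt_one, OneMemClass.coe_one, indFun_one, F.index_A h, lc_apply, map_one, Units.val_one]
    push_cast
    ring
  · have hy1 : (y : K) ≠ 1 := fun e => hy (Subtype.ext e)
    rw [oneAt_ne hy, mul_zero]
    refine indFun_eq_zero _ _ ?_
    rcases hY with rfl | rfl
    · exact (F.cop_E h y.2 hy1).1
    · exact F.cop_LA h y.2 hy1

theorem iL_restrict_of {Y : Subgroup K} (hY : Y = F.E ∨ Y = F.A) (l : F.L →* ℂˣ) :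
    (fun y : Y => indFun F.L (lc l) (y : K)) = (4 * (q : ℂ) * m) • oneAt Y := by
  funext y
  rw [Pi.smul_apply, smul_eq_mul]
  rcases eq_or_ne y 1 with rfl | hy
  · rw [oneAt_one, OneMemClass.coe_one, indFun_one, F.index_L h, lc_apply, map_one, Units.val_one]
    push_cast
    ring
  · have hy1 : (y : K) ≠ 1 := fun e => hy (Subtype.ext e)
    rw [oneAt_ne hy, mul_zero]
    refine indFun_eq_zero _ _ ?_
    rcases hY with rfl | rfl
    · exact (F.cop_E h y.2 hy1).2
    · exact F.cop_AL h y.2 hy1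

theorem inner_Xi_Xi  : classInner (F.Xi Ψ) (F.Xi Ψ) = 2 * (q : ℂ) := by
  classical
  have hq : (q : ℂ) ≠ 0 := by exact_mod_cast h.q_pos.ne'
  nth_rw 1 [Xi]
  rw [classInner_indFun _ _ _ (F.Xi_classFun Ψ), F.Xi_restrict_E Ψ h,
    classInner_sub_right, classInner_smul_right, classInner_add_left, classInner_add_left,
    classInner_lc_oneAt, classInner_lc_oneAt, classInner_lc', classInner_lc', if_neg (Ψ.ne_one 0),
    if_neg (Ψ.ne_one 1), F.card_E, map_pow, map_natCast]
  field_simp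
  ring

theorem inner_iA_Xi  (θ : F.A →* ℂˣ) :
    classInner (indFun F.A (lc θ)) (F.Xi Ψ) = ((q : ℂ) ^ 2 - 1) / m := by
  classical
  rw [classInner_indFun _ _ _ (F.Xi_classFun Ψ),
    F.Xi_restrict_of Ψ h (Or.inl rfl), classInner_smul_right, classInner_lc_oneAt, F.card_A, map_sub,
    map_pow, map_natCast, map_one]
  ring

theorem inner_iL_Xi  (l : F.L →* ℂˣ) :
    classInner (indFun F.L (lc l)) (F.Xi Ψ) = ((q : ℂ) ^ 2 - 1) / n := by
  classical
  rw [classInner_indFun _ _ _ (F.Xi_classFun Ψ),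
    F.Xi_restrict_of Ψ h (Or.inr rfl), classInner_smul_right, classInner_lc_oneAt, F.card_L, map_sub,
    map_pow, map_natCast, map_one]
  ring

theorem inner_iA_iA (θ θ' : F.A →* ℂˣ) :
    classInner (indFun F.A (lc θ)) (indFun F.A (lc θ')) = (by classical exact
      2 * ((if θ = θ' then 1 else 0) + (if θ = θ'⁻¹ then 1 else 0)) + (4 * (q : ℂ) * n - 4) / m) := by
  classical
  rw [classInner_indFun _ _ _ (isClassFunction_indFun F.A (lc θ')), F.iA_restrict_A h,
    classInner_add_right, classInner_smul_right, classInner_smul_right, classInner_add_right,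
    classInner_lc', classInner_lc', classInner_lc_oneAt, F.card_A, map_sub, map_mul, map_mul,
    map_natCast, map_natCast, map_ofNat, map_ofNat]
  ring

theorem inner_iL_iL (l l' : F.L →* ℂˣ) :
    classInner (indFun F.L (lc l)) (indFun F.L (lc l')) = (by classical exact
      ((if l = l' then 1 else 0) + (if l = l'⁻¹ then 1 else 0)) + (4 * (q : ℂ) * m - 2) / n) := by
  classical
  rw [classInner_indFun _ _ _ (isClassFunction_indFun F.L (lc l')), F.iL_restrict_L h,
    classInner_add_right, classInner_smul_right, classInner_add_right,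
    classInner_lc', classInner_lc', classInner_lc_oneAt, F.card_L, map_sub, map_mul, map_mul,
    map_natCast, map_natCast, map_ofNat, map_ofNat]
  ring

theorem inner_iL_iA (l : F.L →* ℂˣ) (θ : F.A →* ℂˣ) :
    classInner (indFun F.L (lc l)) (indFun F.A (lc θ)) = 4 * (q : ℂ) := by
  classical
  have hn : (n : ℂ) ≠ 0 := by exact_mod_cast h.n_pos.ne'
  rw [classInner_indFun _ _ _ (isClassFunction_indFun F.A (lc θ)), F.iA_restrict_of h (Or.inr rfl),
    classInner_smul_right, classInner_lc_oneAt, F.card_L, map_mul, map_mul, map_natCast, map_natCast,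
    map_ofNat]
  field_simp

theorem inner_Q_Q  (l l' : F.L →* ℂˣ) :
    classInner (F.Q Ψ l) (F.Q Ψ l') = (by classical exact
      (if l = l' then 1 else 0) + (if l = l'⁻¹ then 1 else 0) : ℂ) := by
  classical
  have hn : (n : ℂ) ≠ 0 := by exact_mod_cast h.n_pos.ne'
  rw [Q, Q, classInner_sub_left, classInner_sub_right, classInner_sub_right, F.inner_iL_iL h,
    F.inner_iL_Xi Ψ h, F.inner_Xi_Xi Ψ h, ← classInner_conj (indFun F.L (lc l')) (F.Xi Ψ), F.inner_iL_Xi Ψ h,
    map_div₀, map_sub, map_pow, map_natCast, map_natCast, map_one]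
  field_simp
  simp only [h.cast_n, h.cast_q]; ring

theorem inner_P_P  (θ θ' : F.A →* ℂˣ) :
    classInner (F.P Ψ θ) (F.P Ψ θ') = (by classical exact
      2 * ((if θ = θ' then 1 else 0) + (if θ = θ'⁻¹ then 1 else 0)) : ℂ) := by
  classical
  have hm : (m : ℂ) ≠ 0 := by exact_mod_cast h.m_pos.ne'
  rw [P, P, classInner_sub_left, classInner_sub_right, classInner_sub_right, classInner_smul_left,
    classInner_smul_right, classInner_smul_right, classInner_smul_left, F.inner_iA_iA h,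
    F.inner_iA_Xi Ψ h, F.inner_Xi_Xi Ψ h, ← classInner_conj (indFun F.A (lc θ')) (F.Xi Ψ), F.inner_iA_Xi Ψ h,
    map_div₀, map_sub, map_pow, map_natCast, map_natCast, map_one, map_ofNat]
  field_simp
  simp only [h.cast_n, h.cast_q]; ring

theorem inner_Q_P  (l : F.L →* ℂˣ) (θ : F.A →* ℂˣ) :
    classInner (F.Q Ψ l) (F.P Ψ θ) = 0 := by
  classical
  have hm : (m : ℂ) ≠ 0 := by exact_mod_cast h.m_pos.ne'
  have hn : (n : ℂ) ≠ 0 := by exact_mod_cast h.n_pos.ne'
  rw [Q, P, classInner_sub_left, classInner_sub_right, classInner_sub_right, classInner_smul_right,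
    classInner_smul_right, F.inner_iL_Xi Ψ h, F.inner_iL_iA h, F.inner_Xi_Xi Ψ h,
    ← classInner_conj (indFun F.A (lc θ)) (F.Xi Ψ), F.inner_iA_Xi Ψ h, map_div₀, map_sub, map_pow,
    map_natCast, map_natCast, map_one, map_ofNat]
  field_simp
  simp only [h.cast_n, h.cast_q]; ring

theorem inner_one_Xi  : classInner (F.Xi Ψ) (fun _ => 1) = 0 := by
  classical
  rw [Xi, classInner_indFun _ _ _ (fun _ _ => rfl), classInner_add_left,
    show (fun _ : F.E => (1 : ℂ)) = lc (1 : F.E →* ℂˣ) from rfl, classInner_lc', classInner_lc',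
    if_neg (Ψ.ne_one 0), if_neg (Ψ.ne_one 1), add_zero]

theorem inner_Q_one  (l : F.L →* ℂˣ) :
    classInner (F.Q Ψ l) (fun _ => 1) = (by classical exact if l = 1 then 1 else 0 : ℂ) := by
  classical
  rw [Q, classInner_sub_left, F.inner_one_Xi Ψ h, sub_zero,
    classInner_indFun _ _ _ (fun _ _ => rfl),
    show (fun _ : F.L => (1 : ℂ)) = lc (1 : F.L →* ℂˣ) from rfl, classInner_lc']

theorem inner_P_one  (θ : F.A →* ℂˣ) :
    classInner (F.P Ψ θ) (fun _ => 1) = -(by classical exact if θ = 1 then 1 else 0 : ℂ) := by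
  classical
  rw [P, classInner_sub_left, classInner_smul_left, F.inner_one_Xi Ψ h, mul_zero, zero_sub,
    classInner_indFun _ _ _ (fun _ _ => rfl),
    show (fun _ : F.A => (1 : ℂ)) = lc (1 : F.A →* ℂˣ) from rfl, classInner_lc']

theorem regular_eq [Fintype (F.L →* ℂˣ)] [Fintype (F.A →* ℂˣ)]  :
    (Nat.card K : ℂ) • oneAt K =
      (-2 * (m : ℂ)) • ∑ l : F.L →* ℂˣ, F.Q Ψ l + (-(n : ℂ)) • ∑ θ : F.A →* ℂˣ, F.P Ψ θ := by
  classical
  have hsL : ∑ l : F.L →* ℂˣ, indFun F.L (lc l) = (Nat.card K : ℂ) • oneAt K := by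
    rw [← indFun_sum, sum_all_lc F.L F.torus_L.comm, indFun_smul, indFun_oneAt, smul_smul,
      ← Nat.cast_mul, F.L.card_mul_index]
  have hsA : ∑ θ : F.A →* ℂˣ, indFun F.A (lc θ) = (Nat.card K : ℂ) • oneAt K := by
    rw [← indFun_sum, sum_all_lc F.A F.torus_A.comm, indFun_smul, indFun_oneAt, smul_smul,
      ← Nat.cast_mul, F.A.card_mul_index]
  have hcL : (Fintype.card (F.L →* ℂˣ) : ℂ) = n := by
    let _ : CommGroup F.L :=
      { (inferInstance : Group F.L) with
        mul_comm := fun a b => Subtype.ext (F.torus_L.comm a a.2 b b.2) }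
    rw [← Nat.card_eq_fintype_card, CommGroup.card_monoidHom_of_hasEnoughRootsOfUnity F.L ℂ, F.card_L]
  have hcA : (Fintype.card (F.A →* ℂˣ) : ℂ) = m := by
    let _ : CommGroup F.A :=
      { (inferInstance : Group F.A) with
        mul_comm := fun a b => Subtype.ext (F.torus_A.comm a a.2 b b.2) }
    rw [← Nat.card_eq_fintype_card, CommGroup.card_monoidHom_of_hasEnoughRootsOfUnity F.A ℂ, F.card_A]
  simp only [Q, P, Finset.sum_sub_distrib, Finset.sum_const, Finset.card_univ, hsL, hsA,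
    ← Nat.cast_smul_eq_nsmul ℂ, hcL, hcA, smul_smul]
  funext x
  simp only [Pi.add_apply, Pi.sub_apply, Pi.smul_apply, smul_eq_mul]
  simp only [h.cast_n, h.cast_q]; ring

end Frame

end CfsgLib.ReeType.Five
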