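import Cfsg.Agent.Lib.Ree.Five.KFun
import Cfsg.Agent.Lib.Ree.KGen

/-!
# Integrality, support, half sums and the sums against the inverting involutions

`half` picks one of each pair of inverse nontrivial characters; `fX i = PH + QH + Ep ψ_i` and
`fX 0 + fX 1 = -(P_1 + Q_1)`, `fX 0 - fX 1 = Dl`.
-/

set_option autoImplicit false
set_option linter.unusedSectionVars false

namespace CfsgLib.ReeType.Five

open scoped ComplexConjugate
open Subgroup Cfsg CfsgLib.Char
open CfsgLib.ReeType.KFrame (invCount)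

universe u

attribute [local instance] _root_.Classical.propDecidable

/-- An element of a group of odd order is not its own inverse unless trivial. -/
theorem hom_ne_inv {Y : Type*} [Group Y] [Finite Y] (hY : Odd (Nat.card Y)) {ψ : Y →* ℂˣ}
    (hψ : ψ ≠ 1) : ψ ≠ ψ⁻¹ := fun e => hψ (MonoidHom.ext fun y => by
  have h2 : ψ y ^ 2 = 1 := by
    have := DFunLike.congr_fun e y
    rw [MonoidHom.inv_apply, eq_inv_iff_mul_eq_one] at this
    rwa [pow_two]
  have hm : ψ y ^ Nat.card Y = 1 := by rw [← map_pow, pow_card_eq_one', map_one]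
  rw [MonoidHom.one_apply]
  exact orderOf_eq_one_iff.1 (Nat.eq_one_of_dvd_coprimes (Nat.coprime_two_left.2 hY)
    (orderOf_dvd_of_pow_eq_one h2) (orderOf_dvd_of_pow_eq_one hm)))

theorem homInvInv {Y : Type*} [Group Y] (μ : Y →* ℂˣ) : μ⁻¹⁻¹ = μ :=
  MonoidHom.ext fun y => by simp [MonoidHom.inv_apply]

theorem homOneInv {Y : Type*} [Group Y] : (1 : Y →* ℂˣ)⁻¹ = 1 :=
  MonoidHom.ext fun y => by simp [MonoidHom.inv_apply]

theorem homInvOne {Y : Type*} [Group Y] {μ : Y →* ℂˣ} : μ⁻¹ = 1 ↔ μ = 1 :=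
  ⟨fun e => by rw [← homInvInv μ, e, homOneInv], fun e => by rw [e, homOneInv]⟩

variable {K : Type u} [Group K] [Fintype K] {p q m n : ℕ}

namespace Frame

variable (F : Frame K p q m n) (Ψ : F.Pair) (h : Facts K p q m n)

theorem Q_gen (l : F.L →* ℂˣ) : IsGeneralizedCharacter K (F.Q Ψ l) :=
  isGeneralizedCharacter_sub (isGeneralizedCharacter_indFun _ (isGeneralizedCharacter_lc l))
    (isGeneralizedCharacter_indFun _
      (isGeneralizedCharacter_add (isGeneralizedCharacter_lc _) (isGeneralizedCharacter_lc _)))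

theorem P_gen (θ : F.A →* ℂˣ) : IsGeneralizedCharacter K (F.P Ψ θ) :=
  isGeneralizedCharacter_sub
    (by
      have h := isGeneralizedCharacter_zsmul (isGeneralizedCharacter_indFun F.E
        (isGeneralizedCharacter_add (isGeneralizedCharacter_lc (Ψ.ψ 0))
          (isGeneralizedCharacter_lc (Ψ.ψ 1)))) 2
      push_cast at h
      exact h)
    (isGeneralizedCharacter_indFun _ (isGeneralizedCharacter_lc θ))

theorem Ep_gen (ψ : F.E →* ℂˣ) : IsGeneralizedCharacter K (F.Ep ψ) :=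
  isGeneralizedCharacter_indFun _ (isGeneralizedCharacter_lc _)

theorem Q_classFun (l : F.L →* ℂˣ) : IsClassFunction K (F.Q Ψ l) :=
  isClassFunction_of_isGeneralized (F.Q_gen Ψ l)

theorem P_classFun (θ : F.A →* ℂˣ) : IsClassFunction K (F.P Ψ θ) :=
  isClassFunction_of_isGeneralized (F.P_gen Ψ θ)

include h

theorem even_ndvd {x : K} (hx : Even (orderOf x)) : ¬ orderOf x ∣ Nat.card F.E ∧
    ¬ orderOf x ∣ Nat.card F.A ∧ ¬ orderOf x ∣ Nat.card F.L := by
  have h2 : 2 ∣ orderOf x := even_iff_two_dvd.1 hx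
  rw [F.card_E, F.card_A, F.card_L]
  exact ⟨fun hd => by have := h2.trans hd; have := h.hm; omega, fun hd => h.two_not_m (h2.trans hd),
    fun hd => h.data.two_not_mo (h2.trans hd)⟩

theorem Ep_oddSupp (ψ : F.E →* ℂˣ) : ReeType.Setup.OddSupp (F.Ep ψ) := fun x hx =>
  indFun_eq_zero _ _ (F.even_ndvd h hx).1

theorem Q_oddSupp (l : F.L →* ℂˣ) : ReeType.Setup.OddSupp (F.Q Ψ l) := by
  intro x hx
  rw [Q, Xi, Pi.sub_apply, indFun_eq_zero _ _ (F.even_ndvd h hx).2.2,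
    indFun_eq_zero _ _ (F.even_ndvd h hx).1, sub_zero]

theorem P_oddSupp (θ : F.A →* ℂˣ) : ReeType.Setup.OddSupp (F.P Ψ θ) := by
  intro x hx
  rw [P, Xi, Pi.sub_apply, Pi.smul_apply, indFun_eq_zero _ _ (F.even_ndvd h hx).2.1,
    indFun_eq_zero _ _ (F.even_ndvd h hx).1, smul_zero, sub_zero]

/-! ### The difference of the two orbits -/

theorem Ep_one (ψ : F.E →* ℂˣ) : F.Ep ψ 1 = (n : ℂ) * (4 * m) := by
  rw [Ep, indFun_one, F.index_E h, lc_apply, map_one, Units.val_one, mul_one]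
  push_cast
  rfl

theorem Dl_restrict_E : (fun y : F.E => F.Dl Ψ (y : K)) = fun y => (q : ℂ)⁻¹ *
    (∑ k : normalizer (F.E : Set K), lc (F.conjChar k (Ψ.ψ 0)) y -
      ∑ k : normalizer (F.E : Set K), lc (F.conjChar k (Ψ.ψ 1)) y) := by
  funext y
  rcases eq_or_ne y 1 with rfl | hy
  · rw [Dl, Pi.sub_apply, OneMemClass.coe_one, F.Ep_one h, F.Ep_one h, sub_self]
    simp [lc_apply]
  · rw [Dl, Pi.sub_apply, F.Ep_E h _ y.2 (fun e => hy (Subtype.ext e)),
      F.Ep_E h _ y.2 (fun e => hy (Subtype.ext e)), mul_sub]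

theorem count_conjChar (i j : Fin 2) : ∑ k : normalizer (F.E : Set K),
    (if Ψ.ψ i = F.conjChar k (Ψ.ψ j) then 1 else 0 : ℂ) = if i = j then (q : ℂ) else 0 := by
  have h1 : ∀ k : normalizer (F.E : Set K),
      Ψ.ψ i = F.conjChar k (Ψ.ψ j) ↔ i = j ∧ (k : K) ∈ F.E := by
    intro k
    constructor
    · intro e
      obtain ⟨h2, h3⟩ := F.conj_pair_inj Ψ h (i := j) (j := i) (a := k)
        (b := (1 : normalizer (F.E : Set K)))
        (by rw [F.conjChar_mem (k := (1 : normalizer (F.E : Set K))) (one_mem _)]; exact e.symm)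
      exact ⟨h2.symm, by simpa using h3⟩
    · rintro ⟨rfl, hk⟩
      rw [F.conjChar_mem hk]
  rw [Finset.sum_boole]
  split_ifs with hij
  · rw [Finset.filter_congr (fun k _ => (h1 k).trans (and_iff_right hij)), ← Fintype.card_subtype,
      ← Nat.card_eq_fintype_card]
    exact congrArg (fun z : ℕ => (z : ℂ)) ((Nat.card_congr
      (subgroupOfEquivOfLe (le_normalizer (H := F.E))).toEquiv).trans F.card_E)
  · rw [Finset.filter_false_of_mem (fun k _ hk => hij ((h1 k).1 hk).1), Finset.card_empty,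
      Nat.cast_zero]

theorem inner_Ep_Dl (i : Fin 2) :
    classInner (F.Ep (Ψ.ψ i)) (F.Dl Ψ) = if i = 0 then 1 else -1 := by
  have hq : (q : ℂ) ≠ 0 := by exact_mod_cast h.q_pos.ne'
  rw [Ep, classInner_indFun _ _ _ (F.Dl_classFun Ψ), F.Dl_restrict_E Ψ h,
    show (fun y : F.E => (q : ℂ)⁻¹ *
        (∑ k : normalizer (F.E : Set K), lc (F.conjChar k (Ψ.ψ 0)) y -
          ∑ k : normalizer (F.E : Set K), lc (F.conjChar k (Ψ.ψ 1)) y)) =
      (q : ℂ)⁻¹ • (∑ k : normalizer (F.E : Set K), lc (F.conjChar k (Ψ.ψ 0)) -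
          ∑ k : normalizer (F.E : Set K), lc (F.conjChar k (Ψ.ψ 1))) from funext fun y => by
        simp [Finset.sum_apply],
    classInner_smul_right, classInner_sub_right, classInner_sum_right, classInner_sum_right]
  rw [Finset.sum_congr rfl (fun k _ => classInner_lc' F.E (Ψ.ψ i) (F.conjChar k (Ψ.ψ 0))),
    Finset.sum_congr rfl (fun k _ => classInner_lc' F.E (Ψ.ψ i) (F.conjChar k (Ψ.ψ 1))),
    map_inv₀, map_natCast]
  have c0 := F.count_conjChar Ψ h i 0
  have c1 := F.count_conjChar Ψ h i 1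
  calc _ = (q : ℂ)⁻¹ * ((if i = 0 then (q : ℂ) else 0) - if i = 1 then (q : ℂ) else 0) := by
        convert congrArg₂ (fun a b => (q : ℂ)⁻¹ * (a - b)) c0 c1 using 4 <;>
          congr!
    _ = _ := by fin_cases i <;> simp [hq]

theorem inner_Dl_Dl : classInner (F.Dl Ψ) (F.Dl Ψ) = 2 := by
  nth_rw 1 [Dl]
  rw [classInner_sub_left, F.inner_Ep_Dl Ψ h, F.inner_Ep_Dl Ψ h]
  norm_num

theorem inner_Dl_Xi : classInner (F.Dl Ψ) (F.Xi Ψ) = 0 := by
  rw [← classInner_conj, Xi, indFun_add, classInner_add_left,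
    show indFun F.E (lc (Ψ.ψ 0)) = F.Ep (Ψ.ψ 0) from rfl,
    show indFun F.E (lc (Ψ.ψ 1)) = F.Ep (Ψ.ψ 1) from rfl, F.inner_Ep_Dl Ψ h, F.inner_Ep_Dl Ψ h]
  norm_num

theorem Dl_restrict_of {Y : Subgroup K} (hY : Y = F.A ∨ Y = F.L) :
    (fun y : Y => F.Dl Ψ (y : K)) = fun _ => 0 := by
  funext y
  rcases eq_or_ne y 1 with rfl | hy
  · simp [Dl, F.Ep_one h]
  · have hy1 : (y : K) ≠ 1 := fun e => hy (Subtype.ext e)
    have hmem : (y : K) ∈ F.A ∨ (y : K) ∈ F.L := by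
      rcases hY with rfl | rfl
      · exact Or.inl y.2
      · exact Or.inr y.2
    rw [Dl, Pi.sub_apply, Ep, Ep, indFun_eq_zero _ _ (F.cop_ALE h hmem hy1),
      indFun_eq_zero _ _ (F.cop_ALE h hmem hy1), sub_zero]

theorem inner_Q_Dl (l : F.L →* ℂˣ) : classInner (F.Q Ψ l) (F.Dl Ψ) = 0 := by
  rw [Q, classInner_sub_left, ← classInner_conj (F.Dl Ψ) (F.Xi Ψ), F.inner_Dl_Xi Ψ h, map_zero,
    sub_zero, classInner_indFun _ _ _ (F.Dl_classFun Ψ), F.Dl_restrict_of Ψ h (Or.inr rfl)]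
  simp [classInner]

theorem inner_P_Dl (θ : F.A →* ℂˣ) : classInner (F.P Ψ θ) (F.Dl Ψ) = 0 := by
  rw [P, classInner_sub_left, classInner_smul_left, ← classInner_conj (F.Dl Ψ) (F.Xi Ψ),
    F.inner_Dl_Xi Ψ h, map_zero, mul_zero, zero_sub, neg_eq_zero,
    classInner_indFun _ _ _ (F.Dl_classFun Ψ), F.Dl_restrict_of Ψ h (Or.inl rfl)]
  simp [classInner]

theorem inner_one_Dl : classInner (F.Dl Ψ) (fun _ => 1) = 0 := by
  rw [Dl, classInner_sub_left, Ep, Ep, classInner_indFun _ _ _ (fun _ _ => rfl),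
    classInner_indFun _ _ _ (fun _ _ => rfl),
    show (fun _ : F.E => (1 : ℂ)) = lc (1 : F.E →* ℂˣ) from rfl, classInner_lc', classInner_lc',
    if_neg (Ψ.ne_one 0), if_neg (Ψ.ne_one 1), sub_zero]

/-! ### The half sums -/

theorem P_inv (θ : F.A →* ℂˣ) : F.P Ψ θ⁻¹ = F.P Ψ θ := by
  refine sub_eq_zero.1 (classInner_self_eq_zero ?_)
  rw [classInner_sub_left, classInner_sub_right, classInner_sub_right, F.inner_P_P Ψ h,
    F.inner_P_P Ψ h, F.inner_P_P Ψ h, F.inner_P_P Ψ h]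
  simp only [homInvInv, if_pos]
  by_cases e : θ = θ⁻¹
  · simp [← e]
  · simp [e, Ne.symm e]

theorem Q_inv (l : F.L →* ℂˣ) : F.Q Ψ l⁻¹ = F.Q Ψ l := by
  refine sub_eq_zero.1 (classInner_self_eq_zero ?_)
  rw [classInner_sub_left, classInner_sub_right, classInner_sub_right, F.inner_Q_Q Ψ h,
    F.inner_Q_Q Ψ h, F.inner_Q_Q Ψ h, F.inner_Q_Q Ψ h]
  simp only [homInvInv, if_pos]
  by_cases e : l = l⁻¹
  · simp [← e]
  · simp [e, Ne.symm e]

omit h in
/-- One of each pair of inverse nontrivial characters. -/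
noncomputable def half (Y : Subgroup K) [Fintype (Y →* ℂˣ)] : Finset (Y →* ℂˣ) :=
  Finset.univ.filter fun l => Fintype.equivFin (Y →* ℂˣ) l < Fintype.equivFin (Y →* ℂˣ) l⁻¹

omit h in
theorem sum_half {Y : Subgroup K} [Fintype (Y →* ℂˣ)] (hY : Odd (Nat.card Y))
    {g : (Y →* ℂˣ) → K → ℂ} (hg : ∀ l, g l⁻¹ = g l) :
    ∑ l, g l = g 1 + (2 : ℂ) • ∑ l ∈ half Y, g l := by
  have hh : ∑ l ∈ (Finset.univ : Finset (Y →* ℂˣ)).erase 1, g l =
      ∑ l ∈ half Y, g l + ∑ l ∈ half Y, g l := by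
    rw [← Finset.sum_filter_add_sum_filter_not (Finset.univ.erase 1)
      (fun l => Fintype.equivFin (Y →* ℂˣ) l < Fintype.equivFin (Y →* ℂˣ) l⁻¹)]
    refine congrArg₂ (· + ·) (Finset.sum_congr (Finset.ext fun l => ?_) fun _ _ => rfl)
      (Finset.sum_bij' (fun l _ => l⁻¹) (fun l _ => l⁻¹) (fun l hl => ?_) (fun l hl => ?_)
        (fun l _ => homInvInv l) (fun l _ => homInvInv l) fun l _ => (hg l).symm)
    · simp only [half, Finset.mem_filter, Finset.mem_erase, Finset.mem_univ, and_true, true_and]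
      exact and_iff_right_of_imp fun hl e => by rw [e, homOneInv] at hl; exact lt_irrefl _ hl
    · simp only [Finset.mem_filter, Finset.mem_erase, Finset.mem_univ, and_true] at hl
      simp only [half, Finset.mem_filter, Finset.mem_univ, true_and, homInvInv]
      exact lt_of_le_of_ne (not_lt.1 hl.2) fun e => hom_ne_inv hY hl.1
        ((Fintype.equivFin (Y →* ℂˣ)).injective e).symm
    · simp only [half, Finset.mem_filter, Finset.mem_univ, true_and] at hl
      simp only [Finset.mem_filter, Finset.mem_erase, Finset.mem_univ, and_true, homInvInv, ne_eq,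
        homInvOne, not_lt]
      exact ⟨fun e => by rw [e, homOneInv] at hl; exact lt_irrefl _ hl, hl.le⟩
  rw [← Finset.add_sum_erase _ _ (Finset.mem_univ (1 : Y →* ℂˣ)), hh, two_smul]

omit h in
/-- Half of the sum of all `P`, `Q` and one orbit on `E`. -/
noncomputable def fX (i : Fin 2) : K → ℂ :=
  haveI : Finite (F.A →* ℂˣ) := CfsgLib.Char.finite_dual
  haveI : Finite (F.L →* ℂˣ) := CfsgLib.Char.finite_dual
  let _ := Fintype.ofFinite (F.A →* ℂˣ)
  let _ := Fintype.ofFinite (F.L →* ℂˣ)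
  (∑ θ ∈ half F.A, F.P Ψ θ) + (∑ l ∈ half F.L, F.Q Ψ l) + F.Ep (Ψ.ψ i)

theorem fX_eq (i : Fin 2) : F.fX Ψ i = (-1 / 2 : ℂ) • (F.P Ψ 1 + F.Q Ψ 1) +
    (if i = 0 then (1 / 2 : ℂ) else -1 / 2) • F.Dl Ψ := by
  haveI : Finite (F.A →* ℂˣ) := CfsgLib.Char.finite_dual
  haveI : Finite (F.L →* ℂˣ) := CfsgLib.Char.finite_dual
  let _ := Fintype.ofFinite (F.A →* ℂˣ)
  let _ := Fintype.ofFinite (F.L →* ℂˣ)
  have hA := sum_half (by rw [F.card_A]; exact h.m_odd) (g := fun θ => F.P Ψ θ) (F.P_inv Ψ h)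
  have hL := sum_half (by rw [F.card_L]; exact h.data.mo_odd) (g := fun l => F.Q Ψ l) (F.Q_inv Ψ h)
  have hsum : ∑ l : F.L →* ℂˣ, F.Q Ψ l + ∑ θ : F.A →* ℂˣ, F.P Ψ θ = -F.Xi Ψ := by
    have hsL : ∑ l : F.L →* ℂˣ, indFun F.L (lc l) = (Nat.card K : ℂ) • oneAt K := by
      rw [← indFun_sum, sum_all_lc F.L F.torus_L.comm, indFun_smul, indFun_oneAt, smul_smul,
        ← Nat.cast_mul, F.L.card_mul_index]
    have hsA : ∑ θ : F.A →* ℂˣ, indFun F.A (lc θ) = (Nat.card K : ℂ) • oneAt K := by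
      rw [← indFun_sum, sum_all_lc F.A F.torus_A.comm, indFun_smul, indFun_oneAt, smul_smul,
        ← Nat.cast_mul, F.A.card_mul_index]
    have hcL : (Fintype.card (F.L →* ℂˣ) : ℂ) = n := by
      let _ : CommGroup F.L :=
        { (inferInstance : Group F.L) with
          mul_comm := fun a b => Subtype.ext (F.torus_L.comm a a.2 b b.2) }
      rw [← Nat.card_eq_fintype_card, CommGroup.card_monoidHom_of_hasEnoughRootsOfUnity F.L ℂ,
        F.card_L]
    have hcA : (Fintype.card (F.A →* ℂˣ) : ℂ) = m := by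
      let _ : CommGroup F.A :=
        { (inferInstance : Group F.A) with
          mul_comm := fun a b => Subtype.ext (F.torus_A.comm a a.2 b b.2) }
      rw [← Nat.card_eq_fintype_card, CommGroup.card_monoidHom_of_hasEnoughRootsOfUnity F.A ℂ,
        F.card_A]
    simp only [Q, P, Finset.sum_sub_distrib, Finset.sum_const, Finset.card_univ, hsL, hsA,
      ← Nat.cast_smul_eq_nsmul ℂ, hcL, hcA, smul_smul, h.cast_n]
    module
  rw [hA, hL] at hsum
  funext x
  have h1 := congrFun hsum x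
  simp only [fX, Xi, indFun_add, Pi.add_apply, Pi.neg_apply, Pi.smul_apply, smul_eq_mul,
    Pi.sub_apply, Dl, Ep] at h1 ⊢
  fin_cases i <;>
    simp only [Fin.zero_eta, Fin.mk_one, if_pos, one_ne_zero, if_false] <;>
    linear_combination (1 / 2 : ℂ) * h1

theorem fX_gen (i : Fin 2) : IsGeneralizedCharacter K (F.fX Ψ i) := by
  refine isGeneralizedCharacter_add (isGeneralizedCharacter_add
    (isGeneralizedCharacter_sum _ _ fun θ _ => F.P_gen Ψ θ)
    (isGeneralizedCharacter_sum _ _ fun l _ => F.Q_gen Ψ l)) (F.Ep_gen _)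

theorem fX_classFun (i : Fin 2) : IsClassFunction K (F.fX Ψ i) :=
  isClassFunction_of_isGeneralized (F.fX_gen Ψ h i)

theorem fX_oddSupp (i : Fin 2) : ReeType.Setup.OddSupp (F.fX Ψ i) := fun x hx => by
  simp only [F.fX_eq Ψ h, Pi.add_apply, Pi.smul_apply, Dl, Pi.sub_apply, F.P_oddSupp Ψ h _ x hx,
    F.Q_oddSupp Ψ h _ x hx, F.Ep_oddSupp h _ x hx]
  simp

theorem inner_fX_fX (i j : Fin 2) :
    classInner (F.fX Ψ i) (F.fX Ψ j) = if i = j then 2 else 1 := by
  rw [F.fX_eq Ψ h, F.fX_eq Ψ h]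
  simp only [classInner_add_left, classInner_add_right, classInner_smul_left, classInner_smul_right,
    F.inner_P_P Ψ h, F.inner_Q_Q Ψ h, F.inner_Q_P Ψ h, ← classInner_conj (F.Q Ψ 1) (F.P Ψ 1),
    F.inner_Dl_Dl Ψ h, F.inner_P_Dl Ψ h, F.inner_Q_Dl Ψ h, ← classInner_conj (F.P Ψ 1) (F.Dl Ψ),
    ← classInner_conj (F.Q Ψ 1) (F.Dl Ψ), homOneInv, map_zero]
  fin_cases i <;> fin_cases j <;> norm_num [map_div₀, map_ofNat, homOneInv]

theorem inner_fX_Q (i : Fin 2) (l : F.L →* ℂˣ) :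
    classInner (F.fX Ψ i) (F.Q Ψ l) = if l = 1 then -1 else 0 := by
  rw [F.fX_eq Ψ h]
  simp only [classInner_add_left, classInner_smul_left, F.inner_Q_Q Ψ h,
    ← classInner_conj (F.Q Ψ l) (F.P Ψ 1), F.inner_Q_P Ψ h,
    ← classInner_conj (F.Q Ψ l) (F.Dl Ψ), F.inner_Q_Dl Ψ h, map_zero]
  by_cases e : l = 1
  · subst e; norm_num [homOneInv]
  · rw [if_neg (Ne.symm e), if_neg (fun e' => e (homInvOne.1 e'.symm)), if_neg e]; ring

theorem inner_fX_P (i : Fin 2) (θ : F.A →* ℂˣ) :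
    classInner (F.fX Ψ i) (F.P Ψ θ) = if θ = 1 then -2 else 0 := by
  rw [F.fX_eq Ψ h]
  simp only [classInner_add_left, classInner_smul_left, F.inner_P_P Ψ h, F.inner_Q_P Ψ h,
    ← classInner_conj (F.P Ψ θ) (F.Dl Ψ), F.inner_P_Dl Ψ h, map_zero]
  by_cases e : θ = 1
  · subst e; norm_num [homOneInv]
  · rw [if_neg (Ne.symm e), if_neg (fun e' => e (homInvOne.1 e'.symm)), if_neg e]; ring

theorem inner_fX_one (i : Fin 2) : classInner (F.fX Ψ i) (fun _ => 1) = 0 := by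
  rw [F.fX_eq Ψ h]
  simp only [classInner_add_left, classInner_smul_left, F.inner_P_one Ψ h, F.inner_Q_one Ψ h,
    F.inner_one_Dl Ψ h, if_pos]
  ring

end Frame

end CfsgLib.ReeType.Five
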