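import Cfsg.Agent.Lib.Ree.Five.Fd
import Cfsg.Agent.Lib.Ree.Coherence

/-!
# The orbit: the values at `t`, the number of involutions, the remainder of `F_φ`
-/

set_option autoImplicit false
set_option linter.unusedSectionVars false

namespace CfsgLib.ReeType.Five

open scoped ComplexConjugate
open Subgroup Cfsg CfsgLib.Char CfsgLib.Char.Signed

universe u

attribute [local instance] _root_.Classical.propDecidable

variable {G : Type u} [Group G] [Fintype G] {q m n : ℕ}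

namespace Ctx

variable {T : Setup G q m n} {C : Ctx T} {φ : C.F.A →* ℂˣ} (E : C.Exc φ)

theorem YY (i j : Fin 3) : iq (E.Y i) (E.Y j) = if i = j then 1 else 0 := by
  rcases eq_or_ne i j with rfl | h
  · rw [if_pos rfl]; exact (E.sgY i).iq_self
  · rw [if_neg h]; exact E.orth i j h

theorem LP_Z (k : Fin 3) : iq (C.LP (C.th φ k)) E.Z = 1 := iq_eq 1 (by
  rw [E.dec k]
  simp only [classInner_add_left, classInner_sub_left, classInner_smul_left, E.sgZ.2,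
    iq_spec (E.sgY _).gen E.sgZ.gen, iq_comm (E.sgY _).gen E.sgZ.gen, E.orthZ]
  simp)

theorem LP_Y (k j : Fin 3) : iq (C.LP (C.th φ k)) (E.Y j) = 2 * (if k = j then 1 else 0) - 1 :=
  iq_eq _ (by
    rw [E.dec k]
    simp only [classInner_add_left, classInner_sub_left, classInner_smul_left,
      iq_spec E.sgZ.gen (E.sgY j).gen, iq_spec (E.sgY _).gen (E.sgY j).gen, E.orthZ, YY]
    fin_cases j <;> fin_cases k <;> simp <;> norm_num)

theorem LP_inv (θ : C.F.A →* ℂˣ) : C.LP θ⁻¹ = C.LP θ :=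
  congrArg T.lift (C.F.P_inv C.Ψ C.facts θ)

variable (hφ : φ ≠ 1)
include hφ

theorem other_zero {θ : C.F.A →* ℂˣ} (hθ : θ ≠ 1)
    (hk : ∀ k, θ ≠ C.th φ k ∧ θ ≠ (C.th φ k)⁻¹) {V : G → ℂ} (hV : V = E.Z ∨ ∃ j, V = E.Y j) :
    iq (C.LP θ) V = 0 := by
  obtain ⟨h1, h2, h3⟩ := coef_other E (f := C.F.P C.Ψ θ) (C.F.P_gen _ _)
    (C.F.P_oddSupp C.Ψ C.facts _) fun k => by
      rw [C.F.inner_P_P C.Ψ C.facts, if_neg (hk k).1, if_neg (hk k).2, add_zero, mul_zero]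
  have hn : iq (C.LP θ) (C.LP θ) = 4 := iq_eq _ (by
    rw [C.LP_LP, if_pos rfl, if_neg (C.ne_inv hθ)]; norm_num)
  have hc0 : iq (C.LP θ) E.Z = 0 := by
    by_contra hne
    have hsq := sq_pos_of_ne_zero hne
    have h2' : 4 * iq (C.LP θ) E.Z ^ 2 ≤ 4 := hn ▸ h2
    exact hne (h3 (by show 4 * iq (C.LP θ) E.Z ^ 2 = iq (C.LP θ) (C.LP θ); omega))
  rcases hV with rfl | ⟨j, rfl⟩
  · exact hc0
  · exact (h1 j).trans hc0

theorem LQ_zero (l : C.F.L →* ℂˣ) {V : G → ℂ} (hV : V = E.Z ∨ ∃ j, V = E.Y j) :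
    iq (C.LQ l) V = 0 := by
  rcases eq_or_ne l 1 with rfl | hl
  · exact (exc_zero hφ E hV).1
  obtain ⟨h1, h2, h3⟩ := coef_other E (f := C.F.Q C.Ψ l) (C.F.Q_gen _ _)
    (C.F.Q_oddSupp C.Ψ C.facts _) fun k => C.F.inner_Q_P C.Ψ C.facts _ _
  have hc0 : iq (C.LQ l) E.Z = 0 := by
    by_contra hne
    have hsq := sq_pos_of_ne_zero hne
    have h2' : 4 * iq (C.LQ l) E.Z ^ 2 ≤ 2 := (C.iq_LQ_LQ hl) ▸ h2
    omega
  rcases hV with rfl | ⟨j, rfl⟩
  · exact hc0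
  · exact (h1 j).trans hc0

theorem value_exc {V : G → ℂ} (hVg : Gen V) (hV : V = E.Z ∨ ∃ j, V = E.Y j) :
    V T.t = ((-2 * (n : ℤ) * ∑ k, iq (C.LP (C.th φ k)) V : ℤ) : ℂ) := by
  haveI : Finite (C.F.L →* ℂˣ) := CfsgLib.Char.finite_dual
  haveI : Finite (C.F.A →* ℂˣ) := CfsgLib.Char.finite_dual
  let _ := Fintype.ofFinite (C.F.L →* ℂˣ)
  let _ := Fintype.ofFinite (C.F.A →* ℂˣ)
  let pick : Fin 3 × Bool → (C.F.A →* ℂˣ) := fun z => bif z.2 then C.th φ z.1 else (C.th φ z.1)⁻¹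
  obtain ⟨h0, h1⟩ := C.th_spec hφ
  have hpick : Function.Injective pick := by
    rintro ⟨i, s⟩ ⟨j, r⟩ e
    by_cases hij : i = j
    · subst hij
      cases s <;> cases r <;> simp only [pick, cond_true, cond_false] at e
      · rfl
      · exact absurd e.symm (C.ne_inv (h0 i))
      · exact absurd e (C.ne_inv (h0 i))
      · rfl
    · cases s <;> cases r <;> simp only [pick, cond_true, cond_false] at e
      · exact absurd (by rw [← homInvInv (C.th φ i), e, homInvInv]) (h1 i j hij).1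
      · exact absurd e.symm (h1 j i (Ne.symm hij)).2
      · exact absurd e (h1 i j hij).2
      · exact absurd e (h1 i j hij).1
  have hsum : ∑ θ : C.F.A →* ℂˣ, iq (C.LP θ) V = 2 * ∑ k, iq (C.LP (C.th φ k)) V := by
    rw [← Finset.sum_subset (Finset.subset_univ (Finset.univ.image pick)) fun θ _ hθ => by
      rcases eq_or_ne θ 1 with rfl | h
      · rw [C.iq_LP_one hVg, kap, (exc_zero hφ E hV).1, (exc_zero hφ E hV).2,
          (exc_zero hφ E hV).2]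
        norm_num
      · refine other_zero E hφ h (fun k => ⟨fun e => hθ ?_, fun e => hθ ?_⟩) hV
        · exact Finset.mem_image.2 ⟨(k, true), Finset.mem_univ _, e.symm⟩
        · exact Finset.mem_image.2 ⟨(k, false), Finset.mem_univ _, e.symm⟩,
      Finset.sum_image fun a _ b _ e => hpick e, Fintype.sum_prod_type, Finset.mul_sum]
    refine Finset.sum_congr rfl fun k _ => ?_
    rw [Fintype.sum_bool]
    show iq (C.LP (C.th φ k)) V + iq (C.LP (C.th φ k)⁻¹) V = _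
    rw [LP_inv]
    ring
  rw [C.value_gen hVg, hsum, Finset.sum_eq_zero fun l _ => LQ_zero E hφ l hV]
  congr 1
  ring

theorem Z_t : E.Z T.t = (-6 * n : ℂ) := by
  rw [value_exc E hφ E.sgZ.gen (Or.inl rfl)]
  simp only [LP_Z, Fin.sum_univ_three]
  push_cast
  ring

theorem Y_t (j : Fin 3) : E.Y j T.t = (2 * n : ℂ) := by
  rw [value_exc E hφ (E.sgY j).gen (Or.inr ⟨j, rfl⟩)]
  simp only [LP_Y, Fin.sum_univ_three]
  fin_cases j <;> simp <;> ring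

/-- The number of involutions. -/
theorem D_eq : (q : ℤ) ^ 2 * E.D = -2 * (n : ℤ) * (Nat.card {x : G // IsConj T.t x} : ℤ) := by
  have hI : (Nat.card {x : G // IsConj T.t x} : ℂ) ≠ 0 := by
    have : Nonempty {x : G // IsConj T.t x} := ⟨⟨T.t, IsConj.refl _⟩⟩
    exact_mod_cast Nat.card_pos.ne'
  have hq := T.qfun_lift (C.F.P_oddSupp C.Ψ C.facts (C.th φ 0))
  rw [C.F.sum_P_inv C.Ψ C.facts ((C.th_spec hφ).1 0)] at hq
  change qfun T.t (C.LP (C.th φ 0)) = _ at hq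
  rw [show C.LP (C.th φ 0) = E.Z + E.Y 0 - E.Y 1 - E.Y 2 by rw [E.dec 0]; module, qfun_sub, qfun_sub,
    qfun_add, qfun_sg _ E.sgZ, qfun_sg _ (E.sgY 0), qfun_sg _ (E.sgY 1), qfun_sg _ (E.sgY 2),
    Z_t E hφ, Y_t E hφ, Y_t E hφ, Y_t E hφ, E.one_Z, E.one_Y, E.one_Y, E.one_Y] at hq
  have hD : (E.D : ℂ) ≠ 0 := by exact_mod_cast E.D_ne
  have hn : (n : ℂ) ≠ 0 := by exact_mod_cast C.facts.n_pos.ne'
  field_simp at hq
  have h : (q : ℂ) ^ 2 * (E.D : ℂ) = -2 * (n : ℂ) * (Nat.card {x : G // IsConj T.t x} : ℂ) := by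
    refine mul_left_cancel₀ (by norm_num : (16 : ℂ) ≠ 0) ?_
    linear_combination hq
  exact_mod_cast h

/-- The number of involutions, as a multiple of `q²`. -/
theorem exists_J : ∃ J : ℕ, 0 < J ∧ Nat.card {x : G // IsConj T.t x} = q ^ 2 * J ∧
    E.D = -(2 * n : ℤ) * J := by
  have hd := D_eq E hφ
  set I := Nat.card {x : G // IsConj T.t x} with hIdef
  have hI : 0 < I := by
    have : Nonempty {x : G // IsConj T.t x} := ⟨⟨T.t, IsConj.refl _⟩⟩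
    exact Nat.card_pos
  have hcop : IsCoprime ((q : ℤ) ^ 2) (2 * (n : ℤ)) := by
    refine IsCoprime.pow_left ⟨-1, 1, ?_⟩
    have : (q : ℤ) + 1 = 2 * n := by exact_mod_cast C.facts.hn
    linarith
  have h1 : (q : ℤ) ^ 2 ∣ 2 * (n : ℤ) * I := ⟨-E.D, by linear_combination hd⟩
  have h2 := hcop.dvd_of_dvd_mul_left h1
  have h3 : q ^ 2 ∣ I := by exact_mod_cast h2
  obtain ⟨J, hJ⟩ := h3
  refine ⟨J, by rcases Nat.eq_zero_or_pos J with e | e <;> [simp [e] at hJ; exact e] <;> omega, hJ, ?_⟩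
  refine mul_left_cancel₀ (pow_ne_zero 2 (show (q : ℤ) ≠ 0 by exact_mod_cast C.facts.q_pos.ne')) ?_
  rw [hd, hJ]
  push_cast
  ring

theorem Fd_Y_diff (k : Fin 3) : C.Fd φ - C.Fd (C.th φ k) = E.Y k - E.Y 0 := by
  rw [← E.diff k, Fd, Fd]
  abel

/-- The coefficient of `F_φ` on the exceptional characters. -/
theorem Fd_Y : iq (C.Fd φ) (E.Y 0) = -1 := by
  let _ := Fintype.ofFinite C.F.A
  have hF := C.gen_Fd φ
  obtain ⟨h0, h1⟩ := C.th_spec hφ
  have hself : iq (C.Fd φ) (C.LP φ) = -1 := iq_eq _ (by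
    have hc1 := C.comp_ne hφ
    have hc2 := C.comp_ne_inv hφ
    have hd1 : (φ.comp C.cA).comp C.cA ≠ φ := (h1 2 0 (by decide)).1
    have hd2 : (φ.comp C.cA).comp C.cA ≠ φ⁻¹ := (h1 2 0 (by decide)).2
    have e : (1 : C.F.A →* ℂˣ) ≠ φ⁻¹ := fun e => hφ (homInvOne.1 e.symm)
    rw [C.Fd_LP, if_pos rfl, if_neg (C.ne_inv hφ), if_neg hc1, if_neg hc2, if_neg hd1, if_neg hd2,
      if_neg (Ne.symm hφ), if_neg e]
    norm_num)
  have hnext : ∀ k : Fin 3, k ≠ 0 → iq (C.Fd φ) (C.LP (C.th φ k)) = 1 := fun k hk => iq_eq _ (by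
    have a0 : φ ≠ C.th φ k ∧ φ ≠ (C.th φ k)⁻¹ := h1 0 k hk.symm
    have a3 : (1 : C.F.A →* ℂˣ) ≠ C.th φ k ∧ (1 : C.F.A →* ℂˣ) ≠ (C.th φ k)⁻¹ :=
      ⟨(h0 k).symm, fun e => h0 k (homInvOne.1 e.symm)⟩
    rw [C.Fd_LP, if_neg a0.1, if_neg a0.2, if_neg a3.1, if_neg a3.2]
    obtain rfl | rfl : k = 1 ∨ k = 2 := by omega
    · rw [show φ.comp C.cA = C.th φ 1 from rfl, show (C.th φ 1).comp C.cA = C.th φ 2 from rfl,
        if_pos rfl, if_neg (C.ne_inv (h0 1)), if_neg (h1 2 1 (by decide)).1,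
        if_neg (h1 2 1 (by decide)).2]
      norm_num
    · rw [show φ.comp C.cA = C.th φ 1 from rfl, show (C.th φ 1).comp C.cA = C.th φ 2 from rfl,
        if_neg (h1 1 2 (by decide)).1, if_neg (h1 1 2 (by decide)).2, if_pos rfl,
        if_neg (C.ne_inv (h0 2))]
      norm_num)
  set c := iq (C.Fd φ) (E.Y 0) with hc
  set z := iq (C.Fd φ) E.Z with hz
  have hdec : ∀ k, iq (C.Fd φ) (C.LP (C.th φ k)) = z - (iq (C.Fd φ) (E.Y 0) + iq (C.Fd φ) (E.Y 1) +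
      iq (C.Fd φ) (E.Y 2)) + 2 * iq (C.Fd φ) (E.Y k) := fun k => by
    refine iq_eq _ ?_
    rw [E.dec k, classInner_add_right, classInner_sub_right, classInner_add_right, classInner_add_right,
      classInner_smul_right, map_ofNat, iq_spec hF E.sgZ.gen, iq_spec hF (E.sgY 0).gen,
      iq_spec hF (E.sgY 1).gen, iq_spec hF (E.sgY 2).gen, iq_spec hF (E.sgY k).gen, hz]
    push_cast
    rfl
  have e0 := hdec 0
  have e1 := hdec 1
  have e2 := hdec 2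
  rw [show C.th φ 0 = φ from rfl, hself] at e0
  rw [hnext 1 (by decide)] at e1
  rw [hnext 2 (by decide)] at e2
  have hb := Orth.bessel (G := G) (l := [E.Z, E.Y 0, E.Y 1, E.Y 2]) ⟨fun v hv => by
      simp only [List.mem_cons, List.not_mem_nil, or_false] at hv
      rcases hv with rfl | rfl | rfl | rfl
      exacts [E.sgZ, E.sgY 0, E.sgY 1, E.sgY 2],
    by simp [List.pairwise_cons, E.orthZ, E.orth]⟩ hF
  simp only [List.map_cons, List.map_nil, List.sum_cons, List.sum_nil, add_zero, C.Fd_Fd hφ,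
    ← hc, ← hz] at hb
  rw [← hc] at e0 e1 e2
  have p1 : iq (C.Fd φ) (E.Y 1) = c + 1 := by omega
  have p2 : iq (C.Fd φ) (E.Y 2) = c + 1 := by omega
  have pz : z = c + 1 := by omega
  rw [p1, p2, pz] at hb
  obtain hcc | hcc : c = -1 ∨ c = 0 := by
    have a : -1 ≤ c := by nlinarith
    have b : c ≤ 0 := by nlinarith
    omega
  · exact hcc
  exfalso
  have hS : Gen (E.Z + (E.Y 1 + E.Y 2)) :=
    isGeneralizedCharacter_add E.sgZ.gen (isGeneralizedCharacter_add (E.sgY 1).gen (E.sgY 2).gen)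
  have hd : C.Fd φ - (E.Z + (E.Y 1 + E.Y 2)) = 0 := by
    refine eq_zero_of_iq_self (isGeneralizedCharacter_sub hF hS) (iq_eq 0 ?_)
    simp only [classInner_sub_left, classInner_sub_right, classInner_add_left, classInner_add_right,
      iq_spec hF hF, iq_spec hF E.sgZ.gen, iq_spec hF (E.sgY _).gen, iq_spec E.sgZ.gen hF,
      iq_spec (E.sgY _).gen hF, iq_spec E.sgZ.gen (E.sgY _).gen, iq_spec (E.sgY _).gen E.sgZ.gen,
      iq_spec (E.sgY _).gen (E.sgY _).gen, E.sgZ.2, iq_comm E.sgZ.gen hF, iq_comm (E.sgY _).gen hF,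
      iq_comm (E.sgY _).gen E.sgZ.gen, E.orthZ, YY, C.Fd_Fd hφ, ← hz, p1, p2, pz, hcc]
    norm_num [show (1 : Fin 3) ≠ 2 by decide, show (2 : Fin 3) ≠ 1 by decide]
  have h := congrFun hd 1
  rw [Pi.sub_apply, Pi.add_apply, Pi.add_apply, C.Fd_one, E.one_Z, E.one_Y, E.one_Y,
    Pi.zero_apply] at h
  exact E.D_ne (by
    have : (E.D : ℂ) = 0 := by linear_combination (-1 / 3 : ℂ) * h
    exact_mod_cast this)

/-- The remainder of `F_φ`. -/
theorem exists_R : ∃ R : G → ℂ, Gen R ∧ iq R R = 2 ∧ R 1 = (E.D : ℂ) ∧ R T.t = (2 * n : ℂ) ∧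
    qfun T.t R = (2 * n : ℂ) ^ 2 / (E.D : ℂ) ∧ iq R C.LM = 0 ∧ (∀ i, iq R (C.LX i) = 1) ∧
    (iq R (fun _ => 1) = 0) ∧ ∀ χ, C.Row χ → iq (C.Fd φ) χ = iq R χ := by
  refine ⟨C.Fd φ + E.Y 0, isGeneralizedCharacter_add (C.gen_Fd φ) (E.sgY 0).gen, ?_, ?_, ?_, ?_, ?_,
    fun i => ?_, ?_, fun χ hχ => ?_⟩
  · rw [iq_add_left (C.gen_Fd φ) (E.sgY 0).gen (isGeneralizedCharacter_add (C.gen_Fd φ) (E.sgY 0).gen),
      iq_add_right (C.gen_Fd φ) (C.gen_Fd φ) (E.sgY 0).gen,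
      iq_add_right (E.sgY 0).gen (C.gen_Fd φ) (E.sgY 0).gen, C.Fd_Fd hφ,
      iq_comm (E.sgY 0).gen (C.gen_Fd φ), Fd_Y E hφ, (E.sgY 0).iq_self]
    norm_num
  · rw [Pi.add_apply, C.Fd_one, zero_add, E.one_Y]
  · rw [Pi.add_apply, C.Fd_t, zero_add, Y_t E hφ]
  · rw [qfun_add, C.qfun_Fd, zero_add, qfun_sg _ (E.sgY 0), Y_t E hφ, E.one_Y]
  · rw [iq_add_left (C.gen_Fd φ) (E.sgY 0).gen C.gen_LM, C.Fd_LM, zero_add,
      iq_comm (E.sgY 0).gen C.gen_LM, (exc_zero hφ E (Or.inr ⟨0, rfl⟩)).1]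
  · rw [iq_add_left (C.gen_Fd φ) (E.sgY 0).gen (C.gen_LX i), C.Fd_LX hφ,
      iq_comm (E.sgY 0).gen (C.gen_LX i), (exc_zero hφ E (Or.inr ⟨0, rfl⟩)).2, add_zero]
  · have h1 : Row C (fun _ : G => (1 : ℂ)) :=
      ⟨ReeType.sg_one, Or.inl (by rw [C.LM_one_inner]; norm_num)⟩
    rw [iq_add_left (C.gen_Fd φ) (E.sgY 0).gen h1.1.gen, C.Fd_one_inner, zero_add,
      h1.iq_exc hφ E (Or.inr ⟨0, rfl⟩)]
  · rw [iq_add_left (C.gen_Fd φ) (E.sgY 0).gen hχ.1.gen, hχ.iq_exc hφ E (Or.inr ⟨0, rfl⟩), add_zero]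

end Ctx

end CfsgLib.ReeType.Five
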