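import Cfsg.Agent.Lib.Ree.Five.Cusp

/-!
# The lifts `M`, `X_0`, `X_1` and their constituents
-/

set_option autoImplicit false
set_option linter.unusedSectionVars false

namespace CfsgLib.ReeType.Five

open scoped ComplexConjugate
open Subgroup Cfsg CfsgLib.Char CfsgLib.Char.Signed
open CfsgLib.ReeType.Setup (OddSupp)

universe u

attribute [local instance] _root_.Classical.propDecidable

variable {G : Type u} [Group G] [Fintype G] {q m n : ℕ}

theorem iq_sum_left' {ι : Type*} (s : Finset ι) (f : ι → G → ℂ) (hf : ∀ i, Gen (f i)) {χ : G → ℂ}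
    (hχ : Gen χ) : iq (∑ i ∈ s, f i) χ = ∑ i ∈ s, iq (f i) χ := by
  refine iq_eq _ ?_
  rw [classInner_sum_left, Int.cast_sum]
  exact Finset.sum_congr rfl fun i _ => iq_spec (hf i) hχ

namespace Ctx

variable {T : Setup G q m n} {C : Ctx T}

section Exc

variable {φ : C.F.A →* ℂˣ} (E : C.Exc φ)

/-- The coefficients of a function orthogonal to the orbit. -/
theorem coef_other {f : T.K → ℂ} (hfg : IsGeneralizedCharacter T.K f) (hf : OddSupp f)
    (horth : ∀ k, classInner f (C.F.P C.Ψ (C.th φ k)) = 0) :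
    (∀ k, iq (T.lift f) (E.Y k) = iq (T.lift f) E.Z) ∧
      4 * iq (T.lift f) E.Z ^ 2 ≤ iq (T.lift f) (T.lift f) ∧
      (4 * iq (T.lift f) E.Z ^ 2 = iq (T.lift f) (T.lift f) → iq (T.lift f) E.Z = 0) := by
  set Ψ := T.lift f with hΨ
  have hP : Gen Ψ := T.gen_lift hfg
  have hzero : ∀ k, classInner Ψ (C.LP (C.th φ k)) = 0 := fun k => by
    rw [hΨ, LP, T.inner_lift hf (C.F.P_oddSupp C.Ψ C.facts _) (C.F.P_classFun _ _), horth k, mul_zero]
  have he : ∀ k, iq Ψ E.Z - (iq Ψ (E.Y 0) + iq Ψ (E.Y 1) + iq Ψ (E.Y 2)) + 2 * iq Ψ (E.Y k) = 0 := by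
    intro k
    have h := hzero k
    rw [E.dec k, classInner_add_right, classInner_sub_right, classInner_add_right, classInner_add_right,
      classInner_smul_right, map_ofNat, iq_spec hP E.sgZ.gen, iq_spec hP (E.sgY 0).gen,
      iq_spec hP (E.sgY 1).gen, iq_spec hP (E.sgY 2).gen, iq_spec hP (E.sgY k).gen] at h
    exact_mod_cast h
  have h0 := he 0
  have h1 := he 1
  have h2 := he 2
  set c := iq Ψ E.Z with hc
  have hy : ∀ k, iq Ψ (E.Y k) = c := by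
    intro k
    fin_cases k <;> simp only [Fin.zero_eta, Fin.mk_one, Fin.reduceFinMk] <;> omega
  refine ⟨hy, ?_⟩
  set W := E.Z + (E.Y 0 + E.Y 1 + E.Y 2) with hW
  have g01 : Gen (E.Y 0 + E.Y 1) := isGeneralizedCharacter_add (E.sgY 0).gen (E.sgY 1).gen
  have g012 : Gen (E.Y 0 + E.Y 1 + E.Y 2) := isGeneralizedCharacter_add g01 (E.sgY 2).gen
  have hWg : Gen W := isGeneralizedCharacter_add E.sgZ.gen g012
  have hiW : ∀ v : G → ℂ, Gen v →
      iq v W = iq v E.Z + (iq v (E.Y 0) + iq v (E.Y 1) + iq v (E.Y 2)) := fun v hv => by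
    rw [hW, iq_add_right hv E.sgZ.gen g012, iq_add_right hv g01 (E.sgY 2).gen,
      iq_add_right hv (E.sgY 0).gen (E.sgY 1).gen]
  have hWW : iq W W = 4 := by
    rw [hiW W hWg, iq_comm hWg E.sgZ.gen, hiW _ E.sgZ.gen]
    rw [iq_comm hWg (E.sgY 0).gen, iq_comm hWg (E.sgY 1).gen, iq_comm hWg (E.sgY 2).gen,
      hiW _ (E.sgY 0).gen, hiW _ (E.sgY 1).gen, hiW _ (E.sgY 2).gen]
    simp only [iq_comm (E.sgY _).gen E.sgZ.gen, E.orthZ, E.sgZ.iq_self, (E.sgY _).iq_self]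
    simp only [E.orth 0 1 (by decide), E.orth 0 2 (by decide), E.orth 1 0 (by decide),
      E.orth 1 2 (by decide), E.orth 2 0 (by decide), E.orth 2 1 (by decide)]
    norm_num
  have hPW : iq Ψ W = 4 * c := by rw [hiW Ψ hP, hy, hy, hy, ← hc]; ring
  have hcW : Gen ((c : ℂ) • W) := Gen.zsmul hWg c
  have hd : Gen (Ψ - (c : ℂ) • W) := isGeneralizedCharacter_sub hP hcW
  have hn : iq (Ψ - (c : ℂ) • W) (Ψ - (c : ℂ) • W) = iq Ψ Ψ - 4 * c ^ 2 := by
    rw [iq_sub_left hP hcW hd, iq_sub_right hP hP hcW, iq_sub_right hcW hP hcW,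
      iq_smul_left hWg hP, iq_smul_left hWg hcW, iq_smul_right hP hWg, iq_smul_right hWg hWg,
      iq_comm hWg hP, hPW, hWW]
    ring
  have hnn := iq_self_nonneg hd
  rw [hn] at hnn
  refine ⟨by linarith, fun heq => ?_⟩
  have h3 := congrFun (eq_zero_of_iq_self hd (by rw [hn]; omega)) 1
  rw [Pi.sub_apply, hΨ, T.lift_one, Pi.smul_apply, hW, Pi.add_apply, Pi.add_apply, Pi.add_apply,
    E.one_Z, E.one_Y, E.one_Y, E.one_Y, Pi.zero_apply, smul_eq_mul] at h3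
  have h4 : c * E.D = 0 := by
    have : ((c * E.D : ℤ) : ℂ) = 0 := by push_cast; linear_combination (-1 / 4 : ℂ) * h3
    exact_mod_cast this
  exact (mul_eq_zero.1 h4).resolve_right E.D_ne

end Exc

variable (C)

/-- The lift of `Q_λ`. -/
noncomputable def LQ (l : C.F.L →* ℂˣ) : G → ℂ := T.lift (C.F.Q C.Ψ l)

/-- The lift of `Q_1`. -/
noncomputable def LM : G → ℂ := C.LQ 1

/-- The lift of a half sum. -/
noncomputable def LX (i : Fin 2) : G → ℂ := T.lift (C.F.fX C.Ψ i)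

theorem gen_LQ (l : C.F.L →* ℂˣ) : Gen (C.LQ l) := T.gen_lift (C.F.Q_gen _ _)

theorem gen_LM : Gen C.LM := C.gen_LQ 1

theorem gen_LX (i : Fin 2) : Gen (C.LX i) := T.gen_lift (C.F.fX_gen C.Ψ C.facts i)

theorem LQ_LQ (l l' : C.F.L →* ℂˣ) : classInner (C.LQ l) (C.LQ l') =
    2 * ((if l = l' then 1 else 0) + (if l = l'⁻¹ then 1 else 0) : ℂ) := by
  rw [LQ, LQ, T.inner_lift (C.F.Q_oddSupp C.Ψ C.facts _) (C.F.Q_oddSupp C.Ψ C.facts _)
    (C.F.Q_classFun _ _), C.F.inner_Q_Q C.Ψ C.facts]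
  congr!

theorem LX_LQ (i : Fin 2) (l : C.F.L →* ℂˣ) :
    classInner (C.LX i) (C.LQ l) = if l = 1 then -2 else 0 := by
  rw [LX, LQ, T.inner_lift (C.F.fX_oddSupp C.Ψ C.facts _) (C.F.Q_oddSupp C.Ψ C.facts _)
    (C.F.Q_classFun _ _), C.F.inner_fX_Q C.Ψ C.facts]
  split_ifs <;> norm_num

theorem iq_LM_LM : iq C.LM C.LM = 4 := iq_eq _ (by
  rw [LM, C.LQ_LQ, if_pos rfl, if_pos homOneInv.symm]; norm_num)

theorem iq_LX_LX (i j : Fin 2) : iq (C.LX i) (C.LX j) = if i = j then 4 else 2 := iq_eq _ (by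
  rw [LX, LX, T.inner_lift (C.F.fX_oddSupp C.Ψ C.facts _) (C.F.fX_oddSupp C.Ψ C.facts _)
    (C.F.fX_classFun C.Ψ C.facts _), C.F.inner_fX_fX C.Ψ C.facts]
  split_ifs <;> norm_num)

theorem iq_LX_LM (i : Fin 2) : iq (C.LX i) C.LM = -2 := iq_eq _ (by
  rw [LM, C.LX_LQ, if_pos rfl]; norm_num)

theorem iq_LQ_LQ {l : C.F.L →* ℂˣ} (hl : l ≠ 1) : iq (C.LQ l) (C.LQ l) = 2 := iq_eq _ (by
  rw [C.LQ_LQ, if_pos rfl, if_neg (hom_ne_inv (by rw [C.F.card_L]; exact C.facts.data.mo_odd) hl)]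
  norm_num)

theorem iq_LM_LQ {l : C.F.L →* ℂˣ} (hl : l ≠ 1) : iq C.LM (C.LQ l) = 0 := iq_eq _ (by
  rw [LM, C.LQ_LQ, if_neg (Ne.symm hl), if_neg (fun e => hl (homInvOne.1 e.symm))]; norm_num)

theorem iq_LX_LQ (i : Fin 2) {l : C.F.L →* ℂˣ} (hl : l ≠ 1) : iq (C.LX i) (C.LQ l) = 0 := iq_eq _ (by
  rw [C.LX_LQ, if_neg hl]; norm_num)

theorem LM_one_inner : iq C.LM (fun _ => 1) = 1 := iq_eq _ (by
  rw [LM, LQ, T.inner_lift_one, C.F.inner_Q_one C.Ψ C.facts, if_pos rfl]; norm_num)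

theorem LX_one_inner (i : Fin 2) : iq (C.LX i) (fun _ => 1) = 0 := iq_eq _ (by
  rw [LX, T.inner_lift_one, C.F.inner_fX_one C.Ψ C.facts]; norm_num)

theorem LQ_inv (l : C.F.L →* ℂˣ) : C.LQ l⁻¹ = C.LQ l := congrArg T.lift (C.F.Q_inv C.Ψ C.facts l)

theorem LP_one_eq : C.LP 1 = -(C.LM + (C.LX 0 + C.LX 1)) := by
  have h : C.F.P C.Ψ 1 = (-1 : ℂ) • (C.F.Q C.Ψ 1 + (C.F.fX C.Ψ 0 + C.F.fX C.Ψ 1)) := by
    rw [C.F.fX_eq C.Ψ C.facts, C.F.fX_eq C.Ψ C.facts, if_pos rfl, if_neg (by decide)]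
    module
  rw [LP, h, T.lift_smul, T.lift_add, T.lift_add, neg_one_smul]
  rfl

theorem value_gen [Fintype (C.F.L →* ℂˣ)] [Fintype (C.F.A →* ℂˣ)] {χ : G → ℂ} (hχ : Gen χ) :
    χ T.t = ((-2 * (m : ℤ) * ∑ l : C.F.L →* ℂˣ, iq (C.LQ l) χ
      - (n : ℤ) * ∑ θ : C.F.A →* ℂˣ, iq (C.LP θ) χ : ℤ) : ℂ) := by
  rw [← T.inner_lift_regular (isClassFunction_of_isGeneralized hχ), C.F.regular_eq C.Ψ C.facts,
    T.lift_add, T.lift_smul, T.lift_smul, T.lift_sum, T.lift_sum, classInner_add_right,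
    classInner_smul_right, classInner_smul_right, classInner_sum_right, classInner_sum_right]
  push_cast
  rw [Finset.sum_congr rfl (g := fun l => (iq (C.LQ l) χ : ℂ)) fun l _ => by
      rw [iq_comm (C.gen_LQ l) hχ]; exact iq_spec hχ (C.gen_LQ l),
    Finset.sum_congr rfl (g := fun θ => (iq (C.LP θ) χ : ℂ)) fun θ _ => by
      rw [iq_comm (C.gen_LP θ) hχ]; exact iq_spec hχ (C.gen_LP θ)]
  simp only [map_mul, map_neg, map_natCast, map_ofNat]
  ring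

/-- A constituent of one of the three lifts. -/
def Row (χ : G → ℂ) : Prop := Sg χ ∧ (iq C.LM χ ≠ 0 ∨ ∃ i, iq (C.LX i) χ ≠ 0)

variable {C}

theorem exc_zero {φ : C.F.A →* ℂˣ} (hφ : φ ≠ 1) (E : C.Exc φ) {V : G → ℂ}
    (hV : V = E.Z ∨ ∃ j, V = E.Y j) : iq C.LM V = 0 ∧ ∀ i, iq (C.LX i) V = 0 := by
  have key : ∀ f : T.K → ℂ, IsGeneralizedCharacter T.K f → OddSupp f →
      (∀ k, classInner f (C.F.P C.Ψ (C.th φ k)) = 0) → iq (T.lift f) (T.lift f) = 4 →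
      iq (T.lift f) V = 0 := by
    intro f hg ho horth hn
    obtain ⟨h1, h2, h3⟩ := coef_other E hg ho horth
    have hc : iq (T.lift f) E.Z = 0 := by
      by_contra hne
      have hsq := sq_pos_of_ne_zero hne
      exact hne (h3 (by omega))
    rcases hV with rfl | ⟨j, rfl⟩
    · exact hc
    · exact (h1 j).trans hc
  refine ⟨key _ (C.F.Q_gen _ _) (C.F.Q_oddSupp C.Ψ C.facts _)
    (fun k => C.F.inner_Q_P C.Ψ C.facts _ _) C.iq_LM_LM, fun i => key _ (C.F.fX_gen C.Ψ C.facts i)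
    (C.F.fX_oddSupp C.Ψ C.facts i) (fun k => ?_) ?_⟩
  · rw [C.F.inner_fX_P C.Ψ C.facts, if_neg ((C.th_spec hφ).1 k)]
  · exact (C.iq_LX_LX i i).trans (if_pos rfl)

theorem Row.iq_exc {χ : G → ℂ} (h : C.Row χ) {φ : C.F.A →* ℂˣ} (hφ : φ ≠ 1) (E : C.Exc φ)
    {V : G → ℂ} (hV : V = E.Z ∨ ∃ j, V = E.Y j) : iq V χ = 0 := by
  have hsV : Sg V := by
    rcases hV with rfl | ⟨j, rfl⟩
    · exact E.sgZ
    · exact E.sgY j
  obtain ⟨hM, hX⟩ := exc_zero hφ E hV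
  rcases hsV.iq_cases h.1 with e | ⟨-, e⟩ | ⟨-, e⟩
  · exact e
  · subst e
    rcases h.2 with h' | ⟨i, h'⟩
    exacts [absurd hM h', absurd (hX i) h']
  · subst e
    rw [iq_neg_right C.gen_LM h.1.gen, neg_eq_zero] at hM
    rcases h.2 with h' | ⟨i, h'⟩
    · exact absurd hM h'
    · have := hX i
      rw [iq_neg_right (C.gen_LX i) h.1.gen, neg_eq_zero] at this
      exact absurd this h'

theorem Row.iq_LP {χ : G → ℂ} (h : C.Row χ) {θ : C.F.A →* ℂˣ} (hθ : θ ≠ 1) :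
    iq (C.LP θ) χ = 0 := by
  obtain ⟨E⟩ := C.exists_exc hθ
  refine iq_eq 0 ?_
  have hd := E.dec 0
  rw [show C.th θ 0 = θ from rfl] at hd
  rw [hd]
  simp only [classInner_add_left, classInner_sub_left, classInner_smul_left,
    iq_spec E.sgZ.gen h.1.gen, iq_spec (E.sgY _).gen h.1.gen, h.iq_exc hθ E (Or.inl rfl),
    h.iq_exc hθ E (Or.inr ⟨_, rfl⟩)]
  simp

variable (C)

/-- The three coefficients and their combinations. -/
noncomputable def kap (χ : G → ℂ) : ℤ := iq C.LM χ + (iq (C.LX 0) χ + iq (C.LX 1) χ)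

theorem iq_LP_one {χ : G → ℂ} (hχ : Gen χ) : iq (C.LP 1) χ = -C.kap χ := by
  rw [C.LP_one_eq, iq_neg_left (isGeneralizedCharacter_add C.gen_LM
      (isGeneralizedCharacter_add (C.gen_LX 0) (C.gen_LX 1))) hχ,
    iq_add_left C.gen_LM (isGeneralizedCharacter_add (C.gen_LX 0) (C.gen_LX 1)) hχ,
    iq_add_left (C.gen_LX 0) (C.gen_LX 1) hχ, kap]

variable {C}

theorem row_value [Fintype (C.F.L →* ℂˣ)] {χ : G → ℂ} (h : C.Row χ) :
    χ T.t = ((iq C.LM χ + (n : ℤ) * (iq (C.LX 0) χ + iq (C.LX 1) χ) -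
      2 * (m : ℤ) * ∑ l ∈ (Finset.univ : Finset (C.F.L →* ℂˣ)).erase 1, iq (C.LQ l) χ : ℤ) : ℂ) := by
  haveI : Finite (C.F.A →* ℂˣ) := CfsgLib.Char.finite_dual
  let _ := Fintype.ofFinite (C.F.A →* ℂˣ)
  rw [C.value_gen h.1.gen, ← Finset.add_sum_erase _ _ (Finset.mem_univ (1 : C.F.L →* ℂˣ)),
    Finset.sum_eq_single (1 : C.F.A →* ℂˣ) (fun θ _ hθ => h.iq_LP hθ)
      (fun hn => absurd (Finset.mem_univ _) hn), C.iq_LP_one h.1.gen, kap]
  have hn : (n : ℤ) = 2 * m + 1 := by have := C.facts.hm; have := C.facts.hn; omega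
  congr 1
  rw [show C.LQ 1 = C.LM from rfl, hn]
  ring

theorem LQ_one (l : C.F.L →* ℂˣ) : C.LQ l 1 = 0 := T.lift_one _

theorem LM_one : C.LM 1 = 0 := T.lift_one _

theorem LX_one (i : Fin 2) : C.LX i 1 = 0 := T.lift_one _

theorem qfun_LQ {l : C.F.L →* ℂˣ} (hl : l ≠ 1) : qfun T.t (C.LQ l) = 0 := by
  rw [LQ, T.qfun_lift (C.F.Q_oddSupp C.Ψ C.facts l), C.F.sum_Q_inv C.Ψ C.facts, if_neg hl]
  simp

include C in
theorem m_ge : 3 ≤ m := by
  have h1 := C.facts.m_odd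
  obtain ⟨j, hj⟩ := h1
  have := C.X.one_lt_m
  omega

/-- The constituents are orthogonal to the lifts of the nontrivial `Q_λ`. -/
theorem Row.iq_LQ {χ : G → ℂ} (h : C.Row χ) (hb : -2 ≤ C.kap χ ∧ C.kap χ ≤ 2)
    (hne : C.kap χ ≠ 0 ∨ ¬ 2 ∣ iq (C.LX 0) χ + iq (C.LX 1) χ) {l : C.F.L →* ℂˣ} (hl : l ≠ 1) :
    iq (C.LQ l) χ = 0 := by
  haveI : Finite (C.F.L →* ℂˣ) := CfsgLib.Char.finite_dual
  let _ := Fintype.ofFinite (C.F.L →* ℂˣ)
  have hχ := h.1.gen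
  have hQ := C.gen_LQ l
  by_contra hne0
  set k := iq (C.LQ l) χ with hk
  have hk2 : k ^ 2 ≤ 2 := by
    have hb' := Orth.bessel (G := G) (l := [χ]) ⟨by simpa using h.1, by simp⟩ hQ
    simp only [List.map_cons, List.map_nil, List.sum_cons, List.sum_nil, add_zero, C.iq_LQ_LQ hl]
      at hb'
    exact hb'
  have hk1 : k = 1 ∨ k = -1 := by
    have a : k ≤ 1 := by nlinarith
    have b : -1 ≤ k := by nlinarith
    omega
  have hkk : k * k = 1 := by rcases hk1 with e | e <;> rw [e] <;> norm_num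
  set b := (k : ℂ) • C.LQ l - χ with hbdef
  have hkQ : Gen ((k : ℂ) • C.LQ l) := Gen.zsmul hQ k
  have hbg : Gen b := isGeneralizedCharacter_sub hkQ hχ
  have hiq : ∀ v : G → ℂ, Gen v → iq v b = k * iq v (C.LQ l) - iq v χ := fun v hv => by
    rw [hbdef, iq_sub_right hv hkQ hχ, iq_smul_right hv hQ]
  have hb1 : iq χ b = 0 := by
    rw [hiq χ hχ, iq_comm hχ hQ, ← hk, h.1.iq_self, hkk]; norm_num
  have hsb : Sg b := by
    refine Sg.of_iq hbg ?_
    rw [hiq b hbg, iq_comm hbg hQ, hiq _ hQ, iq_comm hbg hχ, hb1, C.iq_LQ_LQ hl, ← hk]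
    linear_combination hkk
  have hM : iq C.LM b = -iq C.LM χ := by rw [hiq _ C.gen_LM, C.iq_LM_LQ hl]; ring
  have hX : ∀ i, iq (C.LX i) b = -iq (C.LX i) χ := fun i => by
    rw [hiq _ (C.gen_LX i), C.iq_LX_LQ i hl]; ring
  have hrb : C.Row b := ⟨hsb, h.2.imp (fun e => by rw [hM]; omega) fun ⟨i, e⟩ => ⟨i, by
    rw [hX]; omega⟩⟩
  set s := ∑ l' ∈ (Finset.univ : Finset (C.F.L →* ℂˣ)).erase 1, iq (C.LQ l') χ with hs
  set s' := ∑ l' ∈ (Finset.univ : Finset (C.F.L →* ℂˣ)).erase 1, iq (C.LQ l') b with hs'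
  have hinv : l⁻¹ ≠ l := (hom_ne_inv (by rw [C.F.card_L]; exact C.facts.data.mo_odd) hl).symm
  have hsum : s + s' = 4 * k := by
    rw [hs, hs', ← Finset.sum_add_distrib, Finset.sum_congr rfl
      (g := fun l' => k * ((if l' = l then 2 else 0) + (if l' = l⁻¹ then 2 else 0))) fun l' hl' => by
        rw [hiq _ (C.gen_LQ l'), add_sub_cancel]
        refine congrArg (k * ·) (iq_eq _ ?_)
        rw [C.LQ_LQ]
        split_ifs <;> norm_num,
      ← Finset.mul_sum, Finset.sum_add_distrib, Finset.sum_ite_eq', Finset.sum_ite_eq',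
      if_pos (Finset.mem_erase.2 ⟨hl, Finset.mem_univ _⟩),
      if_pos (Finset.mem_erase.2 ⟨fun e => hl (homInvOne.1 e), Finset.mem_univ _⟩)]
    ring
  set v := iq C.LM χ + (n : ℤ) * (iq (C.LX 0) χ + iq (C.LX 1) χ) with hv
  have hχt : χ T.t = ((v - 2 * (m : ℤ) * s : ℤ) : ℂ) := row_value h
  have hbt : b T.t = ((-v - 2 * (m : ℤ) * s' : ℤ) : ℂ) := by
    rw [row_value hrb, ← hs', hM, hX, hX, hv]
    congr 1
    ring
  have hdeg : b 1 = -χ 1 := by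
    rw [hbdef, Pi.sub_apply, Pi.smul_apply, LQ_one, smul_zero, zero_sub]
  have hq0 : qfun T.t (χ + b) = 0 := by
    rw [show χ + b = (k : ℂ) • C.LQ l from add_sub_cancel _ _]
    rcases hk1 with e | e
    · rw [e, Int.cast_one, one_smul]; exact qfun_LQ hl
    · rw [e, show ((-1 : ℤ) : ℂ) • C.LQ l = (0 : G → ℂ) - C.LQ l by simp, qfun_sub, qfun_LQ hl]
      simp [qfun, classInner]
  rw [qfun_add, qfun_sg _ h.1, qfun_sg _ hsb, hdeg, hχt, hbt] at hq0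
  have hχ1 := h.1.apply_one_ne
  field_simp at hq0
  have hsq : (v - 2 * (m : ℤ) * s) ^ 2 = (-v - 2 * (m : ℤ) * s') ^ 2 := by
    have h1 : (((v - 2 * (m : ℤ) * s) ^ 2 : ℤ) : ℂ) = (((-v - 2 * (m : ℤ) * s') ^ 2 : ℤ) : ℂ) := by
      push_cast at hq0 ⊢
      linear_combination hq0
    exact_mod_cast h1
  have hm3 : (3 : ℤ) ≤ m := by exact_mod_cast C.m_ge
  have heq : v - 2 * (m : ℤ) * s = -4 * m * k := by
    rcases sq_eq_sq_iff_eq_or_eq_neg.1 hsq with e | e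
    · have h4 : (m : ℤ) * (s + s') = m * (4 * k) := by rw [hsum]
      linarith
    · exfalso
      have : (m : ℤ) * k = 0 := by
        have h4 : (m : ℤ) * (s + s') = 0 := by linarith
        rw [hsum] at h4
        linarith
      rcases mul_eq_zero.1 this with e' | e' <;> omega
  set K := C.kap χ with hK
  have hn : (n : ℤ) = 2 * m + 1 := by have := C.facts.hm; have := C.facts.hn; omega
  set c := iq (C.LX 0) χ + iq (C.LX 1) χ with hc
  have hvK : v = K + 2 * m * c := by rw [hv, hK, kap, ← hc, hn]; ring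
  have hKd : K = 2 * (m : ℤ) * (s - 2 * k - c) := by linarith
  have hK0 : K = 0 := by
    by_contra hK0
    rcases lt_trichotomy (s - 2 * k - c) 0 with e | e | e
    · nlinarith
    · rw [e, mul_zero] at hKd; exact hK0 hKd
    · nlinarith
  have hpar : 2 ∣ s := by
    have hL : Odd (Nat.card C.F.L) := by rw [C.F.card_L]; exact C.facts.data.mo_odd
    show ((2 : ℕ) : ℤ) ∣ s
    rw [hs, ← ZMod.intCast_zmod_eq_zero_iff_dvd, Int.cast_sum]
    refine Finset.sum_involution (fun l' _ => l'⁻¹) (fun l' _ => ?_)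
      (fun l' hl' _ => (hom_ne_inv hL (Finset.mem_erase.1 hl').1).symm)
      (fun l' hl' => Finset.mem_erase.2
        ⟨fun e => (Finset.mem_erase.1 hl').1 (homInvOne.1 e), Finset.mem_univ _⟩)
      (fun l' _ => homInvInv l')
    rw [LQ_inv, ← two_mul]
    exact mul_eq_zero_of_left (by decide) _
  rcases hne with e | e
  · exact e hK0
  · refine e ?_
    have h6 : s - 2 * k - c = 0 := by
      rcases mul_eq_zero.1 (hK0 ▸ hKd.symm : 2 * (m : ℤ) * (s - 2 * k - c) = 0) with e' | e'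
      · omega
      · exact e'
    omega

end Ctx

end CfsgLib.ReeType.Five
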